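/-
Generated certificate for the uniqueness of the Steiner system S(4,5,11).
-/
import Mathlib

set_option autoImplicit false
set_option maxRecDepth 100000

namespace Cfsg.Agent.Lib.Design.SmallWittData11

/-- The standard blocks. -/
def std : List ℕ := [31, 103, 121, 171, 182, 213, 218, 236, 301, 314, 334, 339, 372, 391, 412, 433, 457, 482, 558, 565, 587, 604, 626, 653, 659, 696, 710, 737, 790, 793, 803, 837, 872, 906, 932, 976, 1075, 1084, 1101, 1110, 1130, 1166, 1177, 1189, 1219, 1264, 1291, 1301, 1318, 1368, 1377, 1426, 1448, 1476, 1543, 1562, 1577, 1617, 1636, 1684, 1698, 1736, 1804, 1840, 1858, 1921]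

/-- The relabellings at the leaves. -/
def perms : List (List ℕ) := [
  [0,1,2,3,4,5,6,7,8,9,10],
  [0,1,2,3,4,6,5,9,10,7,8],
  [0,1,2,3,4,10,9,8,7,6,5],
  [0,1,2,3,4,9,10,6,5,8,7],
  [0,1,2,3,4,8,7,10,9,5,6],
  [0,1,2,3,4,7,8,5,6,10,9],
  [0,1,2,3,4,6,5,10,9,7,8],
  [0,1,2,3,4,5,6,7,8,10,9],
  [0,1,2,3,4,8,7,9,10,5,6],
  [0,1,2,3,4,7,8,5,6,9,10],
  [0,1,2,3,4,9,10,8,7,6,5],
  [0,1,2,3,4,10,9,6,5,8,7],
  [0,1,2,3,4,5,6,8,7,9,10],
  [0,1,2,3,4,6,5,9,10,8,7],
  [0,1,2,3,4,10,9,7,8,6,5],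
  [0,1,2,3,4,9,10,6,5,7,8],
  [0,1,2,3,4,7,8,10,9,5,6],
  [0,1,2,3,4,8,7,5,6,10,9],
  [0,1,2,3,4,6,5,10,9,8,7],
  [0,1,2,3,4,5,6,8,7,10,9],
  [0,1,2,3,4,7,8,9,10,5,6],
  [0,1,2,3,4,8,7,5,6,9,10],
  [0,1,2,3,4,9,10,7,8,6,5],
  [0,1,2,3,4,10,9,6,5,7,8],
  [0,1,2,3,4,7,8,6,5,10,9],
  [0,1,2,3,4,8,7,10,9,6,5],
  [0,1,2,3,4,9,10,5,6,8,7],
  [0,1,2,3,4,10,9,8,7,5,6],
  [0,1,2,3,4,5,6,9,10,7,8],
  [0,1,2,3,4,6,5,7,8,9,10],
  [0,1,2,3,4,9,10,5,6,7,8],
  [0,1,2,3,4,10,9,7,8,5,6],
  [0,1,2,3,4,8,7,6,5,10,9],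
  [0,1,2,3,4,7,8,10,9,6,5],
  [0,1,2,3,4,6,5,8,7,9,10],
  [0,1,2,3,4,5,6,9,10,8,7],
  [0,1,2,3,4,7,8,6,5,9,10],
  [0,1,2,3,4,8,7,9,10,6,5],
  [0,1,2,3,4,10,9,5,6,8,7],
  [0,1,2,3,4,9,10,8,7,5,6],
  [0,1,2,3,4,5,6,10,9,7,8],
  [0,1,2,3,4,6,5,7,8,10,9],
  [0,1,2,3,4,10,9,5,6,7,8],
  [0,1,2,3,4,9,10,7,8,5,6],
  [0,1,2,3,4,8,7,6,5,9,10],
  [0,1,2,3,4,7,8,9,10,6,5],
  [0,1,2,3,4,6,5,8,7,10,9],
  [0,1,2,3,4,5,6,10,9,8,7]]

def tree_0 : List (Sum ℕ (ℕ × ℕ)) :=
  [.inr (43, 4),
   .inr (523, 2),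
   .inr (267, 1),
   .inr (1059, 1),
   .inr (291, 1),
   .inr (275, 1),
   .inr (147, 1),
   .inr (195, 1),
   .inr (45, 3),
   .inr (525, 1),
   .inr (77, 1),
   .inr (549, 1),
   .inr (85, 1),
   .inr (277, 1),
   .inr (165, 1),
   .inr (325, 1),
   .inr (57, 1),
   .inr (553, 1),
   .inr (537, 1),
   .inr (153, 1),
   .inr (201, 1),
   .inr (177, 1),
   .inr (593, 1),
   .inr (225, 1),
   .inr (353, 1),
   .inr (897, 1),
   .inr (46, 2),
   .inr (270, 1),
   .inr (142, 1),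
   .inr (150, 1),
   .inr (278, 1),
   .inr (86, 1),
   .inr (294, 1),
   .inr (198, 1),
   .inr (58, 1),
   .inr (90, 1),
   .inr (538, 1),
   .inr (106, 1),
   .inr (394, 1),
   .inr (114, 1),
   .inr (402, 1),
   .inr (226, 1),
   .inr (674, 1),
   .inr (834, 1),
   .inr (60, 1),
   .inr (92, 1),
   .inr (156, 1),
   .inr (108, 1),
   .inr (780, 1),
   .inr (116, 1),
   .inr (660, 1),
   .inr (612, 1),
   .inr (420, 1),
   .inr (452, 1),
   .inr (184, 1),
   .inr (344, 1),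
   .inr (360, 1),
   .inr (424, 1),
   .inr (712, 1),
   .inr (240, 1),
   .inr (816, 1),
   .inr (464, 1),
   .inl 0,
   .inr (142, 1),
   .inr (270, 1),
   .inr (278, 1),
   .inr (150, 1),
   .inr (86, 1),
   .inr (166, 1),
   .inr (326, 1),
   .inr (58, 1),
   .inr (90, 1),
   .inr (154, 1),
   .inr (106, 1),
   .inr (650, 1),
   .inr (114, 1),
   .inr (786, 1),
   .inr (610, 1),
   .inr (418, 1),
   .inr (450, 1),
   .inr (60, 1),
   .inr (92, 1),
   .inr (540, 1),
   .inr (108, 1),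
   .inr (396, 1),
   .inr (116, 1),
   .inr (404, 1),
   .inr (228, 1),
   .inr (804, 1),
   .inr (708, 1),
   .inr (312, 1),
   .inr (216, 1),
   .inr (232, 1),
   .inr (424, 1),
   .inr (840, 1),
   .inr (368, 1),
   .inr (688, 1),
   .inr (464, 1),
   .inl 1,
   .inr (269, 1),
   .inr (141, 1),
   .inr (165, 1),
   .inr (293, 1),
   .inr (277, 1),
   .inr (85, 1),
   .inr (197, 1),
   .inr (537, 1),
   .inr (297, 1),
   .inr (89, 1),
   .inr (105, 1),
   .inr (393, 1),
   .inr (113, 1),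
   .inr (401, 1),
   .inr (225, 1),
   .inr (673, 1),
   .inr (833, 1),
   .inr (46, 2),
   .inr (526, 1),
   .inr (78, 1),
   .inr (54, 1),
   .inr (86, 1),
   .inr (278, 1),
   .inr (166, 1),
   .inr (326, 1),
   .inr (58, 1),
   .inr (538, 1),
   .inr (154, 1),
   .inr (554, 1),
   .inr (202, 1),
   .inr (178, 1),
   .inr (594, 1),
   .inr (226, 1),
   .inr (354, 1),
   .inr (898, 1),
   .inr (60, 1),
   .inr (92, 1),
   .inr (156, 1),
   .inr (108, 1),
   .inr (780, 1),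
   .inr (116, 1),
   .inr (660, 1),
   .inr (612, 1),
   .inr (420, 1),
   .inr (452, 1),
   .inr (184, 1),
   .inr (344, 1),
   .inr (360, 1),
   .inr (424, 1),
   .inr (712, 1),
   .inr (240, 1),
   .inr (816, 1),
   .inr (464, 1),
   .inl 2,
   .inr (78, 1),
   .inr (270, 1),
   .inr (86, 1),
   .inr (54, 1),
   .inr (150, 1),
   .inr (166, 1),
   .inr (326, 1),
   .inr (154, 1),
   .inr (538, 1),
   .inr (90, 1),
   .inr (106, 1),
   .inr (650, 1),
   .inr (114, 1),
   .inr (786, 1),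
   .inr (610, 1),
   .inr (418, 1),
   .inr (450, 1),
   .inr (60, 1),
   .inr (156, 1),
   .inr (284, 1),
   .inr (172, 1),
   .inr (588, 1),
   .inr (564, 1),
   .inr (212, 1),
   .inr (228, 1),
   .inr (356, 1),
   .inr (900, 1),
   .inr (184, 1),
   .inr (344, 1),
   .inr (232, 1),
   .inr (808, 1),
   .inr (456, 1),
   .inr (368, 1),
   .inr (432, 1),
   .inr (720, 1),
   .inl 3,
   .inr (293, 1),
   .inr (533, 1),
   .inr (149, 1),
   .inr (165, 1),
   .inr (141, 1),
   .inr (269, 1),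
   .inr (325, 1),
   .inr (153, 1),
   .inr (297, 1),
   .inr (57, 1),
   .inr (89, 1),
   .inr (649, 1),
   .inr (113, 1),
   .inr (785, 1),
   .inr (609, 1),
   .inr (417, 1),
   .inr (449, 1),
   .inr (46, 2),
   .inr (78, 1),
   .inr (142, 1),
   .inr (86, 1),
   .inr (54, 1),
   .inr (278, 1),
   .inr (166, 1),
   .inr (326, 1),
   .inr (58, 1),
   .inr (154, 1),
   .inr (282, 1),
   .inr (554, 1),
   .inr (202, 1),
   .inr (178, 1),
   .inr (594, 1),
   .inr (226, 1),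
   .inr (354, 1),
   .inr (898, 1),
   .inr (60, 1),
   .inr (92, 1),
   .inr (540, 1),
   .inr (108, 1),
   .inr (396, 1),
   .inr (116, 1),
   .inr (404, 1),
   .inr (228, 1),
   .inr (804, 1),
   .inr (708, 1),
   .inr (312, 1),
   .inr (216, 1),
   .inr (232, 1),
   .inr (424, 1),
   .inr (840, 1),
   .inr (368, 1),
   .inr (688, 1),
   .inr (464, 1),
   .inl 4,
   .inr (142, 1),
   .inr (78, 1),
   .inr (54, 1),
   .inr (86, 1),
   .inr (278, 1),
   .inr (294, 1),
   .inr (198, 1)]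

def tree_1 : List (Sum ℕ (ℕ × ℕ)) :=
  [.inr (154, 1),
   .inr (58, 1),
   .inr (538, 1),
   .inr (106, 1),
   .inr (394, 1),
   .inr (114, 1),
   .inr (402, 1),
   .inr (226, 1),
   .inr (674, 1),
   .inr (834, 1),
   .inr (60, 1),
   .inr (156, 1),
   .inr (284, 1),
   .inr (172, 1),
   .inr (588, 1),
   .inr (564, 1),
   .inr (212, 1),
   .inr (228, 1),
   .inr (356, 1),
   .inr (900, 1),
   .inr (184, 1),
   .inr (344, 1),
   .inr (232, 1),
   .inr (808, 1),
   .inr (456, 1),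
   .inr (368, 1),
   .inr (432, 1),
   .inr (720, 1),
   .inl 5,
   .inr (75, 1),
   .inr (547, 1),
   .inr (291, 1),
   .inr (275, 1),
   .inr (147, 1),
   .inr (195, 1),
   .inr (45, 3),
   .inr (1037, 1),
   .inr (77, 1),
   .inr (549, 1),
   .inr (53, 1),
   .inr (85, 1),
   .inr (277, 1),
   .inr (325, 1),
   .inr (57, 1),
   .inr (553, 1),
   .inr (537, 1),
   .inr (281, 1),
   .inr (201, 1),
   .inr (177, 1),
   .inr (593, 1),
   .inr (225, 1),
   .inr (353, 1),
   .inr (897, 1),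
   .inr (46, 2),
   .inr (142, 1),
   .inr (270, 1),
   .inr (278, 1),
   .inr (150, 1),
   .inr (86, 1),
   .inr (166, 1),
   .inr (326, 1),
   .inr (58, 1),
   .inr (90, 1),
   .inr (154, 1),
   .inr (106, 1),
   .inr (650, 1),
   .inr (114, 1),
   .inr (786, 1),
   .inr (610, 1),
   .inr (418, 1),
   .inr (450, 1),
   .inr (60, 1),
   .inr (92, 1),
   .inr (540, 1),
   .inr (108, 1),
   .inr (396, 1),
   .inr (116, 1),
   .inr (404, 1),
   .inr (228, 1),
   .inr (804, 1),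
   .inr (708, 1),
   .inr (312, 1),
   .inr (216, 1),
   .inr (232, 1),
   .inr (424, 1),
   .inr (840, 1),
   .inr (368, 1),
   .inr (688, 1),
   .inr (464, 1),
   .inl 6,
   .inr (270, 1),
   .inr (142, 1),
   .inr (150, 1),
   .inr (278, 1),
   .inr (86, 1),
   .inr (294, 1),
   .inr (198, 1),
   .inr (58, 1),
   .inr (90, 1),
   .inr (538, 1),
   .inr (106, 1),
   .inr (394, 1),
   .inr (114, 1),
   .inr (402, 1),
   .inr (226, 1),
   .inr (674, 1),
   .inr (834, 1),
   .inr (60, 1),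
   .inr (92, 1),
   .inr (156, 1),
   .inr (108, 1),
   .inr (780, 1),
   .inr (116, 1),
   .inr (660, 1),
   .inr (612, 1),
   .inr (420, 1),
   .inr (452, 1),
   .inr (184, 1),
   .inr (344, 1),
   .inr (360, 1),
   .inr (424, 1),
   .inr (712, 1),
   .inr (240, 1),
   .inr (816, 1),
   .inr (464, 1),
   .inl 7,
   .inr (293, 1),
   .inr (1045, 1),
   .inr (149, 1),
   .inr (165, 1),
   .inr (141, 1),
   .inr (269, 1),
   .inr (325, 1),
   .inr (153, 1),
   .inr (297, 1),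
   .inr (57, 1),
   .inr (89, 1),
   .inr (649, 1),
   .inr (113, 1),
   .inr (785, 1),
   .inr (609, 1),
   .inr (417, 1),
   .inr (449, 1),
   .inr (46, 2),
   .inr (78, 1),
   .inr (142, 1),
   .inr (86, 1),
   .inr (54, 1),
   .inr (278, 1),
   .inr (166, 1),
   .inr (326, 1),
   .inr (58, 1),
   .inr (154, 1),
   .inr (282, 1),
   .inr (554, 1),
   .inr (202, 1),
   .inr (178, 1),
   .inr (594, 1),
   .inr (226, 1),
   .inr (354, 1),
   .inr (898, 1),
   .inr (60, 1),
   .inr (92, 1),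
   .inr (540, 1),
   .inr (108, 1),
   .inr (396, 1),
   .inr (116, 1),
   .inr (404, 1),
   .inr (228, 1),
   .inr (804, 1),
   .inr (708, 1),
   .inr (312, 1),
   .inr (216, 1),
   .inr (232, 1),
   .inr (424, 1),
   .inr (840, 1),
   .inr (368, 1),
   .inr (688, 1),
   .inr (464, 1),
   .inl 8,
   .inr (142, 1),
   .inr (78, 1),
   .inr (54, 1),
   .inr (86, 1),
   .inr (278, 1),
   .inr (294, 1),
   .inr (198, 1),
   .inr (154, 1),
   .inr (58, 1),
   .inr (538, 1),
   .inr (106, 1),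
   .inr (394, 1),
   .inr (114, 1),
   .inr (402, 1),
   .inr (226, 1),
   .inr (674, 1),
   .inr (834, 1),
   .inr (60, 1),
   .inr (156, 1),
   .inr (284, 1),
   .inr (172, 1),
   .inr (588, 1),
   .inr (564, 1),
   .inr (212, 1),
   .inr (228, 1),
   .inr (356, 1),
   .inr (900, 1),
   .inr (184, 1),
   .inr (344, 1),
   .inr (232, 1),
   .inr (808, 1),
   .inr (456, 1),
   .inr (368, 1),
   .inr (432, 1),
   .inr (720, 1),
   .inl 9,
   .inr (269, 1),
   .inr (141, 1),
   .inr (165, 1),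
   .inr (293, 1),
   .inr (277, 1),
   .inr (85, 1),
   .inr (197, 1),
   .inr (537, 1),
   .inr (297, 1),
   .inr (89, 1),
   .inr (105, 1),
   .inr (393, 1),
   .inr (113, 1),
   .inr (401, 1),
   .inr (225, 1),
   .inr (673, 1),
   .inr (833, 1),
   .inr (46, 2),
   .inr (526, 1),
   .inr (142, 1),
   .inr (54, 1),
   .inr (86, 1),
   .inr (278, 1),
   .inr (166, 1),
   .inr (326, 1),
   .inr (58, 1),
   .inr (538, 1),
   .inr (282, 1),
   .inr (554, 1),
   .inr (202, 1),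
   .inr (178, 1),
   .inr (594, 1),
   .inr (226, 1),
   .inr (354, 1)]

def tree_2 : List (Sum ℕ (ℕ × ℕ)) :=
  [.inr (898, 1),
   .inr (60, 1),
   .inr (92, 1),
   .inr (156, 1),
   .inr (108, 1),
   .inr (780, 1),
   .inr (116, 1),
   .inr (660, 1),
   .inr (612, 1),
   .inr (420, 1),
   .inr (452, 1),
   .inr (184, 1),
   .inr (344, 1),
   .inr (360, 1),
   .inr (424, 1),
   .inr (712, 1),
   .inr (240, 1),
   .inr (816, 1),
   .inr (464, 1),
   .inl 10,
   .inr (78, 1),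
   .inr (270, 1),
   .inr (86, 1),
   .inr (54, 1),
   .inr (150, 1),
   .inr (166, 1),
   .inr (326, 1),
   .inr (154, 1),
   .inr (538, 1),
   .inr (58, 1),
   .inr (106, 1),
   .inr (650, 1),
   .inr (114, 1),
   .inr (786, 1),
   .inr (610, 1),
   .inr (418, 1),
   .inr (450, 1),
   .inr (60, 1),
   .inr (156, 1),
   .inr (284, 1),
   .inr (172, 1),
   .inr (588, 1),
   .inr (564, 1),
   .inr (212, 1),
   .inr (228, 1),
   .inr (356, 1),
   .inr (900, 1),
   .inr (184, 1),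
   .inr (344, 1),
   .inr (232, 1),
   .inr (808, 1),
   .inr (456, 1),
   .inr (368, 1),
   .inr (432, 1),
   .inr (720, 1),
   .inl 11,
   .inr (523, 2),
   .inr (139, 1),
   .inr (1059, 1),
   .inr (163, 1),
   .inr (147, 1),
   .inr (275, 1),
   .inr (323, 1),
   .inr (45, 3),
   .inr (525, 1),
   .inr (77, 1),
   .inr (549, 1),
   .inr (85, 1),
   .inr (149, 1),
   .inr (293, 1),
   .inr (197, 1),
   .inr (57, 1),
   .inr (553, 1),
   .inr (537, 1),
   .inr (281, 1),
   .inr (201, 1),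
   .inr (177, 1),
   .inr (593, 1),
   .inr (225, 1),
   .inr (353, 1),
   .inr (897, 1),
   .inr (46, 2),
   .inr (142, 1),
   .inr (270, 1),
   .inr (278, 1),
   .inr (150, 1),
   .inr (86, 1),
   .inr (166, 1),
   .inr (326, 1),
   .inr (58, 1),
   .inr (90, 1),
   .inr (538, 1),
   .inr (106, 1),
   .inr (394, 1),
   .inr (114, 1),
   .inr (402, 1),
   .inr (226, 1),
   .inr (802, 1),
   .inr (706, 1),
   .inr (60, 1),
   .inr (92, 1),
   .inr (156, 1),
   .inr (108, 1),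
   .inr (652, 1),
   .inr (116, 1),
   .inr (788, 1),
   .inr (612, 1),
   .inr (420, 1),
   .inr (452, 1),
   .inr (312, 1),
   .inr (216, 1),
   .inr (232, 1),
   .inr (424, 1),
   .inr (840, 1),
   .inr (368, 1),
   .inr (688, 1),
   .inr (464, 1),
   .inl 12,
   .inr (270, 1),
   .inr (142, 1),
   .inr (150, 1),
   .inr (278, 1),
   .inr (86, 1),
   .inr (294, 1),
   .inr (198, 1),
   .inr (58, 1),
   .inr (90, 1),
   .inr (154, 1),
   .inr (106, 1),
   .inr (778, 1),
   .inr (114, 1),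
   .inr (658, 1),
   .inr (610, 1),
   .inr (418, 1),
   .inr (450, 1),
   .inr (60, 1),
   .inr (92, 1),
   .inr (540, 1),
   .inr (108, 1),
   .inr (396, 1),
   .inr (116, 1),
   .inr (404, 1),
   .inr (228, 1),
   .inr (676, 1),
   .inr (836, 1),
   .inr (184, 1),
   .inr (344, 1),
   .inr (360, 1),
   .inr (424, 1),
   .inr (712, 1),
   .inr (240, 1),
   .inr (816, 1),
   .inr (464, 1),
   .inl 13,
   .inr (141, 1),
   .inr (269, 1),
   .inr (293, 1),
   .inr (165, 1),
   .inr (149, 1),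
   .inr (85, 1),
   .inr (325, 1),
   .inr (537, 1),
   .inr (169, 1),
   .inr (89, 1),
   .inr (105, 1),
   .inr (393, 1),
   .inr (113, 1),
   .inr (401, 1),
   .inr (225, 1),
   .inr (801, 1),
   .inr (705, 1),
   .inr (46, 2),
   .inr (526, 1),
   .inr (78, 1),
   .inr (54, 1),
   .inr (86, 1),
   .inr (150, 1),
   .inr (294, 1),
   .inr (198, 1),
   .inr (58, 1),
   .inr (538, 1),
   .inr (282, 1),
   .inr (554, 1),
   .inr (202, 1),
   .inr (178, 1),
   .inr (594, 1),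
   .inr (226, 1),
   .inr (354, 1),
   .inr (898, 1),
   .inr (60, 1),
   .inr (92, 1),
   .inr (156, 1),
   .inr (108, 1),
   .inr (652, 1),
   .inr (116, 1),
   .inr (788, 1),
   .inr (612, 1),
   .inr (420, 1),
   .inr (452, 1),
   .inr (312, 1),
   .inr (216, 1),
   .inr (232, 1),
   .inr (424, 1),
   .inr (840, 1),
   .inr (368, 1),
   .inr (688, 1),
   .inr (464, 1),
   .inl 14,
   .inr (78, 1),
   .inr (142, 1),
   .inr (86, 1),
   .inr (54, 1),
   .inr (278, 1),
   .inr (294, 1),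
   .inr (198, 1),
   .inr (154, 1),
   .inr (538, 1),
   .inr (90, 1),
   .inr (106, 1),
   .inr (778, 1),
   .inr (114, 1),
   .inr (658, 1),
   .inr (610, 1),
   .inr (418, 1),
   .inr (450, 1),
   .inr (60, 1),
   .inr (156, 1),
   .inr (284, 1),
   .inr (172, 1),
   .inr (588, 1),
   .inr (564, 1),
   .inr (212, 1),
   .inr (228, 1),
   .inr (356, 1),
   .inr (900, 1),
   .inr (312, 1),
   .inr (216, 1),
   .inr (360, 1),
   .inr (680, 1),
   .inr (456, 1),
   .inr (240, 1),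
   .inr (432, 1),
   .inr (848, 1),
   .inl 15,
   .inr (165, 1),
   .inr (533, 1),
   .inr (277, 1),
   .inr (293, 1),
   .inr (269, 1),
   .inr (141, 1)]

def tree_3 : List (Sum ℕ (ℕ × ℕ)) :=
  [.inr (197, 1),
   .inr (153, 1),
   .inr (169, 1),
   .inr (57, 1),
   .inr (89, 1),
   .inr (777, 1),
   .inr (113, 1),
   .inr (657, 1),
   .inr (609, 1),
   .inr (417, 1),
   .inr (449, 1),
   .inr (46, 2),
   .inr (78, 1),
   .inr (270, 1),
   .inr (86, 1),
   .inr (54, 1),
   .inr (150, 1),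
   .inr (294, 1),
   .inr (198, 1),
   .inr (58, 1),
   .inr (154, 1),
   .inr (282, 1),
   .inr (554, 1),
   .inr (202, 1),
   .inr (178, 1),
   .inr (594, 1),
   .inr (226, 1),
   .inr (354, 1),
   .inr (898, 1),
   .inr (60, 1),
   .inr (92, 1),
   .inr (540, 1),
   .inr (108, 1),
   .inr (396, 1),
   .inr (116, 1),
   .inr (404, 1),
   .inr (228, 1),
   .inr (676, 1),
   .inr (836, 1),
   .inr (184, 1),
   .inr (344, 1),
   .inr (360, 1),
   .inr (424, 1),
   .inr (712, 1),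
   .inr (240, 1),
   .inr (816, 1),
   .inr (464, 1),
   .inl 16,
   .inr (142, 1),
   .inr (270, 1),
   .inr (54, 1),
   .inr (86, 1),
   .inr (150, 1),
   .inr (166, 1),
   .inr (326, 1),
   .inr (154, 1),
   .inr (90, 1),
   .inr (538, 1),
   .inr (106, 1),
   .inr (394, 1),
   .inr (114, 1),
   .inr (402, 1),
   .inr (226, 1),
   .inr (802, 1),
   .inr (706, 1),
   .inr (60, 1),
   .inr (156, 1),
   .inr (284, 1),
   .inr (172, 1),
   .inr (588, 1),
   .inr (564, 1),
   .inr (212, 1),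
   .inr (228, 1),
   .inr (356, 1),
   .inr (900, 1),
   .inr (312, 1),
   .inr (216, 1),
   .inr (360, 1),
   .inr (680, 1),
   .inr (456, 1),
   .inr (240, 1),
   .inr (432, 1),
   .inr (848, 1),
   .inl 17,
   .inr (75, 1),
   .inr (547, 1),
   .inr (163, 1),
   .inr (147, 1),
   .inr (275, 1),
   .inr (323, 1),
   .inr (45, 3),
   .inr (1037, 1),
   .inr (77, 1),
   .inr (549, 1),
   .inr (53, 1),
   .inr (85, 1),
   .inr (149, 1),
   .inr (197, 1),
   .inr (57, 1),
   .inr (553, 1),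
   .inr (537, 1),
   .inr (153, 1),
   .inr (201, 1),
   .inr (177, 1),
   .inr (593, 1),
   .inr (225, 1),
   .inr (353, 1),
   .inr (897, 1),
   .inr (46, 2),
   .inr (270, 1),
   .inr (142, 1),
   .inr (150, 1),
   .inr (278, 1),
   .inr (86, 1),
   .inr (294, 1),
   .inr (198, 1),
   .inr (58, 1),
   .inr (90, 1),
   .inr (154, 1),
   .inr (106, 1),
   .inr (778, 1),
   .inr (114, 1),
   .inr (658, 1),
   .inr (610, 1),
   .inr (418, 1),
   .inr (450, 1),
   .inr (60, 1),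
   .inr (92, 1),
   .inr (540, 1),
   .inr (108, 1),
   .inr (396, 1),
   .inr (116, 1),
   .inr (404, 1),
   .inr (228, 1),
   .inr (676, 1),
   .inr (836, 1),
   .inr (184, 1),
   .inr (344, 1),
   .inr (360, 1),
   .inr (424, 1),
   .inr (712, 1),
   .inr (240, 1),
   .inr (816, 1),
   .inr (464, 1),
   .inl 18,
   .inr (142, 1),
   .inr (270, 1),
   .inr (278, 1),
   .inr (150, 1),
   .inr (86, 1),
   .inr (166, 1),
   .inr (326, 1),
   .inr (58, 1),
   .inr (90, 1),
   .inr (538, 1),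
   .inr (106, 1),
   .inr (394, 1),
   .inr (114, 1),
   .inr (402, 1),
   .inr (226, 1),
   .inr (802, 1),
   .inr (706, 1),
   .inr (60, 1),
   .inr (92, 1),
   .inr (156, 1),
   .inr (108, 1),
   .inr (652, 1),
   .inr (116, 1),
   .inr (788, 1),
   .inr (612, 1),
   .inr (420, 1),
   .inr (452, 1),
   .inr (312, 1),
   .inr (216, 1),
   .inr (232, 1),
   .inr (424, 1),
   .inr (840, 1),
   .inr (368, 1),
   .inr (688, 1),
   .inr (464, 1),
   .inl 19,
   .inr (165, 1),
   .inr (1045, 1),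
   .inr (277, 1),
   .inr (293, 1),
   .inr (269, 1),
   .inr (141, 1),
   .inr (197, 1),
   .inr (153, 1),
   .inr (169, 1),
   .inr (57, 1),
   .inr (89, 1),
   .inr (777, 1),
   .inr (113, 1),
   .inr (657, 1),
   .inr (609, 1),
   .inr (417, 1),
   .inr (449, 1),
   .inr (46, 2),
   .inr (78, 1),
   .inr (270, 1),
   .inr (86, 1),
   .inr (54, 1),
   .inr (150, 1),
   .inr (294, 1),
   .inr (198, 1),
   .inr (58, 1),
   .inr (154, 1),
   .inr (282, 1),
   .inr (554, 1),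
   .inr (202, 1),
   .inr (178, 1),
   .inr (594, 1),
   .inr (226, 1),
   .inr (354, 1),
   .inr (898, 1),
   .inr (60, 1),
   .inr (92, 1),
   .inr (540, 1),
   .inr (108, 1),
   .inr (396, 1),
   .inr (116, 1),
   .inr (404, 1),
   .inr (228, 1),
   .inr (676, 1),
   .inr (836, 1),
   .inr (184, 1),
   .inr (344, 1),
   .inr (360, 1),
   .inr (424, 1),
   .inr (712, 1),
   .inr (240, 1),
   .inr (816, 1),
   .inr (464, 1),
   .inl 20,
   .inr (142, 1),
   .inr (270, 1),
   .inr (54, 1),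
   .inr (86, 1),
   .inr (150, 1),
   .inr (166, 1),
   .inr (326, 1),
   .inr (154, 1),
   .inr (90, 1),
   .inr (538, 1),
   .inr (106, 1),
   .inr (394, 1),
   .inr (114, 1),
   .inr (402, 1),
   .inr (226, 1)]

def tree_4 : List (Sum ℕ (ℕ × ℕ)) :=
  [.inr (802, 1),
   .inr (706, 1),
   .inr (60, 1),
   .inr (156, 1),
   .inr (284, 1),
   .inr (172, 1),
   .inr (588, 1),
   .inr (564, 1),
   .inr (212, 1),
   .inr (228, 1),
   .inr (356, 1),
   .inr (900, 1),
   .inr (312, 1),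
   .inr (216, 1),
   .inr (360, 1),
   .inr (680, 1),
   .inr (456, 1),
   .inr (240, 1),
   .inr (432, 1),
   .inr (848, 1),
   .inl 21,
   .inr (141, 1),
   .inr (269, 1),
   .inr (293, 1),
   .inr (165, 1),
   .inr (149, 1),
   .inr (85, 1),
   .inr (325, 1),
   .inr (537, 1),
   .inr (169, 1),
   .inr (89, 1),
   .inr (105, 1),
   .inr (393, 1),
   .inr (113, 1),
   .inr (401, 1),
   .inr (225, 1),
   .inr (801, 1),
   .inr (705, 1),
   .inr (46, 2),
   .inr (526, 1),
   .inr (270, 1),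
   .inr (54, 1),
   .inr (86, 1),
   .inr (150, 1),
   .inr (294, 1),
   .inr (198, 1),
   .inr (58, 1),
   .inr (538, 1),
   .inr (154, 1),
   .inr (554, 1),
   .inr (202, 1),
   .inr (178, 1),
   .inr (594, 1),
   .inr (226, 1),
   .inr (354, 1),
   .inr (898, 1),
   .inr (60, 1),
   .inr (92, 1),
   .inr (156, 1),
   .inr (108, 1),
   .inr (652, 1),
   .inr (116, 1),
   .inr (788, 1),
   .inr (612, 1),
   .inr (420, 1),
   .inr (452, 1),
   .inr (312, 1),
   .inr (216, 1),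
   .inr (232, 1),
   .inr (424, 1),
   .inr (840, 1),
   .inr (368, 1),
   .inr (688, 1),
   .inr (464, 1),
   .inl 22,
   .inr (78, 1),
   .inr (142, 1),
   .inr (86, 1),
   .inr (54, 1),
   .inr (278, 1),
   .inr (294, 1),
   .inr (198, 1),
   .inr (154, 1),
   .inr (538, 1),
   .inr (58, 1),
   .inr (106, 1),
   .inr (778, 1),
   .inr (114, 1),
   .inr (658, 1),
   .inr (610, 1),
   .inr (418, 1),
   .inr (450, 1),
   .inr (60, 1),
   .inr (156, 1),
   .inr (284, 1),
   .inr (172, 1),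
   .inr (588, 1),
   .inr (564, 1),
   .inr (212, 1),
   .inr (228, 1),
   .inr (356, 1),
   .inr (900, 1),
   .inr (312, 1),
   .inr (216, 1),
   .inr (360, 1),
   .inr (680, 1),
   .inr (456, 1),
   .inr (240, 1),
   .inr (432, 1),
   .inr (848, 1),
   .inl 23,
   .inr (139, 2),
   .inr (267, 1),
   .inr (291, 1),
   .inr (163, 1),
   .inr (147, 1),
   .inr (83, 1),
   .inr (323, 1),
   .inr (45, 3),
   .inr (1037, 1),
   .inr (269, 1),
   .inr (293, 1),
   .inr (53, 1),
   .inr (277, 1),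
   .inr (149, 1),
   .inr (197, 1),
   .inr (153, 1),
   .inr (297, 1),
   .inr (57, 1),
   .inr (89, 1),
   .inr (649, 1),
   .inr (113, 1),
   .inr (785, 1),
   .inr (609, 1),
   .inr (417, 1),
   .inr (449, 1),
   .inr (46, 2),
   .inr (78, 1),
   .inr (142, 1),
   .inr (86, 1),
   .inr (54, 1),
   .inr (278, 1),
   .inr (166, 1),
   .inr (326, 1),
   .inr (154, 1),
   .inr (90, 1),
   .inr (538, 1),
   .inr (106, 1),
   .inr (394, 1),
   .inr (114, 1),
   .inr (402, 1),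
   .inr (226, 1),
   .inr (802, 1),
   .inr (706, 1),
   .inr (60, 1),
   .inr (156, 1),
   .inr (284, 1),
   .inr (556, 1),
   .inr (204, 1),
   .inr (180, 1),
   .inr (596, 1),
   .inr (228, 1),
   .inr (356, 1),
   .inr (900, 1),
   .inr (312, 1),
   .inr (216, 1),
   .inr (232, 1),
   .inr (424, 1),
   .inr (840, 1),
   .inr (368, 1),
   .inr (688, 1),
   .inr (464, 1),
   .inl 24,
   .inr (142, 1),
   .inr (78, 1),
   .inr (54, 1),
   .inr (86, 1),
   .inr (278, 1),
   .inr (294, 1),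
   .inr (198, 1),
   .inr (58, 1),
   .inr (154, 1),
   .inr (282, 1),
   .inr (170, 1),
   .inr (586, 1),
   .inr (562, 1),
   .inr (210, 1),
   .inr (226, 1),
   .inr (354, 1),
   .inr (898, 1),
   .inr (60, 1),
   .inr (92, 1),
   .inr (540, 1),
   .inr (108, 1),
   .inr (396, 1),
   .inr (116, 1),
   .inr (404, 1),
   .inr (228, 1),
   .inr (676, 1),
   .inr (836, 1),
   .inr (184, 1),
   .inr (344, 1),
   .inr (232, 1),
   .inr (808, 1),
   .inr (456, 1),
   .inr (368, 1),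
   .inr (432, 1),
   .inr (720, 1),
   .inl 25,
   .inr (1061, 1),
   .inr (149, 1),
   .inr (277, 1),
   .inr (165, 1),
   .inr (141, 1),
   .inr (77, 1),
   .inr (325, 1),
   .inr (537, 1),
   .inr (169, 1),
   .inr (89, 1),
   .inr (105, 1),
   .inr (393, 1),
   .inr (113, 1),
   .inr (401, 1),
   .inr (225, 1),
   .inr (801, 1),
   .inr (705, 1),
   .inr (46, 2),
   .inr (526, 1),
   .inr (78, 1),
   .inr (54, 1),
   .inr (86, 1),
   .inr (150, 1),
   .inr (294, 1),
   .inr (198, 1),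
   .inr (154, 1),
   .inr (538, 1),
   .inr (58, 1),
   .inr (106, 1),
   .inr (650, 1),
   .inr (114, 1),
   .inr (786, 1),
   .inr (610, 1),
   .inr (418, 1),
   .inr (450, 1),
   .inr (60, 1),
   .inr (156, 1),
   .inr (284, 1),
   .inr (556, 1),
   .inr (204, 1),
   .inr (180, 1)]

def tree_5 : List (Sum ℕ (ℕ × ℕ)) :=
  [.inr (596, 1),
   .inr (228, 1),
   .inr (356, 1),
   .inr (900, 1),
   .inr (312, 1),
   .inr (216, 1),
   .inr (232, 1),
   .inr (424, 1),
   .inr (840, 1),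
   .inr (368, 1),
   .inr (688, 1),
   .inr (464, 1),
   .inl 26,
   .inr (78, 1),
   .inr (142, 1),
   .inr (86, 1),
   .inr (54, 1),
   .inr (278, 1),
   .inr (294, 1),
   .inr (198, 1),
   .inr (58, 1),
   .inr (538, 1),
   .inr (154, 1),
   .inr (170, 1),
   .inr (586, 1),
   .inr (562, 1),
   .inr (210, 1),
   .inr (226, 1),
   .inr (354, 1),
   .inr (898, 1),
   .inr (60, 1),
   .inr (92, 1),
   .inr (156, 1),
   .inr (108, 1),
   .inr (780, 1),
   .inr (116, 1),
   .inr (660, 1),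
   .inr (612, 1),
   .inr (420, 1),
   .inr (452, 1),
   .inr (312, 1),
   .inr (216, 1),
   .inr (360, 1),
   .inr (680, 1),
   .inr (456, 1),
   .inr (240, 1),
   .inr (432, 1),
   .inr (848, 1),
   .inl 27,
   .inr (141, 1),
   .inr (77, 1),
   .inr (165, 1),
   .inr (85, 1),
   .inr (277, 1),
   .inr (293, 1),
   .inr (197, 1),
   .inr (57, 1),
   .inr (169, 1),
   .inr (153, 1),
   .inr (281, 1),
   .inr (585, 1),
   .inr (561, 1),
   .inr (209, 1),
   .inr (225, 1),
   .inr (353, 1),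
   .inr (897, 1),
   .inr (46, 2),
   .inr (270, 1),
   .inr (78, 1),
   .inr (278, 1),
   .inr (150, 1),
   .inr (54, 1),
   .inr (294, 1),
   .inr (198, 1),
   .inr (58, 1),
   .inr (90, 1),
   .inr (154, 1),
   .inr (106, 1),
   .inr (650, 1),
   .inr (114, 1),
   .inr (786, 1),
   .inr (610, 1),
   .inr (418, 1),
   .inr (450, 1),
   .inr (60, 1),
   .inr (92, 1),
   .inr (540, 1),
   .inr (108, 1),
   .inr (396, 1),
   .inr (116, 1),
   .inr (404, 1),
   .inr (228, 1),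
   .inr (676, 1),
   .inr (836, 1),
   .inr (184, 1),
   .inr (344, 1),
   .inr (232, 1),
   .inr (808, 1),
   .inr (456, 1),
   .inr (368, 1),
   .inr (432, 1),
   .inr (720, 1),
   .inl 28,
   .inr (142, 1),
   .inr (78, 1),
   .inr (150, 1),
   .inr (278, 1),
   .inr (54, 1),
   .inr (166, 1),
   .inr (326, 1),
   .inr (58, 1),
   .inr (90, 1),
   .inr (538, 1),
   .inr (106, 1),
   .inr (394, 1),
   .inr (114, 1),
   .inr (402, 1),
   .inr (226, 1),
   .inr (802, 1),
   .inr (706, 1),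
   .inr (60, 1),
   .inr (92, 1),
   .inr (156, 1),
   .inr (108, 1),
   .inr (780, 1),
   .inr (116, 1),
   .inr (660, 1),
   .inr (612, 1),
   .inr (420, 1),
   .inr (452, 1),
   .inr (312, 1),
   .inr (216, 1),
   .inr (360, 1),
   .inr (680, 1),
   .inr (456, 1),
   .inr (240, 1),
   .inr (432, 1),
   .inr (848, 1),
   .inl 29,
   .inr (75, 1),
   .inr (163, 1),
   .inr (291, 1),
   .inr (275, 1),
   .inr (83, 1),
   .inr (195, 1),
   .inr (45, 3),
   .inr (1061, 1),
   .inr (277, 1),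
   .inr (149, 1),
   .inr (293, 1),
   .inr (269, 1),
   .inr (77, 1),
   .inr (197, 1),
   .inr (537, 1),
   .inr (297, 1),
   .inr (89, 1),
   .inr (105, 1),
   .inr (393, 1),
   .inr (113, 1),
   .inr (401, 1),
   .inr (225, 1),
   .inr (673, 1),
   .inr (833, 1),
   .inr (46, 2),
   .inr (526, 1),
   .inr (78, 1),
   .inr (54, 1),
   .inr (86, 1),
   .inr (278, 1),
   .inr (166, 1),
   .inr (326, 1),
   .inr (154, 1),
   .inr (538, 1),
   .inr (58, 1),
   .inr (106, 1),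
   .inr (778, 1),
   .inr (114, 1),
   .inr (658, 1),
   .inr (610, 1),
   .inr (418, 1),
   .inr (450, 1),
   .inr (60, 1),
   .inr (156, 1),
   .inr (284, 1),
   .inr (556, 1),
   .inr (204, 1),
   .inr (180, 1),
   .inr (596, 1),
   .inr (228, 1),
   .inr (356, 1),
   .inr (900, 1),
   .inr (184, 1),
   .inr (344, 1),
   .inr (360, 1),
   .inr (424, 1),
   .inr (712, 1),
   .inr (240, 1),
   .inr (816, 1),
   .inr (464, 1),
   .inl 30,
   .inr (78, 1),
   .inr (270, 1),
   .inr (86, 1),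
   .inr (54, 1),
   .inr (150, 1),
   .inr (166, 1),
   .inr (326, 1),
   .inr (58, 1),
   .inr (538, 1),
   .inr (282, 1),
   .inr (170, 1),
   .inr (586, 1),
   .inr (562, 1),
   .inr (210, 1),
   .inr (226, 1),
   .inr (354, 1),
   .inr (898, 1),
   .inr (60, 1),
   .inr (92, 1),
   .inr (156, 1),
   .inr (108, 1),
   .inr (652, 1),
   .inr (116, 1),
   .inr (788, 1),
   .inr (612, 1),
   .inr (420, 1),
   .inr (452, 1),
   .inr (184, 1),
   .inr (344, 1),
   .inr (232, 1),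
   .inr (808, 1),
   .inr (456, 1),
   .inr (368, 1),
   .inr (432, 1),
   .inr (720, 1),
   .inl 31,
   .inr (1037, 1),
   .inr (141, 1),
   .inr (165, 1),
   .inr (53, 1),
   .inr (149, 1),
   .inr (277, 1),
   .inr (325, 1),
   .inr (153, 1),
   .inr (169, 1),
   .inr (57, 1),
   .inr (89, 1),
   .inr (777, 1),
   .inr (113, 1),
   .inr (657, 1)]

def tree_6 : List (Sum ℕ (ℕ × ℕ)) :=
  [.inr (609, 1),
   .inr (417, 1),
   .inr (449, 1),
   .inr (46, 2),
   .inr (78, 1),
   .inr (270, 1),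
   .inr (86, 1),
   .inr (54, 1),
   .inr (150, 1),
   .inr (294, 1),
   .inr (198, 1),
   .inr (154, 1),
   .inr (58, 1),
   .inr (538, 1),
   .inr (106, 1),
   .inr (394, 1),
   .inr (114, 1),
   .inr (402, 1),
   .inr (226, 1),
   .inr (674, 1),
   .inr (834, 1),
   .inr (60, 1),
   .inr (156, 1),
   .inr (284, 1),
   .inr (556, 1),
   .inr (204, 1),
   .inr (180, 1),
   .inr (596, 1),
   .inr (228, 1),
   .inr (356, 1),
   .inr (900, 1),
   .inr (184, 1),
   .inr (344, 1),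
   .inr (360, 1),
   .inr (424, 1),
   .inr (712, 1),
   .inr (240, 1),
   .inr (816, 1),
   .inr (464, 1),
   .inl 32,
   .inr (142, 1),
   .inr (270, 1),
   .inr (54, 1),
   .inr (86, 1),
   .inr (150, 1),
   .inr (166, 1),
   .inr (326, 1),
   .inr (58, 1),
   .inr (154, 1),
   .inr (282, 1),
   .inr (170, 1),
   .inr (586, 1),
   .inr (562, 1),
   .inr (210, 1),
   .inr (226, 1),
   .inr (354, 1),
   .inr (898, 1),
   .inr (60, 1),
   .inr (92, 1),
   .inr (540, 1),
   .inr (108, 1),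
   .inr (396, 1),
   .inr (116, 1),
   .inr (404, 1),
   .inr (228, 1),
   .inr (804, 1),
   .inr (708, 1),
   .inr (312, 1),
   .inr (216, 1),
   .inr (360, 1),
   .inr (680, 1),
   .inr (456, 1),
   .inr (240, 1),
   .inr (432, 1),
   .inr (848, 1),
   .inl 33,
   .inr (269, 1),
   .inr (77, 1),
   .inr (165, 1),
   .inr (53, 1),
   .inr (85, 1),
   .inr (149, 1),
   .inr (325, 1),
   .inr (57, 1),
   .inr (169, 1),
   .inr (153, 1),
   .inr (281, 1),
   .inr (585, 1),
   .inr (561, 1),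
   .inr (209, 1),
   .inr (225, 1),
   .inr (353, 1),
   .inr (897, 1),
   .inr (46, 2),
   .inr (270, 1),
   .inr (78, 1),
   .inr (278, 1),
   .inr (150, 1),
   .inr (54, 1),
   .inr (294, 1),
   .inr (198, 1),
   .inr (58, 1),
   .inr (90, 1),
   .inr (538, 1),
   .inr (106, 1),
   .inr (394, 1),
   .inr (114, 1),
   .inr (402, 1),
   .inr (226, 1),
   .inr (674, 1),
   .inr (834, 1),
   .inr (60, 1),
   .inr (92, 1),
   .inr (156, 1),
   .inr (108, 1),
   .inr (652, 1),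
   .inr (116, 1),
   .inr (788, 1),
   .inr (612, 1),
   .inr (420, 1),
   .inr (452, 1),
   .inr (184, 1),
   .inr (344, 1),
   .inr (232, 1),
   .inr (808, 1),
   .inr (456, 1),
   .inr (368, 1),
   .inr (432, 1),
   .inr (720, 1),
   .inl 34,
   .inr (142, 1),
   .inr (78, 1),
   .inr (150, 1),
   .inr (278, 1),
   .inr (54, 1),
   .inr (166, 1),
   .inr (326, 1),
   .inr (58, 1),
   .inr (90, 1),
   .inr (154, 1),
   .inr (106, 1),
   .inr (778, 1),
   .inr (114, 1),
   .inr (658, 1),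
   .inr (610, 1),
   .inr (418, 1),
   .inr (450, 1),
   .inr (60, 1),
   .inr (92, 1),
   .inr (540, 1),
   .inr (108, 1),
   .inr (396, 1),
   .inr (116, 1),
   .inr (404, 1),
   .inr (228, 1),
   .inr (804, 1),
   .inr (708, 1),
   .inr (312, 1),
   .inr (216, 1),
   .inr (360, 1),
   .inr (680, 1),
   .inr (456, 1),
   .inr (240, 1),
   .inr (432, 1),
   .inr (848, 1),
   .inl 35,
   .inr (139, 2),
   .inr (267, 1),
   .inr (291, 1),
   .inr (163, 1),
   .inr (147, 1),
   .inr (83, 1),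
   .inr (323, 1),
   .inr (45, 3),
   .inr (525, 1),
   .inr (269, 1),
   .inr (293, 1),
   .inr (53, 1),
   .inr (277, 1),
   .inr (149, 1),
   .inr (197, 1),
   .inr (153, 1),
   .inr (297, 1),
   .inr (57, 1),
   .inr (89, 1),
   .inr (649, 1),
   .inr (113, 1),
   .inr (785, 1),
   .inr (609, 1),
   .inr (417, 1),
   .inr (449, 1),
   .inr (46, 2),
   .inr (78, 1),
   .inr (142, 1),
   .inr (86, 1),
   .inr (54, 1),
   .inr (278, 1),
   .inr (166, 1),
   .inr (326, 1),
   .inr (154, 1),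
   .inr (90, 1),
   .inr (538, 1),
   .inr (106, 1),
   .inr (394, 1),
   .inr (114, 1),
   .inr (402, 1),
   .inr (226, 1),
   .inr (802, 1),
   .inr (706, 1),
   .inr (60, 1),
   .inr (156, 1),
   .inr (284, 1),
   .inr (556, 1),
   .inr (204, 1),
   .inr (180, 1),
   .inr (596, 1),
   .inr (228, 1),
   .inr (356, 1),
   .inr (900, 1),
   .inr (312, 1),
   .inr (216, 1),
   .inr (232, 1),
   .inr (424, 1),
   .inr (840, 1),
   .inr (368, 1),
   .inr (688, 1),
   .inr (464, 1),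
   .inl 36,
   .inr (142, 1),
   .inr (78, 1),
   .inr (54, 1),
   .inr (86, 1),
   .inr (278, 1),
   .inr (294, 1),
   .inr (198, 1),
   .inr (58, 1),
   .inr (154, 1),
   .inr (282, 1),
   .inr (170, 1),
   .inr (586, 1),
   .inr (562, 1),
   .inr (210, 1),
   .inr (226, 1),
   .inr (354, 1),
   .inr (898, 1),
   .inr (60, 1),
   .inr (92, 1),
   .inr (540, 1),
   .inr (108, 1),
   .inr (396, 1)]

def tree_7 : List (Sum ℕ (ℕ × ℕ)) :=
  [.inr (116, 1),
   .inr (404, 1),
   .inr (228, 1),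
   .inr (676, 1),
   .inr (836, 1),
   .inr (184, 1),
   .inr (344, 1),
   .inr (232, 1),
   .inr (808, 1),
   .inr (456, 1),
   .inr (368, 1),
   .inr (432, 1),
   .inr (720, 1),
   .inl 37,
   .inr (549, 1),
   .inr (149, 1),
   .inr (277, 1),
   .inr (165, 1),
   .inr (141, 1),
   .inr (77, 1),
   .inr (325, 1),
   .inr (537, 1),
   .inr (169, 1),
   .inr (89, 1),
   .inr (105, 1),
   .inr (393, 1),
   .inr (113, 1),
   .inr (401, 1),
   .inr (225, 1),
   .inr (801, 1),
   .inr (705, 1),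
   .inr (46, 2),
   .inr (526, 1),
   .inr (270, 1),
   .inr (54, 1),
   .inr (86, 1),
   .inr (150, 1),
   .inr (294, 1),
   .inr (198, 1),
   .inr (154, 1),
   .inr (538, 1),
   .inr (90, 1),
   .inr (106, 1),
   .inr (650, 1),
   .inr (114, 1),
   .inr (786, 1),
   .inr (610, 1),
   .inr (418, 1),
   .inr (450, 1),
   .inr (60, 1),
   .inr (156, 1),
   .inr (284, 1),
   .inr (556, 1),
   .inr (204, 1),
   .inr (180, 1),
   .inr (596, 1),
   .inr (228, 1),
   .inr (356, 1),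
   .inr (900, 1),
   .inr (312, 1),
   .inr (216, 1),
   .inr (232, 1),
   .inr (424, 1),
   .inr (840, 1),
   .inr (368, 1),
   .inr (688, 1),
   .inr (464, 1),
   .inl 38,
   .inr (78, 1),
   .inr (142, 1),
   .inr (86, 1),
   .inr (54, 1),
   .inr (278, 1),
   .inr (294, 1),
   .inr (198, 1),
   .inr (58, 1),
   .inr (538, 1),
   .inr (282, 1),
   .inr (170, 1),
   .inr (586, 1),
   .inr (562, 1),
   .inr (210, 1),
   .inr (226, 1),
   .inr (354, 1),
   .inr (898, 1),
   .inr (60, 1),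
   .inr (92, 1),
   .inr (156, 1),
   .inr (108, 1),
   .inr (780, 1),
   .inr (116, 1),
   .inr (660, 1),
   .inr (612, 1),
   .inr (420, 1),
   .inr (452, 1),
   .inr (312, 1),
   .inr (216, 1),
   .inr (360, 1),
   .inr (680, 1),
   .inr (456, 1),
   .inr (240, 1),
   .inr (432, 1),
   .inr (848, 1),
   .inl 39,
   .inr (141, 1),
   .inr (77, 1),
   .inr (165, 1),
   .inr (85, 1),
   .inr (277, 1),
   .inr (293, 1),
   .inr (197, 1),
   .inr (57, 1),
   .inr (169, 1),
   .inr (153, 1),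
   .inr (281, 1),
   .inr (585, 1),
   .inr (561, 1),
   .inr (209, 1),
   .inr (225, 1),
   .inr (353, 1),
   .inr (897, 1),
   .inr (46, 2),
   .inr (270, 1),
   .inr (78, 1),
   .inr (278, 1),
   .inr (150, 1),
   .inr (54, 1),
   .inr (294, 1),
   .inr (198, 1),
   .inr (58, 1),
   .inr (90, 1),
   .inr (154, 1),
   .inr (106, 1),
   .inr (650, 1),
   .inr (114, 1),
   .inr (786, 1),
   .inr (610, 1),
   .inr (418, 1),
   .inr (450, 1),
   .inr (60, 1),
   .inr (92, 1),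
   .inr (540, 1),
   .inr (108, 1),
   .inr (396, 1),
   .inr (116, 1),
   .inr (404, 1),
   .inr (228, 1),
   .inr (676, 1),
   .inr (836, 1),
   .inr (184, 1),
   .inr (344, 1),
   .inr (232, 1),
   .inr (808, 1),
   .inr (456, 1),
   .inr (368, 1),
   .inr (432, 1),
   .inr (720, 1),
   .inl 40,
   .inr (142, 1),
   .inr (78, 1),
   .inr (150, 1),
   .inr (278, 1),
   .inr (54, 1),
   .inr (166, 1),
   .inr (326, 1),
   .inr (58, 1),
   .inr (90, 1),
   .inr (538, 1),
   .inr (106, 1),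
   .inr (394, 1),
   .inr (114, 1),
   .inr (402, 1),
   .inr (226, 1),
   .inr (802, 1),
   .inr (706, 1),
   .inr (60, 1),
   .inr (92, 1),
   .inr (156, 1),
   .inr (108, 1),
   .inr (780, 1),
   .inr (116, 1),
   .inr (660, 1),
   .inr (612, 1),
   .inr (420, 1),
   .inr (452, 1),
   .inr (312, 1),
   .inr (216, 1),
   .inr (360, 1),
   .inr (680, 1),
   .inr (456, 1),
   .inr (240, 1),
   .inr (432, 1),
   .inr (848, 1),
   .inl 41,
   .inr (75, 1),
   .inr (163, 1),
   .inr (291, 1),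
   .inr (275, 1),
   .inr (83, 1),
   .inr (195, 1),
   .inr (45, 3),
   .inr (549, 1),
   .inr (277, 1),
   .inr (149, 1),
   .inr (293, 1),
   .inr (269, 1),
   .inr (77, 1),
   .inr (197, 1),
   .inr (537, 1),
   .inr (297, 1),
   .inr (89, 1),
   .inr (105, 1),
   .inr (393, 1),
   .inr (113, 1),
   .inr (401, 1),
   .inr (225, 1),
   .inr (673, 1),
   .inr (833, 1),
   .inr (46, 2),
   .inr (526, 1),
   .inr (142, 1),
   .inr (54, 1),
   .inr (86, 1),
   .inr (278, 1),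
   .inr (166, 1),
   .inr (326, 1),
   .inr (154, 1),
   .inr (538, 1),
   .inr (90, 1),
   .inr (106, 1),
   .inr (778, 1),
   .inr (114, 1),
   .inr (658, 1),
   .inr (610, 1),
   .inr (418, 1),
   .inr (450, 1),
   .inr (60, 1),
   .inr (156, 1),
   .inr (284, 1),
   .inr (556, 1),
   .inr (204, 1),
   .inr (180, 1),
   .inr (596, 1),
   .inr (228, 1),
   .inr (356, 1),
   .inr (900, 1),
   .inr (184, 1),
   .inr (344, 1),
   .inr (360, 1),
   .inr (424, 1)]

def tree_8 : List (Sum ℕ (ℕ × ℕ)) :=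
  [.inr (712, 1),
   .inr (240, 1),
   .inr (816, 1),
   .inr (464, 1),
   .inl 42,
   .inr (78, 1),
   .inr (270, 1),
   .inr (86, 1),
   .inr (54, 1),
   .inr (150, 1),
   .inr (166, 1),
   .inr (326, 1),
   .inr (58, 1),
   .inr (538, 1),
   .inr (154, 1),
   .inr (170, 1),
   .inr (586, 1),
   .inr (562, 1),
   .inr (210, 1),
   .inr (226, 1),
   .inr (354, 1),
   .inr (898, 1),
   .inr (60, 1),
   .inr (92, 1),
   .inr (156, 1),
   .inr (108, 1),
   .inr (652, 1),
   .inr (116, 1),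
   .inr (788, 1),
   .inr (612, 1),
   .inr (420, 1),
   .inr (452, 1),
   .inr (184, 1),
   .inr (344, 1),
   .inr (232, 1),
   .inr (808, 1),
   .inr (456, 1),
   .inr (368, 1),
   .inr (432, 1),
   .inr (720, 1),
   .inl 43,
   .inr (525, 1),
   .inr (141, 1),
   .inr (165, 1),
   .inr (53, 1),
   .inr (149, 1),
   .inr (277, 1),
   .inr (325, 1),
   .inr (153, 1),
   .inr (169, 1),
   .inr (57, 1),
   .inr (89, 1),
   .inr (777, 1),
   .inr (113, 1),
   .inr (657, 1),
   .inr (609, 1),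
   .inr (417, 1),
   .inr (449, 1),
   .inr (46, 2),
   .inr (78, 1),
   .inr (270, 1),
   .inr (86, 1),
   .inr (54, 1),
   .inr (150, 1),
   .inr (294, 1),
   .inr (198, 1),
   .inr (154, 1),
   .inr (58, 1),
   .inr (538, 1),
   .inr (106, 1),
   .inr (394, 1),
   .inr (114, 1),
   .inr (402, 1),
   .inr (226, 1),
   .inr (674, 1),
   .inr (834, 1),
   .inr (60, 1),
   .inr (156, 1),
   .inr (284, 1),
   .inr (556, 1),
   .inr (204, 1),
   .inr (180, 1),
   .inr (596, 1),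
   .inr (228, 1),
   .inr (356, 1),
   .inr (900, 1),
   .inr (184, 1),
   .inr (344, 1),
   .inr (360, 1),
   .inr (424, 1),
   .inr (712, 1),
   .inr (240, 1),
   .inr (816, 1),
   .inr (464, 1),
   .inl 44,
   .inr (142, 1),
   .inr (270, 1),
   .inr (54, 1),
   .inr (86, 1),
   .inr (150, 1),
   .inr (166, 1),
   .inr (326, 1),
   .inr (58, 1),
   .inr (154, 1),
   .inr (282, 1),
   .inr (170, 1),
   .inr (586, 1),
   .inr (562, 1),
   .inr (210, 1),
   .inr (226, 1),
   .inr (354, 1),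
   .inr (898, 1),
   .inr (60, 1),
   .inr (92, 1),
   .inr (540, 1),
   .inr (108, 1),
   .inr (396, 1),
   .inr (116, 1),
   .inr (404, 1),
   .inr (228, 1),
   .inr (804, 1),
   .inr (708, 1),
   .inr (312, 1),
   .inr (216, 1),
   .inr (360, 1),
   .inr (680, 1),
   .inr (456, 1),
   .inr (240, 1),
   .inr (432, 1),
   .inr (848, 1),
   .inl 45,
   .inr (269, 1),
   .inr (77, 1),
   .inr (165, 1),
   .inr (53, 1),
   .inr (85, 1),
   .inr (149, 1),
   .inr (325, 1),
   .inr (57, 1),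
   .inr (169, 1),
   .inr (153, 1),
   .inr (281, 1),
   .inr (585, 1),
   .inr (561, 1),
   .inr (209, 1),
   .inr (225, 1),
   .inr (353, 1),
   .inr (897, 1),
   .inr (46, 2),
   .inr (270, 1),
   .inr (78, 1),
   .inr (278, 1),
   .inr (150, 1),
   .inr (54, 1),
   .inr (294, 1),
   .inr (198, 1),
   .inr (58, 1),
   .inr (90, 1),
   .inr (538, 1),
   .inr (106, 1),
   .inr (394, 1),
   .inr (114, 1),
   .inr (402, 1),
   .inr (226, 1),
   .inr (674, 1),
   .inr (834, 1),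
   .inr (60, 1),
   .inr (92, 1),
   .inr (156, 1),
   .inr (108, 1),
   .inr (652, 1),
   .inr (116, 1),
   .inr (788, 1),
   .inr (612, 1),
   .inr (420, 1),
   .inr (452, 1),
   .inr (184, 1),
   .inr (344, 1),
   .inr (232, 1),
   .inr (808, 1),
   .inr (456, 1),
   .inr (368, 1),
   .inr (432, 1),
   .inr (720, 1),
   .inl 46,
   .inr (142, 1),
   .inr (78, 1),
   .inr (150, 1),
   .inr (278, 1),
   .inr (54, 1),
   .inr (166, 1),
   .inr (326, 1),
   .inr (58, 1),
   .inr (90, 1),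
   .inr (154, 1),
   .inr (106, 1),
   .inr (778, 1),
   .inr (114, 1),
   .inr (658, 1),
   .inr (610, 1),
   .inr (418, 1),
   .inr (450, 1),
   .inr (60, 1),
   .inr (92, 1),
   .inr (540, 1),
   .inr (108, 1),
   .inr (396, 1),
   .inr (116, 1),
   .inr (404, 1),
   .inr (228, 1),
   .inr (804, 1),
   .inr (708, 1),
   .inr (312, 1),
   .inr (216, 1),
   .inr (360, 1),
   .inr (680, 1),
   .inr (456, 1),
   .inr (240, 1),
   .inr (432, 1),
   .inr (848, 1),
   .inl 47]

/-- The search tree in preorder: a leaf names a relabelling, a node gives a set and the number of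
ways to complete it. -/
def tree : List (Sum ℕ (ℕ × ℕ)) :=
  List.flatten [tree_0, tree_1, tree_2, tree_3, tree_4, tree_5, tree_6, tree_7, tree_8]

end Cfsg.Agent.Lib.Design.SmallWittData11
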