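/-
A checkable search for the uniqueness of the small Witt systems.
-/
import Mathlib
import Cfsg.Prelude.Def_Sporadic_a

set_option autoImplicit false

namespace Cfsg.Agent.Lib.Design.SmallWitt

open Cfsg

variable {n : ℕ}

/-- The set with a given mask. -/
def fs (n m : ℕ) : Finset (Fin n) := Finset.univ.filter fun i => m.testBit i.val

theorem mem_fs {m : ℕ} {i : Fin n} : i ∈ fs n m ↔ m.testBit i.val = true := by simp [fs]

theorem fs_inj {a b : ℕ} (ha : a < 2 ^ n) (hb : b < 2 ^ n) (h : fs n a = fs n b) : a = b := by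
  refine Nat.eq_of_testBit_eq fun i => ?_
  by_cases hi : i < n
  · have := Finset.ext_iff.1 h ⟨i, hi⟩
    rw [mem_fs, mem_fs] at this
    exact Bool.eq_iff_iff.2 this
  · have hle : 2 ^ n ≤ 2 ^ i := Nat.pow_le_pow_right (by norm_num) (by omega)
    rw [Nat.testBit_lt_two_pow (lt_of_lt_of_le ha hle), Nat.testBit_lt_two_pow (lt_of_lt_of_le hb hle)]

theorem fs_land (a b : ℕ) : fs n (a &&& b) = fs n a ∩ fs n b := by
  ext i; simp [mem_fs]

theorem fs_add (q : ℕ) (x : Fin n) : fs n (q ||| 1 <<< x.val) = insert x (fs n q) := by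
  ext i
  simp only [mem_fs, Finset.mem_insert, Nat.testBit_lor, Bool.or_eq_true, Nat.one_shiftLeft,
    Nat.testBit_two_pow, decide_eq_true_eq, ← Fin.ext_iff, eq_comm (a := x)]
  exact or_comm

/-- The number of bits of a mask below `4096`. -/
def pc (m : ℕ) : ℕ :=
  ((4841987667533046032 >>> (4 * (m &&& 15))) &&& 15) +
  ((4841987667533046032 >>> (4 * ((m >>> 4) &&& 15))) &&& 15) +
  ((4841987667533046032 >>> (4 * ((m >>> 8) &&& 15))) &&& 15)

/-- The viable completions of the set `q`. -/
def cands (n t : ℕ) (known : List ℕ) (q : ℕ) : List ℕ :=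
  ((List.range n).filterMap fun x => if q.testBit x then none else some (q ||| 1 <<< x)).filter
    fun c => known.all fun b => b == c || decide (pc (b &&& c) < t)

/-- The relabelled mask. -/
def relabel (n : ℕ) (p : List ℕ) (m : ℕ) : ℕ :=
  (List.range n).foldl (fun acc i => if m.testBit i then acc ||| (1 <<< p.getD i 0) else acc) 0

/-- The verification of a search tree in preorder. -/
def search (n t : ℕ) (std : List ℕ) (perms : List (List ℕ)) :
    ℕ → List ℕ → List (Sum ℕ (ℕ × ℕ)) → Option (List (Sum ℕ (ℕ × ℕ)))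
  | 0, _, _ => none
  | _ + 1, _, [] => none
  | _ + 1, known, .inl i :: rest =>
    match perms[i]? with
    | some p => if std.all (fun b => known.contains (relabel n p b)) then some rest else none
    | none => none
  | fuel + 1, known, .inr (q, m) :: rest =>
    if decide (q < 2 ^ n) && pc q == t && (cands n t known q).length == m then
      (cands n t known q).foldl
        (fun acc c => acc.bind fun r => search n t std perms fuel (c :: known) r) (some rest)
    else none

variable {t : ℕ} {B : Set (Finset (Fin n))}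

theorem foldl_none {σ τ : Type} (g : τ → σ → Option σ) : ∀ l : List τ,
    l.foldl (fun acc c => acc.bind (g c)) none = none
  | [] => rfl
  | _ :: l => by simpa using foldl_none g l

theorem foldl_some_mem {σ τ : Type} (g : τ → σ → Option σ) : ∀ (l : List τ) (s s' : σ),
    l.foldl (fun acc c => acc.bind (g c)) (some s) = some s' → ∀ c ∈ l, ∃ r r', g c r = some r'
  | [], _, _, _, c, hc => absurd hc List.not_mem_nil
  | a :: l, s, s', h, c, hc => by
    rw [List.foldl_cons, Option.bind_some] at h
    cases ha : g a s with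
    | none => rw [ha, foldl_none] at h; simp at h
    | some s1 =>
      rw [ha] at h
      rcases List.mem_cons.1 hc with rfl | hc
      · exact ⟨s, s1, ha⟩
      · exact foldl_some_mem g l s1 s' h c hc

theorem search_sound (hn : n ≤ 12) (hpc : ∀ m < 4096, m < 2 ^ n → (fs n m).card = pc m)
    (hB : IsSteinerSystem t (t + 1) B) {std : List ℕ} {perms : List (List ℕ)} :
    ∀ (fuel : ℕ) (known : List ℕ) (l r : List (Sum ℕ (ℕ × ℕ))),
      search n t std perms fuel known l = some r →
      (∀ b ∈ known, b < 2 ^ n ∧ fs n b ∈ B) →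
      ∃ p ∈ perms, ∀ b ∈ std, fs n (relabel n p b) ∈ B := by
  have hlt : ∀ m, m < 2 ^ n → (fs n m).card = pc m := fun m hm =>
    hpc m (lt_of_lt_of_le hm (Nat.pow_le_pow_right (by norm_num) hn)) hm
  intro fuel
  induction fuel with
  | zero => intro known l r h; simp [search] at h
  | succ fuel ih =>
    intro known l r h hk
    match l, h with
    | [], h => simp [search] at h
    | .inl i :: rest, h =>
      rw [search] at h
      cases hp : perms[i]? with
      | none => rw [hp] at h; simp at h
      | some p =>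
        rw [hp] at h
        by_cases hall : std.all (fun b => known.contains (relabel n p b)) = true
        · exact ⟨p, List.mem_of_getElem? hp, fun b hb =>
            (hk _ (List.contains_iff_mem.1 (List.all_eq_true.1 hall b hb))).2⟩
        · exact absurd h (by simp only [hall, Bool.false_eq_true, if_false]; simp)
    | .inr (q, m) :: rest, h =>
      rw [search] at h
      by_cases hg : (decide (q < 2 ^ n) && pc q == t && (cands n t known q).length == m) = true
      · rw [if_pos hg] at h
        simp only [Bool.and_eq_true, decide_eq_true_eq, beq_iff_eq] at hg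
        obtain ⟨⟨hq, hqc⟩, -⟩ := hg
        obtain ⟨c, ⟨hcB, hqs⟩, -⟩ := hB.2 (fs n q) (by rw [hlt q hq, hqc])
        obtain ⟨x, hx⟩ := Finset.card_eq_one.1 (show (c \ fs n q).card = 1 by
          rw [Finset.card_sdiff_of_subset hqs, hB.1 c hcB, hlt q hq, hqc]; omega)
        have hxm := Finset.mem_sdiff.1 (hx ▸ Finset.mem_singleton_self x)
        have hc : c = fs n (q ||| 1 <<< x.val) := by
          rw [fs_add, ← Finset.union_sdiff_of_subset hqs, hx]
          ext; simp [or_comm]
        have hclt : q ||| 1 <<< x.val < 2 ^ n :=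
          Nat.or_lt_two_pow hq (by rw [Nat.one_shiftLeft]; exact Nat.pow_lt_pow_right (by norm_num) x.isLt)
        have hcand : q ||| 1 <<< x.val ∈ cands n t known q := by
          rw [cands, List.mem_filter, List.mem_filterMap]
          refine ⟨⟨x.val, List.mem_range.2 x.isLt, ?_⟩, List.all_eq_true.2 fun b hb => ?_⟩
          · rw [if_neg (by rw [← mem_fs]; exact hxm.2)]
          · obtain ⟨hblt, hbB⟩ := hk b hb
            rw [Bool.or_eq_true, beq_iff_eq, decide_eq_true_eq]
            by_contra hno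
            push Not at hno
            obtain ⟨hne, hge⟩ := hno
            rw [← hlt _ (lt_of_le_of_lt Nat.and_le_left hblt), fs_land] at hge
            obtain ⟨s, hs, hst⟩ := Finset.exists_subset_card_eq hge
            apply hne
            refine fs_inj hblt hclt ((hB.2 s hst).unique ⟨hbB, ?_⟩ ⟨hc ▸ hcB, ?_⟩)
            · exact hs.trans Finset.inter_subset_left
            · exact hs.trans Finset.inter_subset_right
        obtain ⟨r1, r2, h2⟩ := foldl_some_mem (fun c r => search n t std perms fuel (c :: known) r)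
          _ _ _ h _ hcand
        refine ih _ r1 r2 h2 fun b hb => ?_
        rcases List.mem_cons.1 hb with rfl | hb
        · exact ⟨hclt, hc ▸ hcB⟩
        · exact hk b hb
      · rw [if_neg hg] at h; simp at h

/-- The starting blocks. -/
def start (t : ℕ) : List ℕ :=
  [2 ^ (t + 1) - 1, (2 ^ (t - 1) - 1) ||| 3 <<< (t + 1 + 2 * 0),
    (2 ^ (t - 1) - 1) ||| 3 <<< (t + 1 + 2 * 1), (2 ^ (t - 1) - 1) ||| 3 <<< (t + 1 + 2 * 2)]

/-- A relabelling list as a permutation test. -/
def permOK (n : ℕ) (p : List ℕ) : Bool :=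
  (List.range n).all fun j => (List.range n).any fun i => p.getD i 0 == j

theorem exists_perm {p : List ℕ} (h : permOK n p = true) :
    ∃ σ : Equiv.Perm (Fin n), ∀ m, fs n (relabel n p m) = (fs n m).image σ := by
  have hsurj : ∀ j : Fin n, ∃ i : Fin n, p.getD i.val 0 = j.val := fun j => by
    obtain ⟨i, hi, e⟩ := List.any_eq_true.1 (List.all_eq_true.1 h j.val (List.mem_range.2 j.isLt))
    exact ⟨⟨i, List.mem_range.1 hi⟩, beq_iff_eq.1 e⟩
  choose g hg using hsurj
  have ginj : Function.Injective g := fun a b e => Fin.ext (by rw [← hg a, ← hg b, e])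
  let σ : Equiv.Perm (Fin n) :=
    (Equiv.ofBijective g (Finite.injective_iff_bijective.1 ginj)).symm
  have hσ : ∀ i : Fin n, (σ i).val = p.getD i.val 0 := fun i => by
    have := hg (σ i)
    rw [show g (σ i) = i from (Equiv.ofBijective g _).apply_symm_apply i] at this
    exact this.symm
  refine ⟨σ, fun m => ?_⟩
  have main : ∀ (l : List ℕ) (acc j : ℕ),
      (l.foldl (fun a i => if m.testBit i then a ||| (1 <<< p.getD i 0) else a) acc).testBit j = true ↔
        (acc.testBit j = true ∨ ∃ i ∈ l, m.testBit i = true ∧ p.getD i 0 = j) := by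
    intro l
    induction l with
    | nil => simp
    | cons i l ih =>
      intro acc j
      rw [List.foldl_cons, ih]
      by_cases h : m.testBit i = true
      · simp only [h, if_true, Nat.testBit_lor, Bool.or_eq_true, Nat.one_shiftLeft,
          Nat.testBit_two_pow, decide_eq_true_eq, List.exists_mem_cons_iff, true_and, or_assoc]
      · simp [h, List.exists_mem_cons_iff]
  ext j
  rw [mem_fs, relabel, main, Finset.mem_image]
  constructor
  · rintro (h0 | ⟨i, hi, hm, e⟩)
    · simp at h0
    · exact ⟨⟨i, List.mem_range.1 hi⟩, mem_fs.2 hm, Fin.ext ((hσ _).trans e)⟩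
  · rintro ⟨i, hi, rfl⟩
    exact Or.inr ⟨i.val, List.mem_range.2 i.isLt, mem_fs.1 hi, (hσ i).symm⟩

theorem image_mem {α β : Type*} [DecidableEq β] [Fintype α] [Fintype β] {t k : ℕ}
    {B : Set (Finset α)} (hB : IsSteinerSystem t k B) (e : α ≃ β) :
    IsSteinerSystem t k ((fun b => b.image e) '' B) := by
  constructor
  · rintro _ ⟨b, hb, rfl⟩
    rw [Finset.card_image_of_injective _ e.injective, hB.1 b hb]
  · intro s hs
    classical
    obtain ⟨b, ⟨hb, hsb⟩, hu⟩ := hB.2 (s.image e.symm)
      (by rw [Finset.card_image_of_injective _ e.symm.injective, hs])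
    refine ⟨b.image e, ⟨⟨b, hb, rfl⟩, fun x hx => ?_⟩, ?_⟩
    · exact Finset.mem_image.2 ⟨e.symm x, hsb (Finset.mem_image_of_mem _ hx), e.apply_symm_apply x⟩
    · rintro _ ⟨⟨c, hc, rfl⟩, hsc⟩
      rw [hu c ⟨hc, fun y hy => ?_⟩]
      obtain ⟨x, hx, rfl⟩ := Finset.mem_image.1 hy
      obtain ⟨z, hz, rfl⟩ := Finset.mem_image.1 (hsc hx)
      rwa [e.symm_apply_apply]

/-- Points of a system with `t + 7` points labelled so that the starting blocks are blocks. -/
theorem exists_labels {α : Type*} [Fintype α] [DecidableEq α] {t : ℕ} (ht : 1 ≤ t)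
    {B : Set (Finset α)} (hB : IsSteinerSystem t (t + 1) B) (hα : Fintype.card α = t + 7) :
    ∃ L : List α, ∃ u v : Fin 3 → α, ∃ T b : Finset α,
      L.Nodup ∧ L.length = t + 1 ∧ b ∈ B ∧ L.toFinset = b ∧ T = (L.take (t - 1)).toFinset ∧
      (L ++ [u 0, v 0, u 1, v 1, u 2, v 2]).Nodup ∧
      ∀ i, insert (u i) (insert (v i) T) ∈ B := by
  obtain ⟨s, hs⟩ : ∃ s : Finset α, s.card = t :=
    ⟨_, (Finset.exists_subset_card_eq (s := (Finset.univ : Finset α)) (n := t)
      (by rw [Finset.card_univ, hα]; omega)).choose_spec.2⟩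
  obtain ⟨b, ⟨hb, -⟩, -⟩ := hB.2 s hs
  set L := b.toList with hLdef
  have hLn : L.Nodup := b.nodup_toList
  have hLl : L.length = t + 1 := by rw [hLdef, Finset.length_toList, hB.1 b hb]
  set T := (L.take (t - 1)).toFinset with hT
  have hTc : T.card = t - 1 := by
    rw [hT, List.toFinset_card_of_nodup (hLn.sublist (List.take_sublist _ _)), List.length_take, hLl]
    omega
  have hTb : T ⊆ b := fun x hx => by
    rw [hT, List.mem_toFinset] at hx
    exact Finset.mem_toList.1 (List.mem_of_mem_take hx)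
  -- partners of the points outside the block
  have step : ∀ x, x ∉ b → ∃ y, y ∉ b ∧ y ≠ x ∧ insert x (insert y T) ∈ B := by
    intro x hx
    have hxT : x ∉ T := fun h => hx (hTb h)
    obtain ⟨c, ⟨hc, hsc⟩, -⟩ := hB.2 (insert x T)
      (by rw [Finset.card_insert_of_notMem hxT, hTc]; omega)
    obtain ⟨y, hy⟩ := Finset.card_eq_one.1 (show (c \ insert x T).card = 1 by
      rw [Finset.card_sdiff_of_subset hsc, hB.1 c hc, Finset.card_insert_of_notMem hxT, hTc]
      omega)
    have hym := Finset.mem_sdiff.1 (hy ▸ Finset.mem_singleton_self y)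
    rw [Finset.mem_insert, not_or] at hym
    have hcy : c = insert x (insert y T) := by
      rw [← Finset.union_sdiff_of_subset hsc, hy]
      ext; simp only [Finset.mem_union, Finset.mem_insert, Finset.mem_singleton]; tauto
    refine ⟨y, fun hyb => ?_, hym.2.1, hcy ▸ hc⟩
    have h1 : (insert y T).card = t := by rw [Finset.card_insert_of_notMem hym.2.2, hTc]; omega
    have e := (hB.2 _ h1).unique ⟨hb, Finset.insert_subset hyb hTb⟩
      ⟨hc, hcy ▸ Finset.subset_insert _ _⟩
    exact hx (e ▸ hsc (Finset.mem_insert_self _ _))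
  have uniq : ∀ x y z, x ∉ b → y ∉ b → z ∉ b → x ≠ y → x ≠ z → insert x (insert y T) ∈ B →
      insert x (insert z T) ∈ B → y = z := by
    intro x y z hx hy hz hxy hxz h1 h2
    have hxT : x ∉ T := fun h => hx (hTb h)
    have e := (hB.2 (insert x T) (by rw [Finset.card_insert_of_notMem hxT, hTc]; omega)).unique
      ⟨h1, Finset.insert_subset_insert _ (Finset.subset_insert _ _)⟩
      ⟨h2, Finset.insert_subset_insert _ (Finset.subset_insert _ _)⟩
    have : y ∈ insert x (insert z T) := e ▸ by simp
    simp only [Finset.mem_insert] at this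
    rcases this with h | h | h
    · exact absurd h (Ne.symm hxy)
    · exact h
    · exact absurd (hTb h) hy
  have hout : (Finset.univ \ b).card = 6 := by
    rw [Finset.card_sdiff_of_subset (Finset.subset_univ _), Finset.card_univ, hα, hB.1 b hb]; omega
  have pick : ∀ S : Finset α, S.card < 6 → ∃ x, x ∉ b ∧ x ∉ S := by
    intro S hS
    obtain ⟨x, hx, hx'⟩ := Finset.exists_mem_notMem_of_card_lt_card (hout.symm ▸ hS)
    exact ⟨x, (Finset.mem_sdiff.1 hx).2, hx'⟩
  obtain ⟨x0, hx0, -⟩ := pick ∅ (by simp)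
  obtain ⟨y0, hy0, hxy0, h0⟩ := step x0 hx0
  obtain ⟨x1, hx1, hx1'⟩ := pick {x0, y0} (lt_of_le_of_lt Finset.card_le_two (by norm_num))
  obtain ⟨y1, hy1, hxy1, h1⟩ := step x1 hx1
  obtain ⟨x2, hx2, hx2'⟩ := pick {x0, y0, x1, y1} (lt_of_le_of_lt Finset.card_le_four (by norm_num))
  obtain ⟨y2, hy2, hxy2, h2⟩ := step x2 hx2
  simp only [Finset.mem_insert, Finset.mem_singleton, not_or] at hx1' hx2'
  have sw : ∀ x y, insert x (insert y T) ∈ B → insert y (insert x T) ∈ B := fun x y h => by
    rwa [Finset.insert_comm]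
  have d10 : y1 ≠ x0 := fun e => hx1'.2 (uniq x0 y0 x1 hx0 hy0 hx1 (Ne.symm hxy0) (Ne.symm hx1'.1)
    h0 (sw _ _ (e ▸ h1))).symm
  have d11 : y1 ≠ y0 := fun e => hx1'.1 (uniq y0 x0 x1 hy0 hx0 hx1 hxy0 (Ne.symm hx1'.2)
    (sw _ _ h0) (sw _ _ (e ▸ h1))).symm
  have d20 : y2 ≠ x0 := fun e => hx2'.2.1 (uniq x0 y0 x2 hx0 hy0 hx2 (Ne.symm hxy0)
    (Ne.symm hx2'.1) h0 (sw _ _ (e ▸ h2))).symm
  have d21 : y2 ≠ y0 := fun e => hx2'.1 (uniq y0 x0 x2 hy0 hx0 hx2 hxy0 (Ne.symm hx2'.2.1)
    (sw _ _ h0) (sw _ _ (e ▸ h2))).symm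
  have d22 : y2 ≠ x1 := fun e => hx2'.2.2.2 (uniq x1 y1 x2 hx1 hy1 hx2 (Ne.symm hxy1)
    (Ne.symm hx2'.2.2.1) h1 (sw _ _ (e ▸ h2))).symm
  have d23 : y2 ≠ y1 := fun e => hx2'.2.2.1 (uniq y1 x1 x2 hy1 hx1 hx2 hxy1 (Ne.symm hx2'.2.2.2)
    (sw _ _ h1) (sw _ _ (e ▸ h2))).symm
  refine ⟨L, ![x0, x1, x2], ![y0, y1, y2], T, b, hLn, hLl, hb, Finset.toList_toFinset b, rfl, ?_, ?_⟩
  · rw [List.nodup_append]
    refine ⟨hLn, ?_, fun a ha c hc e => ?_⟩
    · simp [Ne.symm hxy0, Ne.symm hx1'.1, Ne.symm d10, Ne.symm hx2'.1, Ne.symm d20,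
        Ne.symm hx1'.2, Ne.symm d11, Ne.symm hx2'.2.1, Ne.symm d21, Ne.symm hxy1,
        Ne.symm hx2'.2.2.1, Ne.symm d22, Ne.symm hx2'.2.2.2, Ne.symm d23, Ne.symm hxy2]
    · subst e
      rw [hLdef, Finset.mem_toList] at ha
      simp at hc
      rcases hc with rfl | rfl | rfl | rfl | rfl | rfl <;> contradiction
  · intro i
    fin_cases i
    exacts [h0, h1, h2]

/-- The image of the standard blocks is the whole system. -/
theorem eq_image {t : ℕ} {B S : Set (Finset (Fin n))} (hB : IsSteinerSystem t (t + 1) B)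
    (hS : IsSteinerSystem t (t + 1) S) (σ : Equiv.Perm (Fin n))
    (h : ∀ b ∈ S, b.image σ ∈ B) : (fun b => b.image σ) '' S = B := by
  refine Set.Subset.antisymm (fun x ⟨b, hb, e⟩ => e ▸ h b hb) fun c hc => ?_
  obtain ⟨s, hs, hst⟩ := Finset.exists_subset_card_eq (s := c) (n := t) (by rw [hB.1 c hc]; omega)
  have hS' := image_mem hS σ
  obtain ⟨d, ⟨hd, hsd⟩, -⟩ := hS'.2 s hst
  have hdB : d ∈ B := by obtain ⟨b, hb, rfl⟩ := hd; exact h b hb
  rwa [(hB.2 s hst).unique ⟨hc, hs⟩ ⟨hdB, hsd⟩]

/-- Every system on `t + 7` points is a relabelling of the standard one. -/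
theorem exists_model {α : Type*} [Fintype α] [DecidableEq α] {t : ℕ} (ht : 1 ≤ t)
    (hn : t + 7 ≤ 12) (hpc : ∀ m < 4096, m < 2 ^ (t + 7) → (fs (t + 7) m).card = pc m)
    {std : List ℕ} {perms : List (List ℕ)} {tree : List (Sum ℕ (ℕ × ℕ))} {fuel : ℕ}
    {r : List (Sum ℕ (ℕ × ℕ))}
    (hperm : perms.all (permOK (t + 7)) = true)
    (hstd : std.all (fun b => decide (b < 2 ^ (t + 7))) = true)
    (hrun : search (t + 7) t std perms fuel (start t) tree = some r)
    (hstart : (start t).all (fun b => decide (b < 2 ^ (t + 7))) = true)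
    (hblk : ∀ i : Fin (t + 7), i.val < t + 1 ↔ (2 ^ (t + 1) - 1).testBit i.val = true)
    {B : Set (Finset α)} (hB : IsSteinerSystem t (t + 1) B) (hα : Fintype.card α = t + 7) :
    ∃ e : α ≃ Fin (t + 7), ∀ b ∈ std, fs (t + 7) b ∈ (fun c => c.image e) '' B := by
  obtain ⟨L, u, v, T, b, hLn, hLl, hb, hLb, hT, hnd, hbl⟩ := exists_labels ht hB hα
  set M := L ++ [u 0, v 0, u 1, v 1, u 2, v 2] with hM
  have hMl : M.length = t + 7 := by simp [hM, hLl]
  let f : Fin (t + 7) → α := fun i => M[i.val]'(by rw [hMl]; exact i.isLt)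
  have finj : Function.Injective f := fun i j e => Fin.ext (hnd.getElem_inj_iff.1 e)
  let e : α ≃ Fin (t + 7) := (Equiv.ofBijective f
    ((Fintype.bijective_iff_injective_and_card f).2 ⟨finj, by simp [hα]⟩)).symm
  have hB' := image_mem hB e
  have hpre : ∀ (i : Fin (t + 7)), e (f i) = i := fun i => (Equiv.ofBijective f _).symm_apply_apply i
  have hinj : ∀ m (c : Finset α), c ∈ B → (∀ i : Fin (t + 7), m.testBit i.val = true → f i ∈ c) →
      (fs (t + 7) m).card = t + 1 → fs (t + 7) m ∈ (fun c => c.image e) '' B := by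
    intro m c hc h hcard
    refine ⟨c, hc, (Finset.eq_of_subset_of_card_le (fun i hi => ?_) ?_).symm⟩
    · rw [← hpre i]
      exact Finset.mem_image_of_mem _ (h i (mem_fs.1 hi))
    · show (c.image e).card ≤ _
      rw [Finset.card_image_of_injective _ e.injective, hB.1 c hc, hcard]
  have key : ∀ m ∈ start t, m < 2 ^ (t + 7) ∧ fs (t + 7) m ∈ (fun c => c.image e) '' B := by
    intro m hm
    refine ⟨of_decide_eq_true (List.all_eq_true.1 hstart m hm), ?_⟩
    have hlt := of_decide_eq_true (List.all_eq_true.1 hstart m hm)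
    have hcase : ∀ (a : Fin 3) (i : Fin (t + 7)),
        ((2 ^ (t - 1) - 1) ||| 3 <<< (t + 1 + 2 * a.val)).testBit i.val = true →
        f i ∈ insert (u a) (insert (v a) T) := by
      intro a i hi
      rw [Nat.testBit_lor, Bool.or_eq_true, Nat.testBit_two_pow_sub_one, decide_eq_true_eq,
        Nat.testBit_shiftLeft, Bool.and_eq_true, decide_eq_true_eq] at hi
      rcases hi with hi | ⟨hge, hi⟩
      · refine Finset.mem_insert_of_mem (Finset.mem_insert_of_mem ?_)
        rw [hT, List.mem_toFinset, List.mem_take_iff_getElem]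
        refine ⟨i.val, by omega, ?_⟩
        show L[i.val]'_ = M[i.val]'_
        simp [hM, List.getElem_append_left (show i.val < L.length by omega)]
      · have h01 : i.val - (t + 1 + 2 * a.val) = 0 ∨ i.val - (t + 1 + 2 * a.val) = 1 := by
          by_contra hno
          push Not at hno
          rw [Nat.testBit_lt_two_pow (lt_of_lt_of_le (by norm_num : (3 : ℕ) < 2 ^ 2)
            (Nat.pow_le_pow_right (by norm_num) (by omega)))] at hi
          simp at hi
        have hidx : ∀ j, i.val = L.length + j → ∀ (hj : j < 6),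
            f i = [u 0, v 0, u 1, v 1, u 2, v 2][j]'(by simpa using hj) := by
          intro j hij hj
          show M[i.val]'_ = _
          simp only [hM]
          rw [List.getElem_append_right (by omega)]
          congr 1
          omega
        fin_cases a <;> rcases h01 with h01 | h01 <;>
          simp only at h01 hge ⊢
        · rw [hidx 0 (by omega) (by norm_num)]; simp
        · rw [hidx 1 (by omega) (by norm_num)]; simp
        · rw [hidx 2 (by omega) (by norm_num)]; simp
        · rw [hidx 3 (by omega) (by norm_num)]; simp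
        · rw [hidx 4 (by omega) (by norm_num)]; simp
        · rw [hidx 5 (by omega) (by norm_num)]; simp
    have hcard3 : ∀ (a : Fin 3), (fs (t + 7) ((2 ^ (t - 1) - 1) ||| 3 <<< (t + 1 + 2 * a.val))).card = t + 1 := by
      intro a
      have e : fs (t + 7) ((2 ^ (t - 1) - 1) ||| 3 <<< (t + 1 + 2 * a.val)) =
          (Finset.univ.filter fun i : Fin (t + 7) => i.val < t - 1) ∪
            {⟨t + 1 + 2 * a.val, by omega⟩, ⟨t + 2 + 2 * a.val, by omega⟩} := by
        ext i
        rw [mem_fs, Nat.testBit_lor, Bool.or_eq_true, Nat.testBit_two_pow_sub_one, decide_eq_true_eq,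
          Nat.testBit_shiftLeft, Bool.and_eq_true, decide_eq_true_eq]
        simp only [Finset.mem_union, Finset.mem_filter, Finset.mem_univ, true_and, Finset.mem_insert,
          Finset.mem_singleton, Fin.ext_iff]
        refine or_congr Iff.rfl ⟨fun ⟨hge, hi⟩ => ?_, fun h => ?_⟩
        · by_contra hno
          push Not at hno
          rw [Nat.testBit_lt_two_pow (lt_of_lt_of_le (by norm_num : (3 : ℕ) < 2 ^ 2)
            (Nat.pow_le_pow_right (by norm_num) (by omega)))] at hi
          simp at hi
        · rcases h with h | h <;> refine ⟨by omega, ?_⟩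
          · rw [h, Nat.sub_self]; decide
          · rw [h, show t + 2 + 2 * a.val - (t + 1 + 2 * a.val) = 1 by omega]; decide
      rw [e, Finset.card_union_of_disjoint, Finset.card_pair (by simp [Fin.ext_iff])]
      · have : (Finset.univ.filter fun i : Fin (t + 7) => i.val < t - 1).card = t - 1 := by
          rw [Fin.card_filter_val_lt]; omega
        omega
      · rw [Finset.disjoint_left]
        intro i hi hi'
        simp only [Finset.mem_filter, Finset.mem_univ, true_and] at hi
        simp only [Finset.mem_insert, Finset.mem_singleton, Fin.ext_iff] at hi'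
        omega
    simp only [start, List.mem_cons, List.not_mem_nil, or_false] at hm
    rcases hm with rfl | rfl | rfl | rfl
    · refine hinj _ b hb (fun i hi => ?_) ?_
      · rw [← hLb, List.mem_toFinset]
        have h1 := (hblk i).2 hi
        show M[i.val]'_ ∈ L
        simp only [hM]
        rw [List.getElem_append_left (show i.val < L.length by omega)]
        exact List.getElem_mem _
      · have e : fs (t + 7) (2 ^ (t + 1) - 1) =
            Finset.univ.filter fun i : Fin (t + 7) => i.val < t + 1 := by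
          ext i
          rw [mem_fs, Finset.mem_filter]
          simp only [Finset.mem_univ, true_and]
          exact (hblk i).symm
        rw [e, Fin.card_filter_val_lt]; omega
    · exact hinj _ _ (hbl 0) (fun i hi => hcase 0 i hi) (hcard3 0)
    · exact hinj _ _ (hbl 1) (fun i hi => hcase 1 i hi) (hcard3 1)
    · exact hinj _ _ (hbl 2) (fun i hi => hcase 2 i hi) (hcard3 2)
  obtain ⟨p, hp, hpB⟩ := search_sound hn hpc hB' fuel _ _ _ hrun key
  obtain ⟨σ, hσ⟩ := exists_perm (List.all_eq_true.1 hperm p hp)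
  refine ⟨e.trans σ.symm, fun m hm => ?_⟩
  obtain ⟨c, hc, hce⟩ := hpB m hm
  refine ⟨c, hc, ?_⟩
  have h1 : c.image e = (fs (t + 7) m).image σ := hce.trans (hσ m)
  show c.image (e.trans σ.symm) = _
  rw [Equiv.coe_trans, ← Finset.image_image, h1, Finset.image_image, σ.symm_comp_self,
    Finset.image_id]

/-- Two systems on `t + 7` points are isomorphic once the certificate checks. -/
theorem iso {α β : Type*} [Fintype α] [DecidableEq α] [Fintype β] [DecidableEq β] {t : ℕ}
    (std : List ℕ)
    (hstd : IsSteinerSystem t (t + 1) {s | ∃ b ∈ std, fs (t + 7) b = s})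
    {B : Set (Finset α)} {B' : Set (Finset β)} (hB : IsSteinerSystem t (t + 1) B)
    (hB' : IsSteinerSystem t (t + 1) B')
    (hmB : ∃ e : α ≃ Fin (t + 7), ∀ b ∈ std, fs (t + 7) b ∈ (fun c => c.image e) '' B)
    (hmB' : ∃ e : β ≃ Fin (t + 7), ∀ b ∈ std, fs (t + 7) b ∈ (fun c => c.image e) '' B') :
    SetSystemIso B B' := by
  obtain ⟨e, he⟩ := hmB
  obtain ⟨f, hf⟩ := hmB'
  have h1 : (fun b => b.image e) '' B = {s | ∃ b ∈ std, fs (t + 7) b = s} := by
    refine (Eq.symm ?_)
    simpa using eq_image (image_mem hB e) hstd (Equiv.refl _) fun s ⟨b, hb, hs⟩ => by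
      subst hs; simpa using he b hb
  have h2 : (fun b => b.image f) '' B' = {s | ∃ b ∈ std, fs (t + 7) b = s} := by
    refine (Eq.symm ?_)
    simpa using eq_image (image_mem hB' f) hstd (Equiv.refl _) fun s ⟨b, hb, hs⟩ => by
      subst hs; simpa using hf b hb
  refine ⟨e.trans f.symm, ?_⟩
  rw [← Set.image_id B', show (fun b : Finset α => b.image (e.trans f.symm)) =
    (fun c => c.image f.symm) ∘ (fun b => b.image e) from funext fun b => by
      simp [Finset.image_image], Set.image_comp, h1, ← h2, ← Set.image_comp]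
  congr 1
  funext b
  simp [Finset.image_image]

end Cfsg.Agent.Lib.Design.SmallWitt
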