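/-
Generated certificate for the uniqueness of the Steiner system S(5,6,12).
-/
import Mathlib

set_option autoImplicit false
set_option maxRecDepth 100000

namespace Cfsg.Agent.Lib.Design.SmallWittData12

/-- The standard blocks. -/
def std : List ℕ := [63, 207, 243, 252, 343, 365, 378, 414, 427, 437, 473, 486, 603, 622, 629, 669, 679, 698, 726, 745, 783, 822, 825, 860, 867, 915, 940, 965, 970, 1008, 1117, 1131, 1142, 1175, 1198, 1209, 1242, 1253, 1307, 1319, 1340, 1358, 1393, 1421, 1458, 1475, 1492, 1512, 1566, 1581, 1587, 1607, 1656, 1675, 1716, 1740, 1745, 1762, 1813, 1834, 1865, 1874, 1892, 1926, 1944, 1953, 2142, 2151, 2169, 2203, 2221, 2230, 2261, 2282, 2333, 2350, 2355, 2379, 2420, 2439, 2488, 2508, 2514, 2529, 2583, 2603, 2620, 2637, 2674, 2702, 2737, 2755, 2776, 2788, 2842, 2853, 2886, 2897, 2920, 2953, 2964, 2978, 3087, 3125, 3130, 3155, 3180, 3228, 3235, 3270, 3273, 3312, 3350, 3369, 3397, 3416, 3426, 3466, 3473, 3492, 3609, 3622, 3658, 3668,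 3681, 3717, 3730, 3752, 3843, 3852, 3888, 4032]

/-- The relabellings at the leaves. -/
def perms : List (List ℕ) := [
  [0,1,2,3,4,5,6,7,8,9,10,11],
  [0,1,2,3,4,5,7,6,10,11,8,9],
  [0,1,2,3,4,5,11,10,9,8,7,6],
  [0,1,2,3,4,5,10,11,7,6,9,8],
  [0,1,2,3,4,5,9,8,11,10,6,7],
  [0,1,2,3,4,5,8,9,6,7,11,10],
  [0,1,2,3,4,5,7,6,11,10,8,9],
  [0,1,2,3,4,5,6,7,8,9,11,10],
  [0,1,2,3,4,5,9,8,10,11,6,7],
  [0,1,2,3,4,5,8,9,6,7,10,11],
  [0,1,2,3,4,5,10,11,9,8,7,6],
  [0,1,2,3,4,5,11,10,7,6,9,8],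
  [0,1,2,3,4,5,6,7,9,8,10,11],
  [0,1,2,3,4,5,7,6,10,11,9,8],
  [0,1,2,3,4,5,11,10,8,9,7,6],
  [0,1,2,3,4,5,10,11,7,6,8,9],
  [0,1,2,3,4,5,8,9,11,10,6,7],
  [0,1,2,3,4,5,9,8,6,7,11,10],
  [0,1,2,3,4,5,7,6,11,10,9,8],
  [0,1,2,3,4,5,6,7,9,8,11,10],
  [0,1,2,3,4,5,8,9,10,11,6,7],
  [0,1,2,3,4,5,9,8,6,7,10,11],
  [0,1,2,3,4,5,10,11,8,9,7,6],
  [0,1,2,3,4,5,11,10,7,6,8,9],
  [0,1,2,3,4,5,8,9,7,6,11,10],
  [0,1,2,3,4,5,9,8,11,10,7,6],
  [0,1,2,3,4,5,10,11,6,7,9,8],
  [0,1,2,3,4,5,11,10,9,8,6,7],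
  [0,1,2,3,4,5,6,7,10,11,8,9],
  [0,1,2,3,4,5,7,6,8,9,10,11],
  [0,1,2,3,4,5,10,11,6,7,8,9],
  [0,1,2,3,4,5,11,10,8,9,6,7],
  [0,1,2,3,4,5,9,8,7,6,11,10],
  [0,1,2,3,4,5,8,9,11,10,7,6],
  [0,1,2,3,4,5,7,6,9,8,10,11],
  [0,1,2,3,4,5,6,7,10,11,9,8],
  [0,1,2,3,4,5,8,9,7,6,10,11],
  [0,1,2,3,4,5,9,8,10,11,7,6],
  [0,1,2,3,4,5,11,10,6,7,9,8],
  [0,1,2,3,4,5,10,11,9,8,6,7],
  [0,1,2,3,4,5,6,7,11,10,8,9],
  [0,1,2,3,4,5,7,6,8,9,11,10],
  [0,1,2,3,4,5,11,10,6,7,8,9],
  [0,1,2,3,4,5,10,11,8,9,6,7],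
  [0,1,2,3,4,5,9,8,7,6,10,11],
  [0,1,2,3,4,5,8,9,10,11,7,6],
  [0,1,2,3,4,5,7,6,9,8,11,10],
  [0,1,2,3,4,5,6,7,11,10,9,8]]

def tree_0 : List (Sum ℕ (ℕ × ℕ)) :=
  [.inr (87, 4),
   .inr (1047, 2),
   .inr (535, 1),
   .inr (2119, 1),
   .inr (583, 1),
   .inr (551, 1),
   .inr (295, 1),
   .inr (391, 1),
   .inr (91, 3),
   .inr (1051, 1),
   .inr (155, 1),
   .inr (1099, 1),
   .inr (171, 1),
   .inr (555, 1),
   .inr (331, 1),
   .inr (651, 1),
   .inr (115, 1),
   .inr (1107, 1),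
   .inr (1075, 1),
   .inr (307, 1),
   .inr (403, 1),
   .inr (355, 1),
   .inr (1187, 1),
   .inr (451, 1),
   .inr (707, 1),
   .inr (1795, 1),
   .inr (93, 2),
   .inr (541, 1),
   .inr (285, 1),
   .inr (301, 1),
   .inr (557, 1),
   .inr (173, 1),
   .inr (589, 1),
   .inr (397, 1),
   .inr (117, 1),
   .inr (181, 1),
   .inr (1077, 1),
   .inr (213, 1),
   .inr (789, 1),
   .inr (229, 1),
   .inr (805, 1),
   .inr (453, 1),
   .inr (1349, 1),
   .inr (1669, 1),
   .inr (121, 1),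
   .inr (185, 1),
   .inr (313, 1),
   .inr (217, 1),
   .inr (1561, 1),
   .inr (233, 1),
   .inr (1321, 1),
   .inr (1225, 1),
   .inr (841, 1),
   .inr (905, 1),
   .inr (369, 1),
   .inr (689, 1),
   .inr (721, 1),
   .inr (849, 1),
   .inr (1425, 1),
   .inr (481, 1),
   .inr (1633, 1),
   .inr (929, 1),
   .inr (94, 1),
   .inr (158, 1),
   .inr (542, 1),
   .inr (110, 1),
   .inr (174, 1),
   .inr (302, 1),
   .inr (334, 1),
   .inr (654, 1),
   .inr (118, 1),
   .inr (182, 1),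
   .inr (310, 1),
   .inr (214, 1),
   .inr (1302, 1),
   .inr (230, 1),
   .inr (1574, 1),
   .inr (1222, 1),
   .inr (838, 1),
   .inr (902, 1),
   .inr (122, 1),
   .inr (186, 1),
   .inr (1082, 1),
   .inr (218, 1),
   .inr (794, 1),
   .inr (234, 1),
   .inr (810, 1),
   .inr (458, 1),
   .inr (1610, 1),
   .inr (1418, 1),
   .inr (626, 1),
   .inr (434, 1),
   .inr (466, 1),
   .inr (850, 1),
   .inr (1682, 1),
   .inr (738, 1),
   .inr (1378, 1),
   .inr (930, 1),
   .inr (124, 1),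
   .inr (316, 1),
   .inr (572, 1),
   .inr (348, 1),
   .inr (1180, 1),
   .inr (1132, 1),
   .inr (428, 1),
   .inr (460, 1),
   .inr (716, 1),
   .inr (1804, 1),
   .inr (372, 1),
   .inr (692, 1),
   .inr (468, 1),
   .inr (1620, 1),
   .inr (916, 1),
   .inr (740, 1),
   .inr (868, 1),
   .inr (1444, 1),
   .inr (632, 1),
   .inr (440, 1),
   .inr (728, 1),
   .inr (1368, 1),
   .inr (920, 1),
   .inr (488, 1),
   .inr (872, 1),
   .inr (1704, 1),
   .inr (496, 1),
   .inr (1264, 1),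
   .inr (1840, 1),
   .inr (1984, 1),
   .inl 0,
   .inr (285, 1),
   .inr (541, 1),
   .inr (557, 1),
   .inr (301, 1),
   .inr (173, 1),
   .inr (333, 1),
   .inr (653, 1),
   .inr (117, 1),
   .inr (181, 1),
   .inr (309, 1),
   .inr (213, 1),
   .inr (1301, 1),
   .inr (229, 1),
   .inr (1573, 1),
   .inr (1221, 1),
   .inr (837, 1),
   .inr (901, 1),
   .inr (121, 1),
   .inr (185, 1),
   .inr (1081, 1),
   .inr (217, 1),
   .inr (793, 1),
   .inr (233, 1),
   .inr (809, 1),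
   .inr (457, 1),
   .inr (1609, 1),
   .inr (1417, 1),
   .inr (625, 1),
   .inr (433, 1),
   .inr (465, 1),
   .inr (849, 1),
   .inr (1681, 1),
   .inr (737, 1),
   .inr (1377, 1),
   .inr (929, 1),
   .inr (94, 1),
   .inr (158, 1),
   .inr (286, 1),
   .inr (110, 1),
   .inr (174, 1),
   .inr (558, 1),
   .inr (590, 1),
   .inr (398, 1),
   .inr (118, 1),
   .inr (182, 1),
   .inr (1078, 1),
   .inr (214, 1),
   .inr (790, 1),
   .inr (230, 1),
   .inr (806, 1),
   .inr (454, 1),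
   .inr (1350, 1),
   .inr (1670, 1),
   .inr (122, 1),
   .inr (186, 1),
   .inr (314, 1),
   .inr (218, 1),
   .inr (1562, 1),
   .inr (234, 1),
   .inr (1322, 1),
   .inr (1226, 1),
   .inr (842, 1),
   .inr (906, 1),
   .inr (370, 1),
   .inr (690, 1),
   .inr (722, 1),
   .inr (850, 1),
   .inr (1426, 1),
   .inr (482, 1),
   .inr (1634, 1),
   .inr (930, 1),
   .inr (124, 1),
   .inr (316, 1),
   .inr (572, 1),
   .inr (348, 1),
   .inr (1180, 1),
   .inr (1132, 1),
   .inr (428, 1),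
   .inr (460, 1),
   .inr (716, 1),
   .inr (1804, 1),
   .inr (372, 1),
   .inr (692, 1),
   .inr (468, 1),
   .inr (1620, 1),
   .inr (916, 1),
   .inr (740, 1),
   .inr (868, 1),
   .inr (1444, 1),
   .inr (632, 1),
   .inr (440, 1),
   .inr (728, 1),
   .inr (1368, 1),
   .inr (920, 1),
   .inr (488, 1),
   .inr (872, 1),
   .inr (1704, 1),
   .inr (496, 1),
   .inr (1264, 1),
   .inr (1840, 1),
   .inr (1984, 1),
   .inl 1,
   .inr (539, 1),
   .inr (283, 1),
   .inr (331, 1),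
   .inr (587, 1),
   .inr (555, 1),
   .inr (171, 1),
   .inr (395, 1),
   .inr (1075, 1),
   .inr (595, 1),
   .inr (179, 1),
   .inr (211, 1),
   .inr (787, 1),
   .inr (227, 1),
   .inr (803, 1),
   .inr (451, 1),
   .inr (1347, 1),
   .inr (1667, 1),
   .inr (93, 2),
   .inr (1053, 1)]

def tree_1 : List (Sum ℕ (ℕ × ℕ)) :=
  [.inr (157, 1),
   .inr (109, 1),
   .inr (173, 1),
   .inr (557, 1),
   .inr (333, 1),
   .inr (653, 1),
   .inr (117, 1),
   .inr (1077, 1),
   .inr (309, 1),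
   .inr (1109, 1),
   .inr (405, 1),
   .inr (357, 1),
   .inr (1189, 1),
   .inr (453, 1),
   .inr (709, 1),
   .inr (1797, 1),
   .inr (121, 1),
   .inr (185, 1),
   .inr (313, 1),
   .inr (217, 1),
   .inr (1561, 1),
   .inr (233, 1),
   .inr (1321, 1),
   .inr (1225, 1),
   .inr (841, 1),
   .inr (905, 1),
   .inr (369, 1),
   .inr (689, 1),
   .inr (721, 1),
   .inr (849, 1),
   .inr (1425, 1),
   .inr (481, 1),
   .inr (1633, 1),
   .inr (929, 1),
   .inr (94, 1),
   .inr (158, 1),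
   .inr (542, 1),
   .inr (110, 1),
   .inr (174, 1),
   .inr (302, 1),
   .inr (334, 1),
   .inr (654, 1),
   .inr (118, 1),
   .inr (182, 1),
   .inr (310, 1),
   .inr (214, 1),
   .inr (1302, 1),
   .inr (230, 1),
   .inr (1574, 1),
   .inr (1222, 1),
   .inr (838, 1),
   .inr (902, 1),
   .inr (122, 1),
   .inr (314, 1),
   .inr (570, 1),
   .inr (346, 1),
   .inr (1178, 1),
   .inr (1130, 1),
   .inr (426, 1),
   .inr (458, 1),
   .inr (714, 1),
   .inr (1802, 1),
   .inr (370, 1),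
   .inr (690, 1),
   .inr (466, 1),
   .inr (1618, 1),
   .inr (914, 1),
   .inr (738, 1),
   .inr (866, 1),
   .inr (1442, 1),
   .inr (124, 1),
   .inr (188, 1),
   .inr (1084, 1),
   .inr (220, 1),
   .inr (796, 1),
   .inr (236, 1),
   .inr (812, 1),
   .inr (460, 1),
   .inr (1612, 1),
   .inr (1420, 1),
   .inr (628, 1),
   .inr (436, 1),
   .inr (468, 1),
   .inr (852, 1),
   .inr (1684, 1),
   .inr (740, 1),
   .inr (1380, 1),
   .inr (932, 1),
   .inr (632, 1),
   .inr (440, 1),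
   .inr (728, 1),
   .inr (1368, 1),
   .inr (920, 1),
   .inr (488, 1),
   .inr (872, 1),
   .inr (1704, 1),
   .inr (496, 1),
   .inr (1264, 1),
   .inr (1840, 1),
   .inr (1984, 1),
   .inl 2,
   .inr (157, 1),
   .inr (541, 1),
   .inr (173, 1),
   .inr (109, 1),
   .inr (301, 1),
   .inr (333, 1),
   .inr (653, 1),
   .inr (309, 1),
   .inr (1077, 1),
   .inr (181, 1),
   .inr (213, 1),
   .inr (1301, 1),
   .inr (229, 1),
   .inr (1573, 1),
   .inr (1221, 1),
   .inr (837, 1),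
   .inr (901, 1),
   .inr (121, 1),
   .inr (313, 1),
   .inr (569, 1),
   .inr (345, 1),
   .inr (1177, 1),
   .inr (1129, 1),
   .inr (425, 1),
   .inr (457, 1),
   .inr (713, 1),
   .inr (1801, 1),
   .inr (369, 1),
   .inr (689, 1),
   .inr (465, 1),
   .inr (1617, 1),
   .inr (913, 1),
   .inr (737, 1),
   .inr (865, 1),
   .inr (1441, 1),
   .inr (94, 1),
   .inr (158, 1),
   .inr (286, 1),
   .inr (110, 1),
   .inr (174, 1),
   .inr (558, 1),
   .inr (334, 1),
   .inr (654, 1),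
   .inr (118, 1),
   .inr (310, 1),
   .inr (566, 1),
   .inr (1110, 1),
   .inr (406, 1),
   .inr (358, 1),
   .inr (1190, 1),
   .inr (454, 1),
   .inr (710, 1),
   .inr (1798, 1),
   .inr (122, 1),
   .inr (186, 1),
   .inr (314, 1),
   .inr (218, 1),
   .inr (1562, 1),
   .inr (234, 1),
   .inr (1322, 1),
   .inr (1226, 1),
   .inr (842, 1),
   .inr (906, 1),
   .inr (370, 1),
   .inr (690, 1),
   .inr (722, 1),
   .inr (850, 1),
   .inr (1426, 1),
   .inr (482, 1),
   .inr (1634, 1),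
   .inr (930, 1),
   .inr (124, 1),
   .inr (188, 1),
   .inr (1084, 1),
   .inr (220, 1),
   .inr (796, 1),
   .inr (236, 1),
   .inr (812, 1),
   .inr (460, 1),
   .inr (1612, 1),
   .inr (1420, 1),
   .inr (628, 1),
   .inr (436, 1),
   .inr (468, 1),
   .inr (852, 1),
   .inr (1684, 1),
   .inr (740, 1),
   .inr (1380, 1),
   .inr (932, 1),
   .inr (632, 1),
   .inr (440, 1),
   .inr (728, 1),
   .inr (1368, 1),
   .inr (920, 1),
   .inr (488, 1),
   .inr (872, 1),
   .inr (1704, 1),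
   .inr (496, 1),
   .inr (1264, 1),
   .inr (1840, 1),
   .inr (1984, 1),
   .inl 3,
   .inr (587, 1),
   .inr (1067, 1),
   .inr (299, 1),
   .inr (331, 1),
   .inr (283, 1),
   .inr (539, 1),
   .inr (651, 1),
   .inr (307, 1),
   .inr (595, 1),
   .inr (115, 1),
   .inr (179, 1),
   .inr (1299, 1),
   .inr (227, 1),
   .inr (1571, 1),
   .inr (1219, 1),
   .inr (835, 1),
   .inr (899, 1),
   .inr (93, 2),
   .inr (157, 1),
   .inr (285, 1),
   .inr (173, 1),
   .inr (109, 1),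
   .inr (557, 1),
   .inr (333, 1),
   .inr (653, 1),
   .inr (117, 1),
   .inr (309, 1),
   .inr (565, 1),
   .inr (1109, 1),
   .inr (405, 1),
   .inr (357, 1),
   .inr (1189, 1),
   .inr (453, 1),
   .inr (709, 1),
   .inr (1797, 1),
   .inr (121, 1),
   .inr (185, 1),
   .inr (1081, 1),
   .inr (217, 1),
   .inr (793, 1),
   .inr (233, 1),
   .inr (809, 1),
   .inr (457, 1),
   .inr (1609, 1),
   .inr (1417, 1),
   .inr (625, 1),
   .inr (433, 1)]

def tree_2 : List (Sum ℕ (ℕ × ℕ)) :=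
  [.inr (465, 1),
   .inr (849, 1),
   .inr (1681, 1),
   .inr (737, 1),
   .inr (1377, 1),
   .inr (929, 1),
   .inr (94, 1),
   .inr (158, 1),
   .inr (286, 1),
   .inr (110, 1),
   .inr (174, 1),
   .inr (558, 1),
   .inr (590, 1),
   .inr (398, 1),
   .inr (118, 1),
   .inr (182, 1),
   .inr (1078, 1),
   .inr (214, 1),
   .inr (790, 1),
   .inr (230, 1),
   .inr (806, 1),
   .inr (454, 1),
   .inr (1350, 1),
   .inr (1670, 1),
   .inr (122, 1),
   .inr (314, 1),
   .inr (570, 1),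
   .inr (346, 1),
   .inr (1178, 1),
   .inr (1130, 1),
   .inr (426, 1),
   .inr (458, 1),
   .inr (714, 1),
   .inr (1802, 1),
   .inr (370, 1),
   .inr (690, 1),
   .inr (466, 1),
   .inr (1618, 1),
   .inr (914, 1),
   .inr (738, 1),
   .inr (866, 1),
   .inr (1442, 1),
   .inr (124, 1),
   .inr (188, 1),
   .inr (316, 1),
   .inr (220, 1),
   .inr (1564, 1),
   .inr (236, 1),
   .inr (1324, 1),
   .inr (1228, 1),
   .inr (844, 1),
   .inr (908, 1),
   .inr (372, 1),
   .inr (692, 1),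
   .inr (724, 1),
   .inr (852, 1),
   .inr (1428, 1),
   .inr (484, 1),
   .inr (1636, 1),
   .inr (932, 1),
   .inr (632, 1),
   .inr (440, 1),
   .inr (728, 1),
   .inr (1368, 1),
   .inr (920, 1),
   .inr (488, 1),
   .inr (872, 1),
   .inr (1704, 1),
   .inr (496, 1),
   .inr (1264, 1),
   .inr (1840, 1),
   .inr (1984, 1),
   .inl 4,
   .inr (285, 1),
   .inr (157, 1),
   .inr (109, 1),
   .inr (173, 1),
   .inr (557, 1),
   .inr (589, 1),
   .inr (397, 1),
   .inr (309, 1),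
   .inr (117, 1),
   .inr (1077, 1),
   .inr (213, 1),
   .inr (789, 1),
   .inr (229, 1),
   .inr (805, 1),
   .inr (453, 1),
   .inr (1349, 1),
   .inr (1669, 1),
   .inr (121, 1),
   .inr (313, 1),
   .inr (569, 1),
   .inr (345, 1),
   .inr (1177, 1),
   .inr (1129, 1),
   .inr (425, 1),
   .inr (457, 1),
   .inr (713, 1),
   .inr (1801, 1),
   .inr (369, 1),
   .inr (689, 1),
   .inr (465, 1),
   .inr (1617, 1),
   .inr (913, 1),
   .inr (737, 1),
   .inr (865, 1),
   .inr (1441, 1),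
   .inr (94, 1),
   .inr (158, 1),
   .inr (286, 1),
   .inr (110, 1),
   .inr (174, 1),
   .inr (558, 1),
   .inr (334, 1),
   .inr (654, 1),
   .inr (118, 1),
   .inr (310, 1),
   .inr (566, 1),
   .inr (1110, 1),
   .inr (406, 1),
   .inr (358, 1),
   .inr (1190, 1),
   .inr (454, 1),
   .inr (710, 1),
   .inr (1798, 1),
   .inr (122, 1),
   .inr (186, 1),
   .inr (1082, 1),
   .inr (218, 1),
   .inr (794, 1),
   .inr (234, 1),
   .inr (810, 1),
   .inr (458, 1),
   .inr (1610, 1),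
   .inr (1418, 1),
   .inr (626, 1),
   .inr (434, 1),
   .inr (466, 1),
   .inr (850, 1),
   .inr (1682, 1),
   .inr (738, 1),
   .inr (1378, 1),
   .inr (930, 1),
   .inr (124, 1),
   .inr (188, 1),
   .inr (316, 1),
   .inr (220, 1),
   .inr (1564, 1),
   .inr (236, 1),
   .inr (1324, 1),
   .inr (1228, 1),
   .inr (844, 1),
   .inr (908, 1),
   .inr (372, 1),
   .inr (692, 1),
   .inr (724, 1),
   .inr (852, 1),
   .inr (1428, 1),
   .inr (484, 1),
   .inr (1636, 1),
   .inr (932, 1),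
   .inr (632, 1),
   .inr (440, 1),
   .inr (728, 1),
   .inr (1368, 1),
   .inr (920, 1),
   .inr (488, 1),
   .inr (872, 1),
   .inr (1704, 1),
   .inr (496, 1),
   .inr (1264, 1),
   .inr (1840, 1),
   .inr (1984, 1),
   .inl 5,
   .inr (151, 1),
   .inr (1095, 1),
   .inr (583, 1),
   .inr (551, 1),
   .inr (295, 1),
   .inr (391, 1),
   .inr (91, 3),
   .inr (2075, 1),
   .inr (155, 1),
   .inr (1099, 1),
   .inr (107, 1),
   .inr (171, 1),
   .inr (555, 1),
   .inr (651, 1),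
   .inr (115, 1),
   .inr (1107, 1),
   .inr (1075, 1),
   .inr (563, 1),
   .inr (403, 1),
   .inr (355, 1),
   .inr (1187, 1),
   .inr (451, 1),
   .inr (707, 1),
   .inr (1795, 1),
   .inr (93, 2),
   .inr (285, 1),
   .inr (541, 1),
   .inr (557, 1),
   .inr (301, 1),
   .inr (173, 1),
   .inr (333, 1),
   .inr (653, 1),
   .inr (117, 1),
   .inr (181, 1),
   .inr (309, 1),
   .inr (213, 1),
   .inr (1301, 1),
   .inr (229, 1),
   .inr (1573, 1),
   .inr (1221, 1),
   .inr (837, 1),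
   .inr (901, 1),
   .inr (121, 1),
   .inr (185, 1),
   .inr (1081, 1),
   .inr (217, 1),
   .inr (793, 1),
   .inr (233, 1),
   .inr (809, 1),
   .inr (457, 1),
   .inr (1609, 1),
   .inr (1417, 1),
   .inr (625, 1),
   .inr (433, 1),
   .inr (465, 1),
   .inr (849, 1),
   .inr (1681, 1),
   .inr (737, 1),
   .inr (1377, 1),
   .inr (929, 1),
   .inr (94, 1),
   .inr (158, 1),
   .inr (286, 1),
   .inr (110, 1),
   .inr (174, 1),
   .inr (558, 1),
   .inr (590, 1),
   .inr (398, 1),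
   .inr (118, 1),
   .inr (182, 1),
   .inr (1078, 1),
   .inr (214, 1),
   .inr (790, 1),
   .inr (230, 1),
   .inr (806, 1)]

def tree_3 : List (Sum ℕ (ℕ × ℕ)) :=
  [.inr (454, 1),
   .inr (1350, 1),
   .inr (1670, 1),
   .inr (122, 1),
   .inr (186, 1),
   .inr (314, 1),
   .inr (218, 1),
   .inr (1562, 1),
   .inr (234, 1),
   .inr (1322, 1),
   .inr (1226, 1),
   .inr (842, 1),
   .inr (906, 1),
   .inr (370, 1),
   .inr (690, 1),
   .inr (722, 1),
   .inr (850, 1),
   .inr (1426, 1),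
   .inr (482, 1),
   .inr (1634, 1),
   .inr (930, 1),
   .inr (124, 1),
   .inr (316, 1),
   .inr (572, 1),
   .inr (348, 1),
   .inr (1180, 1),
   .inr (1132, 1),
   .inr (428, 1),
   .inr (460, 1),
   .inr (716, 1),
   .inr (1804, 1),
   .inr (372, 1),
   .inr (692, 1),
   .inr (468, 1),
   .inr (1620, 1),
   .inr (916, 1),
   .inr (740, 1),
   .inr (868, 1),
   .inr (1444, 1),
   .inr (632, 1),
   .inr (440, 1),
   .inr (728, 1),
   .inr (1368, 1),
   .inr (920, 1),
   .inr (488, 1),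
   .inr (872, 1),
   .inr (1704, 1),
   .inr (496, 1),
   .inr (1264, 1),
   .inr (1840, 1),
   .inr (1984, 1),
   .inl 6,
   .inr (541, 1),
   .inr (285, 1),
   .inr (301, 1),
   .inr (557, 1),
   .inr (173, 1),
   .inr (589, 1),
   .inr (397, 1),
   .inr (117, 1),
   .inr (181, 1),
   .inr (1077, 1),
   .inr (213, 1),
   .inr (789, 1),
   .inr (229, 1),
   .inr (805, 1),
   .inr (453, 1),
   .inr (1349, 1),
   .inr (1669, 1),
   .inr (121, 1),
   .inr (185, 1),
   .inr (313, 1),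
   .inr (217, 1),
   .inr (1561, 1),
   .inr (233, 1),
   .inr (1321, 1),
   .inr (1225, 1),
   .inr (841, 1),
   .inr (905, 1),
   .inr (369, 1),
   .inr (689, 1),
   .inr (721, 1),
   .inr (849, 1),
   .inr (1425, 1),
   .inr (481, 1),
   .inr (1633, 1),
   .inr (929, 1),
   .inr (94, 1),
   .inr (158, 1),
   .inr (542, 1),
   .inr (110, 1),
   .inr (174, 1),
   .inr (302, 1),
   .inr (334, 1),
   .inr (654, 1),
   .inr (118, 1),
   .inr (182, 1),
   .inr (310, 1),
   .inr (214, 1),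
   .inr (1302, 1),
   .inr (230, 1),
   .inr (1574, 1),
   .inr (1222, 1),
   .inr (838, 1),
   .inr (902, 1),
   .inr (122, 1),
   .inr (186, 1),
   .inr (1082, 1),
   .inr (218, 1),
   .inr (794, 1),
   .inr (234, 1),
   .inr (810, 1),
   .inr (458, 1),
   .inr (1610, 1),
   .inr (1418, 1),
   .inr (626, 1),
   .inr (434, 1),
   .inr (466, 1),
   .inr (850, 1),
   .inr (1682, 1),
   .inr (738, 1),
   .inr (1378, 1),
   .inr (930, 1),
   .inr (124, 1),
   .inr (316, 1),
   .inr (572, 1),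
   .inr (348, 1),
   .inr (1180, 1),
   .inr (1132, 1),
   .inr (428, 1),
   .inr (460, 1),
   .inr (716, 1),
   .inr (1804, 1),
   .inr (372, 1),
   .inr (692, 1),
   .inr (468, 1),
   .inr (1620, 1),
   .inr (916, 1),
   .inr (740, 1),
   .inr (868, 1),
   .inr (1444, 1),
   .inr (632, 1),
   .inr (440, 1),
   .inr (728, 1),
   .inr (1368, 1),
   .inr (920, 1),
   .inr (488, 1),
   .inr (872, 1),
   .inr (1704, 1),
   .inr (496, 1),
   .inr (1264, 1),
   .inr (1840, 1),
   .inr (1984, 1),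
   .inl 7,
   .inr (587, 1),
   .inr (2091, 1),
   .inr (299, 1),
   .inr (331, 1),
   .inr (283, 1),
   .inr (539, 1),
   .inr (651, 1),
   .inr (307, 1),
   .inr (595, 1),
   .inr (115, 1),
   .inr (179, 1),
   .inr (1299, 1),
   .inr (227, 1),
   .inr (1571, 1),
   .inr (1219, 1),
   .inr (835, 1),
   .inr (899, 1),
   .inr (93, 2),
   .inr (157, 1),
   .inr (285, 1),
   .inr (173, 1),
   .inr (109, 1),
   .inr (557, 1),
   .inr (333, 1),
   .inr (653, 1),
   .inr (117, 1),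
   .inr (309, 1),
   .inr (565, 1),
   .inr (1109, 1),
   .inr (405, 1),
   .inr (357, 1),
   .inr (1189, 1),
   .inr (453, 1),
   .inr (709, 1),
   .inr (1797, 1),
   .inr (121, 1),
   .inr (185, 1),
   .inr (1081, 1),
   .inr (217, 1),
   .inr (793, 1),
   .inr (233, 1),
   .inr (809, 1),
   .inr (457, 1),
   .inr (1609, 1),
   .inr (1417, 1),
   .inr (625, 1),
   .inr (433, 1),
   .inr (465, 1),
   .inr (849, 1),
   .inr (1681, 1),
   .inr (737, 1),
   .inr (1377, 1),
   .inr (929, 1),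
   .inr (94, 1),
   .inr (158, 1),
   .inr (286, 1),
   .inr (110, 1),
   .inr (174, 1),
   .inr (558, 1),
   .inr (590, 1),
   .inr (398, 1),
   .inr (118, 1),
   .inr (182, 1),
   .inr (1078, 1),
   .inr (214, 1),
   .inr (790, 1),
   .inr (230, 1),
   .inr (806, 1),
   .inr (454, 1),
   .inr (1350, 1),
   .inr (1670, 1),
   .inr (122, 1),
   .inr (314, 1),
   .inr (570, 1),
   .inr (346, 1),
   .inr (1178, 1),
   .inr (1130, 1),
   .inr (426, 1),
   .inr (458, 1),
   .inr (714, 1),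
   .inr (1802, 1),
   .inr (370, 1),
   .inr (690, 1),
   .inr (466, 1),
   .inr (1618, 1),
   .inr (914, 1),
   .inr (738, 1),
   .inr (866, 1),
   .inr (1442, 1),
   .inr (124, 1),
   .inr (188, 1),
   .inr (316, 1),
   .inr (220, 1),
   .inr (1564, 1),
   .inr (236, 1),
   .inr (1324, 1)]

def tree_4 : List (Sum ℕ (ℕ × ℕ)) :=
  [.inr (1228, 1),
   .inr (844, 1),
   .inr (908, 1),
   .inr (372, 1),
   .inr (692, 1),
   .inr (724, 1),
   .inr (852, 1),
   .inr (1428, 1),
   .inr (484, 1),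
   .inr (1636, 1),
   .inr (932, 1),
   .inr (632, 1),
   .inr (440, 1),
   .inr (728, 1),
   .inr (1368, 1),
   .inr (920, 1),
   .inr (488, 1),
   .inr (872, 1),
   .inr (1704, 1),
   .inr (496, 1),
   .inr (1264, 1),
   .inr (1840, 1),
   .inr (1984, 1),
   .inl 8,
   .inr (285, 1),
   .inr (157, 1),
   .inr (109, 1),
   .inr (173, 1),
   .inr (557, 1),
   .inr (589, 1),
   .inr (397, 1),
   .inr (309, 1),
   .inr (117, 1),
   .inr (1077, 1),
   .inr (213, 1),
   .inr (789, 1),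
   .inr (229, 1),
   .inr (805, 1),
   .inr (453, 1),
   .inr (1349, 1),
   .inr (1669, 1),
   .inr (121, 1),
   .inr (313, 1),
   .inr (569, 1),
   .inr (345, 1),
   .inr (1177, 1),
   .inr (1129, 1),
   .inr (425, 1),
   .inr (457, 1),
   .inr (713, 1),
   .inr (1801, 1),
   .inr (369, 1),
   .inr (689, 1),
   .inr (465, 1),
   .inr (1617, 1),
   .inr (913, 1),
   .inr (737, 1),
   .inr (865, 1),
   .inr (1441, 1),
   .inr (94, 1),
   .inr (158, 1),
   .inr (286, 1),
   .inr (110, 1),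
   .inr (174, 1),
   .inr (558, 1),
   .inr (334, 1),
   .inr (654, 1),
   .inr (118, 1),
   .inr (310, 1),
   .inr (566, 1),
   .inr (1110, 1),
   .inr (406, 1),
   .inr (358, 1),
   .inr (1190, 1),
   .inr (454, 1),
   .inr (710, 1),
   .inr (1798, 1),
   .inr (122, 1),
   .inr (186, 1),
   .inr (1082, 1),
   .inr (218, 1),
   .inr (794, 1),
   .inr (234, 1),
   .inr (810, 1),
   .inr (458, 1),
   .inr (1610, 1),
   .inr (1418, 1),
   .inr (626, 1),
   .inr (434, 1),
   .inr (466, 1),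
   .inr (850, 1),
   .inr (1682, 1),
   .inr (738, 1),
   .inr (1378, 1),
   .inr (930, 1),
   .inr (124, 1),
   .inr (188, 1),
   .inr (316, 1),
   .inr (220, 1),
   .inr (1564, 1),
   .inr (236, 1),
   .inr (1324, 1),
   .inr (1228, 1),
   .inr (844, 1),
   .inr (908, 1),
   .inr (372, 1),
   .inr (692, 1),
   .inr (724, 1),
   .inr (852, 1),
   .inr (1428, 1),
   .inr (484, 1),
   .inr (1636, 1),
   .inr (932, 1),
   .inr (632, 1),
   .inr (440, 1),
   .inr (728, 1),
   .inr (1368, 1),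
   .inr (920, 1),
   .inr (488, 1),
   .inr (872, 1),
   .inr (1704, 1),
   .inr (496, 1),
   .inr (1264, 1),
   .inr (1840, 1),
   .inr (1984, 1),
   .inl 9,
   .inr (539, 1),
   .inr (283, 1),
   .inr (331, 1),
   .inr (587, 1),
   .inr (555, 1),
   .inr (171, 1),
   .inr (395, 1),
   .inr (1075, 1),
   .inr (595, 1),
   .inr (179, 1),
   .inr (211, 1),
   .inr (787, 1),
   .inr (227, 1),
   .inr (803, 1),
   .inr (451, 1),
   .inr (1347, 1),
   .inr (1667, 1),
   .inr (93, 2),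
   .inr (1053, 1),
   .inr (285, 1),
   .inr (109, 1),
   .inr (173, 1),
   .inr (557, 1),
   .inr (333, 1),
   .inr (653, 1),
   .inr (117, 1),
   .inr (1077, 1),
   .inr (565, 1),
   .inr (1109, 1),
   .inr (405, 1),
   .inr (357, 1),
   .inr (1189, 1),
   .inr (453, 1),
   .inr (709, 1),
   .inr (1797, 1),
   .inr (121, 1),
   .inr (185, 1),
   .inr (313, 1),
   .inr (217, 1),
   .inr (1561, 1),
   .inr (233, 1),
   .inr (1321, 1),
   .inr (1225, 1),
   .inr (841, 1),
   .inr (905, 1),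
   .inr (369, 1),
   .inr (689, 1),
   .inr (721, 1),
   .inr (849, 1),
   .inr (1425, 1),
   .inr (481, 1),
   .inr (1633, 1),
   .inr (929, 1),
   .inr (94, 1),
   .inr (158, 1),
   .inr (542, 1),
   .inr (110, 1),
   .inr (174, 1),
   .inr (302, 1),
   .inr (334, 1),
   .inr (654, 1),
   .inr (118, 1),
   .inr (182, 1),
   .inr (310, 1),
   .inr (214, 1),
   .inr (1302, 1),
   .inr (230, 1),
   .inr (1574, 1),
   .inr (1222, 1),
   .inr (838, 1),
   .inr (902, 1),
   .inr (122, 1),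
   .inr (314, 1),
   .inr (570, 1),
   .inr (346, 1),
   .inr (1178, 1),
   .inr (1130, 1),
   .inr (426, 1),
   .inr (458, 1),
   .inr (714, 1),
   .inr (1802, 1),
   .inr (370, 1),
   .inr (690, 1),
   .inr (466, 1),
   .inr (1618, 1),
   .inr (914, 1),
   .inr (738, 1),
   .inr (866, 1),
   .inr (1442, 1),
   .inr (124, 1),
   .inr (188, 1),
   .inr (1084, 1),
   .inr (220, 1),
   .inr (796, 1),
   .inr (236, 1),
   .inr (812, 1),
   .inr (460, 1),
   .inr (1612, 1),
   .inr (1420, 1),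
   .inr (628, 1),
   .inr (436, 1),
   .inr (468, 1),
   .inr (852, 1),
   .inr (1684, 1),
   .inr (740, 1),
   .inr (1380, 1),
   .inr (932, 1),
   .inr (632, 1),
   .inr (440, 1),
   .inr (728, 1),
   .inr (1368, 1),
   .inr (920, 1),
   .inr (488, 1),
   .inr (872, 1),
   .inr (1704, 1),
   .inr (496, 1),
   .inr (1264, 1),
   .inr (1840, 1),
   .inr (1984, 1),
   .inl 10,
   .inr (157, 1),
   .inr (541, 1),
   .inr (173, 1),
   .inr (109, 1)]

def tree_5 : List (Sum ℕ (ℕ × ℕ)) :=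
  [.inr (301, 1),
   .inr (333, 1),
   .inr (653, 1),
   .inr (309, 1),
   .inr (1077, 1),
   .inr (117, 1),
   .inr (213, 1),
   .inr (1301, 1),
   .inr (229, 1),
   .inr (1573, 1),
   .inr (1221, 1),
   .inr (837, 1),
   .inr (901, 1),
   .inr (121, 1),
   .inr (313, 1),
   .inr (569, 1),
   .inr (345, 1),
   .inr (1177, 1),
   .inr (1129, 1),
   .inr (425, 1),
   .inr (457, 1),
   .inr (713, 1),
   .inr (1801, 1),
   .inr (369, 1),
   .inr (689, 1),
   .inr (465, 1),
   .inr (1617, 1),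
   .inr (913, 1),
   .inr (737, 1),
   .inr (865, 1),
   .inr (1441, 1),
   .inr (94, 1),
   .inr (158, 1),
   .inr (286, 1),
   .inr (110, 1),
   .inr (174, 1),
   .inr (558, 1),
   .inr (334, 1),
   .inr (654, 1),
   .inr (118, 1),
   .inr (310, 1),
   .inr (566, 1),
   .inr (1110, 1),
   .inr (406, 1),
   .inr (358, 1),
   .inr (1190, 1),
   .inr (454, 1),
   .inr (710, 1),
   .inr (1798, 1),
   .inr (122, 1),
   .inr (186, 1),
   .inr (314, 1),
   .inr (218, 1),
   .inr (1562, 1),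
   .inr (234, 1),
   .inr (1322, 1),
   .inr (1226, 1),
   .inr (842, 1),
   .inr (906, 1),
   .inr (370, 1),
   .inr (690, 1),
   .inr (722, 1),
   .inr (850, 1),
   .inr (1426, 1),
   .inr (482, 1),
   .inr (1634, 1),
   .inr (930, 1),
   .inr (124, 1),
   .inr (188, 1),
   .inr (1084, 1),
   .inr (220, 1),
   .inr (796, 1),
   .inr (236, 1),
   .inr (812, 1),
   .inr (460, 1),
   .inr (1612, 1),
   .inr (1420, 1),
   .inr (628, 1),
   .inr (436, 1),
   .inr (468, 1),
   .inr (852, 1),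
   .inr (1684, 1),
   .inr (740, 1),
   .inr (1380, 1),
   .inr (932, 1),
   .inr (632, 1),
   .inr (440, 1),
   .inr (728, 1),
   .inr (1368, 1),
   .inr (920, 1),
   .inr (488, 1),
   .inr (872, 1),
   .inr (1704, 1),
   .inr (496, 1),
   .inr (1264, 1),
   .inr (1840, 1),
   .inr (1984, 1),
   .inl 11,
   .inr (1047, 2),
   .inr (279, 1),
   .inr (2119, 1),
   .inr (327, 1),
   .inr (295, 1),
   .inr (551, 1),
   .inr (647, 1),
   .inr (91, 3),
   .inr (1051, 1),
   .inr (155, 1),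
   .inr (1099, 1),
   .inr (171, 1),
   .inr (299, 1),
   .inr (587, 1),
   .inr (395, 1),
   .inr (115, 1),
   .inr (1107, 1),
   .inr (1075, 1),
   .inr (563, 1),
   .inr (403, 1),
   .inr (355, 1),
   .inr (1187, 1),
   .inr (451, 1),
   .inr (707, 1),
   .inr (1795, 1),
   .inr (93, 2),
   .inr (285, 1),
   .inr (541, 1),
   .inr (557, 1),
   .inr (301, 1),
   .inr (173, 1),
   .inr (333, 1),
   .inr (653, 1),
   .inr (117, 1),
   .inr (181, 1),
   .inr (1077, 1),
   .inr (213, 1),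
   .inr (789, 1),
   .inr (229, 1),
   .inr (805, 1),
   .inr (453, 1),
   .inr (1605, 1),
   .inr (1413, 1),
   .inr (121, 1),
   .inr (185, 1),
   .inr (313, 1),
   .inr (217, 1),
   .inr (1305, 1),
   .inr (233, 1),
   .inr (1577, 1),
   .inr (1225, 1),
   .inr (841, 1),
   .inr (905, 1),
   .inr (625, 1),
   .inr (433, 1),
   .inr (465, 1),
   .inr (849, 1),
   .inr (1681, 1),
   .inr (737, 1),
   .inr (1377, 1),
   .inr (929, 1),
   .inr (94, 1),
   .inr (158, 1),
   .inr (286, 1),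
   .inr (110, 1),
   .inr (174, 1),
   .inr (558, 1),
   .inr (590, 1),
   .inr (398, 1),
   .inr (118, 1),
   .inr (182, 1),
   .inr (310, 1),
   .inr (214, 1),
   .inr (1558, 1),
   .inr (230, 1),
   .inr (1318, 1),
   .inr (1222, 1),
   .inr (838, 1),
   .inr (902, 1),
   .inr (122, 1),
   .inr (186, 1),
   .inr (1082, 1),
   .inr (218, 1),
   .inr (794, 1),
   .inr (234, 1),
   .inr (810, 1),
   .inr (458, 1),
   .inr (1354, 1),
   .inr (1674, 1),
   .inr (370, 1),
   .inr (690, 1),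
   .inr (722, 1),
   .inr (850, 1),
   .inr (1426, 1),
   .inr (482, 1),
   .inr (1634, 1),
   .inr (930, 1),
   .inr (124, 1),
   .inr (316, 1),
   .inr (572, 1),
   .inr (348, 1),
   .inr (1180, 1),
   .inr (1132, 1),
   .inr (428, 1),
   .inr (460, 1),
   .inr (716, 1),
   .inr (1804, 1),
   .inr (628, 1),
   .inr (436, 1),
   .inr (724, 1),
   .inr (1364, 1),
   .inr (916, 1),
   .inr (484, 1),
   .inr (868, 1),
   .inr (1700, 1),
   .inr (376, 1),
   .inr (696, 1),
   .inr (472, 1),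
   .inr (1624, 1),
   .inr (920, 1),
   .inr (744, 1),
   .inr (872, 1),
   .inr (1448, 1),
   .inr (496, 1),
   .inr (1264, 1),
   .inr (1840, 1),
   .inr (1984, 1),
   .inl 12,
   .inr (541, 1),
   .inr (285, 1),
   .inr (301, 1),
   .inr (557, 1),
   .inr (173, 1),
   .inr (589, 1),
   .inr (397, 1),
   .inr (117, 1),
   .inr (181, 1),
   .inr (309, 1),
   .inr (213, 1),
   .inr (1557, 1),
   .inr (229, 1),
   .inr (1317, 1),
   .inr (1221, 1),
   .inr (837, 1),
   .inr (901, 1),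
   .inr (121, 1),
   .inr (185, 1),
   .inr (1081, 1),
   .inr (217, 1),
   .inr (793, 1),
   .inr (233, 1),
   .inr (809, 1)]

def tree_6 : List (Sum ℕ (ℕ × ℕ)) :=
  [.inr (457, 1),
   .inr (1353, 1),
   .inr (1673, 1),
   .inr (369, 1),
   .inr (689, 1),
   .inr (721, 1),
   .inr (849, 1),
   .inr (1425, 1),
   .inr (481, 1),
   .inr (1633, 1),
   .inr (929, 1),
   .inr (94, 1),
   .inr (158, 1),
   .inr (542, 1),
   .inr (110, 1),
   .inr (174, 1),
   .inr (302, 1),
   .inr (334, 1),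
   .inr (654, 1),
   .inr (118, 1),
   .inr (182, 1),
   .inr (1078, 1),
   .inr (214, 1),
   .inr (790, 1),
   .inr (230, 1),
   .inr (806, 1),
   .inr (454, 1),
   .inr (1606, 1),
   .inr (1414, 1),
   .inr (122, 1),
   .inr (186, 1),
   .inr (314, 1),
   .inr (218, 1),
   .inr (1306, 1),
   .inr (234, 1),
   .inr (1578, 1),
   .inr (1226, 1),
   .inr (842, 1),
   .inr (906, 1),
   .inr (626, 1),
   .inr (434, 1),
   .inr (466, 1),
   .inr (850, 1),
   .inr (1682, 1),
   .inr (738, 1),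
   .inr (1378, 1),
   .inr (930, 1),
   .inr (124, 1),
   .inr (316, 1),
   .inr (572, 1),
   .inr (348, 1),
   .inr (1180, 1),
   .inr (1132, 1),
   .inr (428, 1),
   .inr (460, 1),
   .inr (716, 1),
   .inr (1804, 1),
   .inr (628, 1),
   .inr (436, 1),
   .inr (724, 1),
   .inr (1364, 1),
   .inr (916, 1),
   .inr (484, 1),
   .inr (868, 1),
   .inr (1700, 1),
   .inr (376, 1),
   .inr (696, 1),
   .inr (472, 1),
   .inr (1624, 1),
   .inr (920, 1),
   .inr (744, 1),
   .inr (872, 1),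
   .inr (1448, 1),
   .inr (496, 1),
   .inr (1264, 1),
   .inr (1840, 1),
   .inr (1984, 1),
   .inl 13,
   .inr (283, 1),
   .inr (539, 1),
   .inr (587, 1),
   .inr (331, 1),
   .inr (299, 1),
   .inr (171, 1),
   .inr (651, 1),
   .inr (1075, 1),
   .inr (339, 1),
   .inr (179, 1),
   .inr (211, 1),
   .inr (787, 1),
   .inr (227, 1),
   .inr (803, 1),
   .inr (451, 1),
   .inr (1603, 1),
   .inr (1411, 1),
   .inr (93, 2),
   .inr (1053, 1),
   .inr (157, 1),
   .inr (109, 1),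
   .inr (173, 1),
   .inr (301, 1),
   .inr (589, 1),
   .inr (397, 1),
   .inr (117, 1),
   .inr (1077, 1),
   .inr (565, 1),
   .inr (1109, 1),
   .inr (405, 1),
   .inr (357, 1),
   .inr (1189, 1),
   .inr (453, 1),
   .inr (709, 1),
   .inr (1797, 1),
   .inr (121, 1),
   .inr (185, 1),
   .inr (313, 1),
   .inr (217, 1),
   .inr (1305, 1),
   .inr (233, 1),
   .inr (1577, 1),
   .inr (1225, 1),
   .inr (841, 1),
   .inr (905, 1),
   .inr (625, 1),
   .inr (433, 1),
   .inr (465, 1),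
   .inr (849, 1),
   .inr (1681, 1),
   .inr (737, 1),
   .inr (1377, 1),
   .inr (929, 1),
   .inr (94, 1),
   .inr (158, 1),
   .inr (286, 1),
   .inr (110, 1),
   .inr (174, 1),
   .inr (558, 1),
   .inr (590, 1),
   .inr (398, 1),
   .inr (118, 1),
   .inr (182, 1),
   .inr (310, 1),
   .inr (214, 1),
   .inr (1558, 1),
   .inr (230, 1),
   .inr (1318, 1),
   .inr (1222, 1),
   .inr (838, 1),
   .inr (902, 1),
   .inr (122, 1),
   .inr (314, 1),
   .inr (570, 1),
   .inr (346, 1),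
   .inr (1178, 1),
   .inr (1130, 1),
   .inr (426, 1),
   .inr (458, 1),
   .inr (714, 1),
   .inr (1802, 1),
   .inr (626, 1),
   .inr (434, 1),
   .inr (722, 1),
   .inr (1362, 1),
   .inr (914, 1),
   .inr (482, 1),
   .inr (866, 1),
   .inr (1698, 1),
   .inr (124, 1),
   .inr (188, 1),
   .inr (1084, 1),
   .inr (220, 1),
   .inr (796, 1),
   .inr (236, 1),
   .inr (812, 1),
   .inr (460, 1),
   .inr (1356, 1),
   .inr (1676, 1),
   .inr (372, 1),
   .inr (692, 1),
   .inr (724, 1),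
   .inr (852, 1),
   .inr (1428, 1),
   .inr (484, 1),
   .inr (1636, 1),
   .inr (932, 1),
   .inr (376, 1),
   .inr (696, 1),
   .inr (472, 1),
   .inr (1624, 1),
   .inr (920, 1),
   .inr (744, 1),
   .inr (872, 1),
   .inr (1448, 1),
   .inr (496, 1),
   .inr (1264, 1),
   .inr (1840, 1),
   .inr (1984, 1),
   .inl 14,
   .inr (157, 1),
   .inr (285, 1),
   .inr (173, 1),
   .inr (109, 1),
   .inr (557, 1),
   .inr (589, 1),
   .inr (397, 1),
   .inr (309, 1),
   .inr (1077, 1),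
   .inr (181, 1),
   .inr (213, 1),
   .inr (1557, 1),
   .inr (229, 1),
   .inr (1317, 1),
   .inr (1221, 1),
   .inr (837, 1),
   .inr (901, 1),
   .inr (121, 1),
   .inr (313, 1),
   .inr (569, 1),
   .inr (345, 1),
   .inr (1177, 1),
   .inr (1129, 1),
   .inr (425, 1),
   .inr (457, 1),
   .inr (713, 1),
   .inr (1801, 1),
   .inr (625, 1),
   .inr (433, 1),
   .inr (721, 1),
   .inr (1361, 1),
   .inr (913, 1),
   .inr (481, 1),
   .inr (865, 1),
   .inr (1697, 1),
   .inr (94, 1),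
   .inr (158, 1),
   .inr (542, 1),
   .inr (110, 1),
   .inr (174, 1),
   .inr (302, 1),
   .inr (590, 1),
   .inr (398, 1),
   .inr (118, 1),
   .inr (310, 1),
   .inr (566, 1),
   .inr (1110, 1),
   .inr (406, 1),
   .inr (358, 1),
   .inr (1190, 1),
   .inr (454, 1),
   .inr (710, 1)]

def tree_7 : List (Sum ℕ (ℕ × ℕ)) :=
  [.inr (1798, 1),
   .inr (122, 1),
   .inr (186, 1),
   .inr (314, 1),
   .inr (218, 1),
   .inr (1306, 1),
   .inr (234, 1),
   .inr (1578, 1),
   .inr (1226, 1),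
   .inr (842, 1),
   .inr (906, 1),
   .inr (626, 1),
   .inr (434, 1),
   .inr (466, 1),
   .inr (850, 1),
   .inr (1682, 1),
   .inr (738, 1),
   .inr (1378, 1),
   .inr (930, 1),
   .inr (124, 1),
   .inr (188, 1),
   .inr (1084, 1),
   .inr (220, 1),
   .inr (796, 1),
   .inr (236, 1),
   .inr (812, 1),
   .inr (460, 1),
   .inr (1356, 1),
   .inr (1676, 1),
   .inr (372, 1),
   .inr (692, 1),
   .inr (724, 1),
   .inr (852, 1),
   .inr (1428, 1),
   .inr (484, 1),
   .inr (1636, 1),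
   .inr (932, 1),
   .inr (376, 1),
   .inr (696, 1),
   .inr (472, 1),
   .inr (1624, 1),
   .inr (920, 1),
   .inr (744, 1),
   .inr (872, 1),
   .inr (1448, 1),
   .inr (496, 1),
   .inr (1264, 1),
   .inr (1840, 1),
   .inr (1984, 1),
   .inl 15,
   .inr (331, 1),
   .inr (1067, 1),
   .inr (555, 1),
   .inr (587, 1),
   .inr (539, 1),
   .inr (283, 1),
   .inr (395, 1),
   .inr (307, 1),
   .inr (339, 1),
   .inr (115, 1),
   .inr (179, 1),
   .inr (1555, 1),
   .inr (227, 1),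
   .inr (1315, 1),
   .inr (1219, 1),
   .inr (835, 1),
   .inr (899, 1),
   .inr (93, 2),
   .inr (157, 1),
   .inr (541, 1),
   .inr (173, 1),
   .inr (109, 1),
   .inr (301, 1),
   .inr (589, 1),
   .inr (397, 1),
   .inr (117, 1),
   .inr (309, 1),
   .inr (565, 1),
   .inr (1109, 1),
   .inr (405, 1),
   .inr (357, 1),
   .inr (1189, 1),
   .inr (453, 1),
   .inr (709, 1),
   .inr (1797, 1),
   .inr (121, 1),
   .inr (185, 1),
   .inr (1081, 1),
   .inr (217, 1),
   .inr (793, 1),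
   .inr (233, 1),
   .inr (809, 1),
   .inr (457, 1),
   .inr (1353, 1),
   .inr (1673, 1),
   .inr (369, 1),
   .inr (689, 1),
   .inr (721, 1),
   .inr (849, 1),
   .inr (1425, 1),
   .inr (481, 1),
   .inr (1633, 1),
   .inr (929, 1),
   .inr (94, 1),
   .inr (158, 1),
   .inr (542, 1),
   .inr (110, 1),
   .inr (174, 1),
   .inr (302, 1),
   .inr (334, 1),
   .inr (654, 1),
   .inr (118, 1),
   .inr (182, 1),
   .inr (1078, 1),
   .inr (214, 1),
   .inr (790, 1),
   .inr (230, 1),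
   .inr (806, 1),
   .inr (454, 1),
   .inr (1606, 1),
   .inr (1414, 1),
   .inr (122, 1),
   .inr (314, 1),
   .inr (570, 1),
   .inr (346, 1),
   .inr (1178, 1),
   .inr (1130, 1),
   .inr (426, 1),
   .inr (458, 1),
   .inr (714, 1),
   .inr (1802, 1),
   .inr (626, 1),
   .inr (434, 1),
   .inr (722, 1),
   .inr (1362, 1),
   .inr (914, 1),
   .inr (482, 1),
   .inr (866, 1),
   .inr (1698, 1),
   .inr (124, 1),
   .inr (188, 1),
   .inr (316, 1),
   .inr (220, 1),
   .inr (1308, 1),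
   .inr (236, 1),
   .inr (1580, 1),
   .inr (1228, 1),
   .inr (844, 1),
   .inr (908, 1),
   .inr (628, 1),
   .inr (436, 1),
   .inr (468, 1),
   .inr (852, 1),
   .inr (1684, 1),
   .inr (740, 1),
   .inr (1380, 1),
   .inr (932, 1),
   .inr (376, 1),
   .inr (696, 1),
   .inr (472, 1),
   .inr (1624, 1),
   .inr (920, 1),
   .inr (744, 1),
   .inr (872, 1),
   .inr (1448, 1),
   .inr (496, 1),
   .inr (1264, 1),
   .inr (1840, 1),
   .inr (1984, 1),
   .inl 16,
   .inr (285, 1),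
   .inr (541, 1),
   .inr (109, 1),
   .inr (173, 1),
   .inr (301, 1),
   .inr (333, 1),
   .inr (653, 1),
   .inr (309, 1),
   .inr (181, 1),
   .inr (1077, 1),
   .inr (213, 1),
   .inr (789, 1),
   .inr (229, 1),
   .inr (805, 1),
   .inr (453, 1),
   .inr (1605, 1),
   .inr (1413, 1),
   .inr (121, 1),
   .inr (313, 1),
   .inr (569, 1),
   .inr (345, 1),
   .inr (1177, 1),
   .inr (1129, 1),
   .inr (425, 1),
   .inr (457, 1),
   .inr (713, 1),
   .inr (1801, 1),
   .inr (625, 1),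
   .inr (433, 1),
   .inr (721, 1),
   .inr (1361, 1),
   .inr (913, 1),
   .inr (481, 1),
   .inr (865, 1),
   .inr (1697, 1),
   .inr (94, 1),
   .inr (158, 1),
   .inr (542, 1),
   .inr (110, 1),
   .inr (174, 1),
   .inr (302, 1),
   .inr (590, 1),
   .inr (398, 1),
   .inr (118, 1),
   .inr (310, 1),
   .inr (566, 1),
   .inr (1110, 1),
   .inr (406, 1),
   .inr (358, 1),
   .inr (1190, 1),
   .inr (454, 1),
   .inr (710, 1),
   .inr (1798, 1),
   .inr (122, 1),
   .inr (186, 1),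
   .inr (1082, 1),
   .inr (218, 1),
   .inr (794, 1),
   .inr (234, 1),
   .inr (810, 1),
   .inr (458, 1),
   .inr (1354, 1),
   .inr (1674, 1),
   .inr (370, 1),
   .inr (690, 1),
   .inr (722, 1),
   .inr (850, 1),
   .inr (1426, 1),
   .inr (482, 1),
   .inr (1634, 1),
   .inr (930, 1),
   .inr (124, 1),
   .inr (188, 1),
   .inr (316, 1),
   .inr (220, 1),
   .inr (1308, 1),
   .inr (236, 1),
   .inr (1580, 1),
   .inr (1228, 1),
   .inr (844, 1)]

def tree_8 : List (Sum ℕ (ℕ × ℕ)) :=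
  [.inr (908, 1),
   .inr (628, 1),
   .inr (436, 1),
   .inr (468, 1),
   .inr (852, 1),
   .inr (1684, 1),
   .inr (740, 1),
   .inr (1380, 1),
   .inr (932, 1),
   .inr (376, 1),
   .inr (696, 1),
   .inr (472, 1),
   .inr (1624, 1),
   .inr (920, 1),
   .inr (744, 1),
   .inr (872, 1),
   .inr (1448, 1),
   .inr (496, 1),
   .inr (1264, 1),
   .inr (1840, 1),
   .inr (1984, 1),
   .inl 17,
   .inr (151, 1),
   .inr (1095, 1),
   .inr (327, 1),
   .inr (295, 1),
   .inr (551, 1),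
   .inr (647, 1),
   .inr (91, 3),
   .inr (2075, 1),
   .inr (155, 1),
   .inr (1099, 1),
   .inr (107, 1),
   .inr (171, 1),
   .inr (299, 1),
   .inr (395, 1),
   .inr (115, 1),
   .inr (1107, 1),
   .inr (1075, 1),
   .inr (307, 1),
   .inr (403, 1),
   .inr (355, 1),
   .inr (1187, 1),
   .inr (451, 1),
   .inr (707, 1),
   .inr (1795, 1),
   .inr (93, 2),
   .inr (541, 1),
   .inr (285, 1),
   .inr (301, 1),
   .inr (557, 1),
   .inr (173, 1),
   .inr (589, 1),
   .inr (397, 1),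
   .inr (117, 1),
   .inr (181, 1),
   .inr (309, 1),
   .inr (213, 1),
   .inr (1557, 1),
   .inr (229, 1),
   .inr (1317, 1),
   .inr (1221, 1),
   .inr (837, 1),
   .inr (901, 1),
   .inr (121, 1),
   .inr (185, 1),
   .inr (1081, 1),
   .inr (217, 1),
   .inr (793, 1),
   .inr (233, 1),
   .inr (809, 1),
   .inr (457, 1),
   .inr (1353, 1),
   .inr (1673, 1),
   .inr (369, 1),
   .inr (689, 1),
   .inr (721, 1),
   .inr (849, 1),
   .inr (1425, 1),
   .inr (481, 1),
   .inr (1633, 1),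
   .inr (929, 1),
   .inr (94, 1),
   .inr (158, 1),
   .inr (542, 1),
   .inr (110, 1),
   .inr (174, 1),
   .inr (302, 1),
   .inr (334, 1),
   .inr (654, 1),
   .inr (118, 1),
   .inr (182, 1),
   .inr (1078, 1),
   .inr (214, 1),
   .inr (790, 1),
   .inr (230, 1),
   .inr (806, 1),
   .inr (454, 1),
   .inr (1606, 1),
   .inr (1414, 1),
   .inr (122, 1),
   .inr (186, 1),
   .inr (314, 1),
   .inr (218, 1),
   .inr (1306, 1),
   .inr (234, 1),
   .inr (1578, 1),
   .inr (1226, 1),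
   .inr (842, 1),
   .inr (906, 1),
   .inr (626, 1),
   .inr (434, 1),
   .inr (466, 1),
   .inr (850, 1),
   .inr (1682, 1),
   .inr (738, 1),
   .inr (1378, 1),
   .inr (930, 1),
   .inr (124, 1),
   .inr (316, 1),
   .inr (572, 1),
   .inr (348, 1),
   .inr (1180, 1),
   .inr (1132, 1),
   .inr (428, 1),
   .inr (460, 1),
   .inr (716, 1),
   .inr (1804, 1),
   .inr (628, 1),
   .inr (436, 1),
   .inr (724, 1),
   .inr (1364, 1),
   .inr (916, 1),
   .inr (484, 1),
   .inr (868, 1),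
   .inr (1700, 1),
   .inr (376, 1),
   .inr (696, 1),
   .inr (472, 1),
   .inr (1624, 1),
   .inr (920, 1),
   .inr (744, 1),
   .inr (872, 1),
   .inr (1448, 1),
   .inr (496, 1),
   .inr (1264, 1),
   .inr (1840, 1),
   .inr (1984, 1),
   .inl 18,
   .inr (285, 1),
   .inr (541, 1),
   .inr (557, 1),
   .inr (301, 1),
   .inr (173, 1),
   .inr (333, 1),
   .inr (653, 1),
   .inr (117, 1),
   .inr (181, 1),
   .inr (1077, 1),
   .inr (213, 1),
   .inr (789, 1),
   .inr (229, 1),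
   .inr (805, 1),
   .inr (453, 1),
   .inr (1605, 1),
   .inr (1413, 1),
   .inr (121, 1),
   .inr (185, 1),
   .inr (313, 1),
   .inr (217, 1),
   .inr (1305, 1),
   .inr (233, 1),
   .inr (1577, 1),
   .inr (1225, 1),
   .inr (841, 1),
   .inr (905, 1),
   .inr (625, 1),
   .inr (433, 1),
   .inr (465, 1),
   .inr (849, 1),
   .inr (1681, 1),
   .inr (737, 1),
   .inr (1377, 1),
   .inr (929, 1),
   .inr (94, 1),
   .inr (158, 1),
   .inr (286, 1),
   .inr (110, 1),
   .inr (174, 1),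
   .inr (558, 1),
   .inr (590, 1),
   .inr (398, 1),
   .inr (118, 1),
   .inr (182, 1),
   .inr (310, 1),
   .inr (214, 1),
   .inr (1558, 1),
   .inr (230, 1),
   .inr (1318, 1),
   .inr (1222, 1),
   .inr (838, 1),
   .inr (902, 1),
   .inr (122, 1),
   .inr (186, 1),
   .inr (1082, 1),
   .inr (218, 1),
   .inr (794, 1),
   .inr (234, 1),
   .inr (810, 1),
   .inr (458, 1),
   .inr (1354, 1),
   .inr (1674, 1),
   .inr (370, 1),
   .inr (690, 1),
   .inr (722, 1),
   .inr (850, 1),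
   .inr (1426, 1),
   .inr (482, 1),
   .inr (1634, 1),
   .inr (930, 1),
   .inr (124, 1),
   .inr (316, 1),
   .inr (572, 1),
   .inr (348, 1),
   .inr (1180, 1),
   .inr (1132, 1),
   .inr (428, 1),
   .inr (460, 1),
   .inr (716, 1),
   .inr (1804, 1),
   .inr (628, 1),
   .inr (436, 1),
   .inr (724, 1),
   .inr (1364, 1),
   .inr (916, 1),
   .inr (484, 1),
   .inr (868, 1),
   .inr (1700, 1),
   .inr (376, 1),
   .inr (696, 1),
   .inr (472, 1),
   .inr (1624, 1),
   .inr (920, 1),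
   .inr (744, 1),
   .inr (872, 1),
   .inr (1448, 1),
   .inr (496, 1),
   .inr (1264, 1),
   .inr (1840, 1),
   .inr (1984, 1)]

def tree_9 : List (Sum ℕ (ℕ × ℕ)) :=
  [.inl 19,
   .inr (331, 1),
   .inr (2091, 1),
   .inr (555, 1),
   .inr (587, 1),
   .inr (539, 1),
   .inr (283, 1),
   .inr (395, 1),
   .inr (307, 1),
   .inr (339, 1),
   .inr (115, 1),
   .inr (179, 1),
   .inr (1555, 1),
   .inr (227, 1),
   .inr (1315, 1),
   .inr (1219, 1),
   .inr (835, 1),
   .inr (899, 1),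
   .inr (93, 2),
   .inr (157, 1),
   .inr (541, 1),
   .inr (173, 1),
   .inr (109, 1),
   .inr (301, 1),
   .inr (589, 1),
   .inr (397, 1),
   .inr (117, 1),
   .inr (309, 1),
   .inr (565, 1),
   .inr (1109, 1),
   .inr (405, 1),
   .inr (357, 1),
   .inr (1189, 1),
   .inr (453, 1),
   .inr (709, 1),
   .inr (1797, 1),
   .inr (121, 1),
   .inr (185, 1),
   .inr (1081, 1),
   .inr (217, 1),
   .inr (793, 1),
   .inr (233, 1),
   .inr (809, 1),
   .inr (457, 1),
   .inr (1353, 1),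
   .inr (1673, 1),
   .inr (369, 1),
   .inr (689, 1),
   .inr (721, 1),
   .inr (849, 1),
   .inr (1425, 1),
   .inr (481, 1),
   .inr (1633, 1),
   .inr (929, 1),
   .inr (94, 1),
   .inr (158, 1),
   .inr (542, 1),
   .inr (110, 1),
   .inr (174, 1),
   .inr (302, 1),
   .inr (334, 1),
   .inr (654, 1),
   .inr (118, 1),
   .inr (182, 1),
   .inr (1078, 1),
   .inr (214, 1),
   .inr (790, 1),
   .inr (230, 1),
   .inr (806, 1),
   .inr (454, 1),
   .inr (1606, 1),
   .inr (1414, 1),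
   .inr (122, 1),
   .inr (314, 1),
   .inr (570, 1),
   .inr (346, 1),
   .inr (1178, 1),
   .inr (1130, 1),
   .inr (426, 1),
   .inr (458, 1),
   .inr (714, 1),
   .inr (1802, 1),
   .inr (626, 1),
   .inr (434, 1),
   .inr (722, 1),
   .inr (1362, 1),
   .inr (914, 1),
   .inr (482, 1),
   .inr (866, 1),
   .inr (1698, 1),
   .inr (124, 1),
   .inr (188, 1),
   .inr (316, 1),
   .inr (220, 1),
   .inr (1308, 1),
   .inr (236, 1),
   .inr (1580, 1),
   .inr (1228, 1),
   .inr (844, 1),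
   .inr (908, 1),
   .inr (628, 1),
   .inr (436, 1),
   .inr (468, 1),
   .inr (852, 1),
   .inr (1684, 1),
   .inr (740, 1),
   .inr (1380, 1),
   .inr (932, 1),
   .inr (376, 1),
   .inr (696, 1),
   .inr (472, 1),
   .inr (1624, 1),
   .inr (920, 1),
   .inr (744, 1),
   .inr (872, 1),
   .inr (1448, 1),
   .inr (496, 1),
   .inr (1264, 1),
   .inr (1840, 1),
   .inr (1984, 1),
   .inl 20,
   .inr (285, 1),
   .inr (541, 1),
   .inr (109, 1),
   .inr (173, 1),
   .inr (301, 1),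
   .inr (333, 1),
   .inr (653, 1),
   .inr (309, 1),
   .inr (181, 1),
   .inr (1077, 1),
   .inr (213, 1),
   .inr (789, 1),
   .inr (229, 1),
   .inr (805, 1),
   .inr (453, 1),
   .inr (1605, 1),
   .inr (1413, 1),
   .inr (121, 1),
   .inr (313, 1),
   .inr (569, 1),
   .inr (345, 1),
   .inr (1177, 1),
   .inr (1129, 1),
   .inr (425, 1),
   .inr (457, 1),
   .inr (713, 1),
   .inr (1801, 1),
   .inr (625, 1),
   .inr (433, 1),
   .inr (721, 1),
   .inr (1361, 1),
   .inr (913, 1),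
   .inr (481, 1),
   .inr (865, 1),
   .inr (1697, 1),
   .inr (94, 1),
   .inr (158, 1),
   .inr (542, 1),
   .inr (110, 1),
   .inr (174, 1),
   .inr (302, 1),
   .inr (590, 1),
   .inr (398, 1),
   .inr (118, 1),
   .inr (310, 1),
   .inr (566, 1),
   .inr (1110, 1),
   .inr (406, 1),
   .inr (358, 1),
   .inr (1190, 1),
   .inr (454, 1),
   .inr (710, 1),
   .inr (1798, 1),
   .inr (122, 1),
   .inr (186, 1),
   .inr (1082, 1),
   .inr (218, 1),
   .inr (794, 1),
   .inr (234, 1),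
   .inr (810, 1),
   .inr (458, 1),
   .inr (1354, 1),
   .inr (1674, 1),
   .inr (370, 1),
   .inr (690, 1),
   .inr (722, 1),
   .inr (850, 1),
   .inr (1426, 1),
   .inr (482, 1),
   .inr (1634, 1),
   .inr (930, 1),
   .inr (124, 1),
   .inr (188, 1),
   .inr (316, 1),
   .inr (220, 1),
   .inr (1308, 1),
   .inr (236, 1),
   .inr (1580, 1),
   .inr (1228, 1),
   .inr (844, 1),
   .inr (908, 1),
   .inr (628, 1),
   .inr (436, 1),
   .inr (468, 1),
   .inr (852, 1),
   .inr (1684, 1),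
   .inr (740, 1),
   .inr (1380, 1),
   .inr (932, 1),
   .inr (376, 1),
   .inr (696, 1),
   .inr (472, 1),
   .inr (1624, 1),
   .inr (920, 1),
   .inr (744, 1),
   .inr (872, 1),
   .inr (1448, 1),
   .inr (496, 1),
   .inr (1264, 1),
   .inr (1840, 1),
   .inr (1984, 1),
   .inl 21,
   .inr (283, 1),
   .inr (539, 1),
   .inr (587, 1),
   .inr (331, 1),
   .inr (299, 1),
   .inr (171, 1),
   .inr (651, 1),
   .inr (1075, 1),
   .inr (339, 1),
   .inr (179, 1),
   .inr (211, 1),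
   .inr (787, 1),
   .inr (227, 1),
   .inr (803, 1),
   .inr (451, 1),
   .inr (1603, 1),
   .inr (1411, 1),
   .inr (93, 2),
   .inr (1053, 1),
   .inr (541, 1),
   .inr (109, 1),
   .inr (173, 1),
   .inr (301, 1),
   .inr (589, 1),
   .inr (397, 1),
   .inr (117, 1),
   .inr (1077, 1)]

def tree_10 : List (Sum ℕ (ℕ × ℕ)) :=
  [.inr (309, 1),
   .inr (1109, 1),
   .inr (405, 1),
   .inr (357, 1),
   .inr (1189, 1),
   .inr (453, 1),
   .inr (709, 1),
   .inr (1797, 1),
   .inr (121, 1),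
   .inr (185, 1),
   .inr (313, 1),
   .inr (217, 1),
   .inr (1305, 1),
   .inr (233, 1),
   .inr (1577, 1),
   .inr (1225, 1),
   .inr (841, 1),
   .inr (905, 1),
   .inr (625, 1),
   .inr (433, 1),
   .inr (465, 1),
   .inr (849, 1),
   .inr (1681, 1),
   .inr (737, 1),
   .inr (1377, 1),
   .inr (929, 1),
   .inr (94, 1),
   .inr (158, 1),
   .inr (286, 1),
   .inr (110, 1),
   .inr (174, 1),
   .inr (558, 1),
   .inr (590, 1),
   .inr (398, 1),
   .inr (118, 1),
   .inr (182, 1),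
   .inr (310, 1),
   .inr (214, 1),
   .inr (1558, 1),
   .inr (230, 1),
   .inr (1318, 1),
   .inr (1222, 1),
   .inr (838, 1),
   .inr (902, 1),
   .inr (122, 1),
   .inr (314, 1),
   .inr (570, 1),
   .inr (346, 1),
   .inr (1178, 1),
   .inr (1130, 1),
   .inr (426, 1),
   .inr (458, 1),
   .inr (714, 1),
   .inr (1802, 1),
   .inr (626, 1),
   .inr (434, 1),
   .inr (722, 1),
   .inr (1362, 1),
   .inr (914, 1),
   .inr (482, 1),
   .inr (866, 1),
   .inr (1698, 1),
   .inr (124, 1),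
   .inr (188, 1),
   .inr (1084, 1),
   .inr (220, 1),
   .inr (796, 1),
   .inr (236, 1),
   .inr (812, 1),
   .inr (460, 1),
   .inr (1356, 1),
   .inr (1676, 1),
   .inr (372, 1),
   .inr (692, 1),
   .inr (724, 1),
   .inr (852, 1),
   .inr (1428, 1),
   .inr (484, 1),
   .inr (1636, 1),
   .inr (932, 1),
   .inr (376, 1),
   .inr (696, 1),
   .inr (472, 1),
   .inr (1624, 1),
   .inr (920, 1),
   .inr (744, 1),
   .inr (872, 1),
   .inr (1448, 1),
   .inr (496, 1),
   .inr (1264, 1),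
   .inr (1840, 1),
   .inr (1984, 1),
   .inl 22,
   .inr (157, 1),
   .inr (285, 1),
   .inr (173, 1),
   .inr (109, 1),
   .inr (557, 1),
   .inr (589, 1),
   .inr (397, 1),
   .inr (309, 1),
   .inr (1077, 1),
   .inr (117, 1),
   .inr (213, 1),
   .inr (1557, 1),
   .inr (229, 1),
   .inr (1317, 1),
   .inr (1221, 1),
   .inr (837, 1),
   .inr (901, 1),
   .inr (121, 1),
   .inr (313, 1),
   .inr (569, 1),
   .inr (345, 1),
   .inr (1177, 1),
   .inr (1129, 1),
   .inr (425, 1),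
   .inr (457, 1),
   .inr (713, 1),
   .inr (1801, 1),
   .inr (625, 1),
   .inr (433, 1),
   .inr (721, 1),
   .inr (1361, 1),
   .inr (913, 1),
   .inr (481, 1),
   .inr (865, 1),
   .inr (1697, 1),
   .inr (94, 1),
   .inr (158, 1),
   .inr (542, 1),
   .inr (110, 1),
   .inr (174, 1),
   .inr (302, 1),
   .inr (590, 1),
   .inr (398, 1),
   .inr (118, 1),
   .inr (310, 1),
   .inr (566, 1),
   .inr (1110, 1),
   .inr (406, 1),
   .inr (358, 1),
   .inr (1190, 1),
   .inr (454, 1),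
   .inr (710, 1),
   .inr (1798, 1),
   .inr (122, 1),
   .inr (186, 1),
   .inr (314, 1),
   .inr (218, 1),
   .inr (1306, 1),
   .inr (234, 1),
   .inr (1578, 1),
   .inr (1226, 1),
   .inr (842, 1),
   .inr (906, 1),
   .inr (626, 1),
   .inr (434, 1),
   .inr (466, 1),
   .inr (850, 1),
   .inr (1682, 1),
   .inr (738, 1),
   .inr (1378, 1),
   .inr (930, 1),
   .inr (124, 1),
   .inr (188, 1),
   .inr (1084, 1),
   .inr (220, 1),
   .inr (796, 1),
   .inr (236, 1),
   .inr (812, 1),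
   .inr (460, 1),
   .inr (1356, 1),
   .inr (1676, 1),
   .inr (372, 1),
   .inr (692, 1),
   .inr (724, 1),
   .inr (852, 1),
   .inr (1428, 1),
   .inr (484, 1),
   .inr (1636, 1),
   .inr (932, 1),
   .inr (376, 1),
   .inr (696, 1),
   .inr (472, 1),
   .inr (1624, 1),
   .inr (920, 1),
   .inr (744, 1),
   .inr (872, 1),
   .inr (1448, 1),
   .inr (496, 1),
   .inr (1264, 1),
   .inr (1840, 1),
   .inr (1984, 1),
   .inl 23,
   .inr (279, 2),
   .inr (535, 1),
   .inr (583, 1),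
   .inr (327, 1),
   .inr (295, 1),
   .inr (167, 1),
   .inr (647, 1),
   .inr (91, 3),
   .inr (2075, 1),
   .inr (539, 1),
   .inr (587, 1),
   .inr (107, 1),
   .inr (555, 1),
   .inr (299, 1),
   .inr (395, 1),
   .inr (307, 1),
   .inr (595, 1),
   .inr (115, 1),
   .inr (179, 1),
   .inr (1299, 1),
   .inr (227, 1),
   .inr (1571, 1),
   .inr (1219, 1),
   .inr (835, 1),
   .inr (899, 1),
   .inr (93, 2),
   .inr (157, 1),
   .inr (285, 1),
   .inr (173, 1),
   .inr (109, 1),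
   .inr (557, 1),
   .inr (333, 1),
   .inr (653, 1),
   .inr (309, 1),
   .inr (181, 1),
   .inr (1077, 1),
   .inr (213, 1),
   .inr (789, 1),
   .inr (229, 1),
   .inr (805, 1),
   .inr (453, 1),
   .inr (1605, 1),
   .inr (1413, 1),
   .inr (121, 1),
   .inr (313, 1),
   .inr (569, 1),
   .inr (1113, 1),
   .inr (409, 1),
   .inr (361, 1),
   .inr (1193, 1),
   .inr (457, 1),
   .inr (713, 1),
   .inr (1801, 1),
   .inr (625, 1),
   .inr (433, 1)]

def tree_11 : List (Sum ℕ (ℕ × ℕ)) :=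
  [.inr (465, 1),
   .inr (849, 1),
   .inr (1681, 1),
   .inr (737, 1),
   .inr (1377, 1),
   .inr (929, 1),
   .inr (94, 1),
   .inr (158, 1),
   .inr (286, 1),
   .inr (110, 1),
   .inr (174, 1),
   .inr (558, 1),
   .inr (590, 1),
   .inr (398, 1),
   .inr (118, 1),
   .inr (310, 1),
   .inr (566, 1),
   .inr (342, 1),
   .inr (1174, 1),
   .inr (1126, 1),
   .inr (422, 1),
   .inr (454, 1),
   .inr (710, 1),
   .inr (1798, 1),
   .inr (122, 1),
   .inr (186, 1),
   .inr (1082, 1),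
   .inr (218, 1),
   .inr (794, 1),
   .inr (234, 1),
   .inr (810, 1),
   .inr (458, 1),
   .inr (1354, 1),
   .inr (1674, 1),
   .inr (370, 1),
   .inr (690, 1),
   .inr (466, 1),
   .inr (1618, 1),
   .inr (914, 1),
   .inr (738, 1),
   .inr (866, 1),
   .inr (1442, 1),
   .inr (124, 1),
   .inr (188, 1),
   .inr (316, 1),
   .inr (220, 1),
   .inr (1564, 1),
   .inr (236, 1),
   .inr (1324, 1),
   .inr (1228, 1),
   .inr (844, 1),
   .inr (908, 1),
   .inr (628, 1),
   .inr (436, 1),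
   .inr (724, 1),
   .inr (1364, 1),
   .inr (916, 1),
   .inr (484, 1),
   .inr (868, 1),
   .inr (1700, 1),
   .inr (376, 1),
   .inr (696, 1),
   .inr (728, 1),
   .inr (856, 1),
   .inr (1432, 1),
   .inr (488, 1),
   .inr (1640, 1),
   .inr (936, 1),
   .inr (496, 1),
   .inr (1264, 1),
   .inr (1840, 1),
   .inr (1984, 1),
   .inl 24,
   .inr (285, 1),
   .inr (157, 1),
   .inr (109, 1),
   .inr (173, 1),
   .inr (557, 1),
   .inr (589, 1),
   .inr (397, 1),
   .inr (117, 1),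
   .inr (309, 1),
   .inr (565, 1),
   .inr (341, 1),
   .inr (1173, 1),
   .inr (1125, 1),
   .inr (421, 1),
   .inr (453, 1),
   .inr (709, 1),
   .inr (1797, 1),
   .inr (121, 1),
   .inr (185, 1),
   .inr (1081, 1),
   .inr (217, 1),
   .inr (793, 1),
   .inr (233, 1),
   .inr (809, 1),
   .inr (457, 1),
   .inr (1353, 1),
   .inr (1673, 1),
   .inr (369, 1),
   .inr (689, 1),
   .inr (465, 1),
   .inr (1617, 1),
   .inr (913, 1),
   .inr (737, 1),
   .inr (865, 1),
   .inr (1441, 1),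
   .inr (94, 1),
   .inr (158, 1),
   .inr (286, 1),
   .inr (110, 1),
   .inr (174, 1),
   .inr (558, 1),
   .inr (334, 1),
   .inr (654, 1),
   .inr (118, 1),
   .inr (182, 1),
   .inr (1078, 1),
   .inr (214, 1),
   .inr (790, 1),
   .inr (230, 1),
   .inr (806, 1),
   .inr (454, 1),
   .inr (1606, 1),
   .inr (1414, 1),
   .inr (122, 1),
   .inr (314, 1),
   .inr (570, 1),
   .inr (1114, 1),
   .inr (410, 1),
   .inr (362, 1),
   .inr (1194, 1),
   .inr (458, 1),
   .inr (714, 1),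
   .inr (1802, 1),
   .inr (626, 1),
   .inr (434, 1),
   .inr (466, 1),
   .inr (850, 1),
   .inr (1682, 1),
   .inr (738, 1),
   .inr (1378, 1),
   .inr (930, 1),
   .inr (124, 1),
   .inr (188, 1),
   .inr (316, 1),
   .inr (220, 1),
   .inr (1564, 1),
   .inr (236, 1),
   .inr (1324, 1),
   .inr (1228, 1),
   .inr (844, 1),
   .inr (908, 1),
   .inr (628, 1),
   .inr (436, 1),
   .inr (724, 1),
   .inr (1364, 1),
   .inr (916, 1),
   .inr (484, 1),
   .inr (868, 1),
   .inr (1700, 1),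
   .inr (376, 1),
   .inr (696, 1),
   .inr (728, 1),
   .inr (856, 1),
   .inr (1432, 1),
   .inr (488, 1),
   .inr (1640, 1),
   .inr (936, 1),
   .inr (496, 1),
   .inr (1264, 1),
   .inr (1840, 1),
   .inr (1984, 1),
   .inl 25,
   .inr (2123, 1),
   .inr (299, 1),
   .inr (555, 1),
   .inr (331, 1),
   .inr (283, 1),
   .inr (155, 1),
   .inr (651, 1),
   .inr (1075, 1),
   .inr (339, 1),
   .inr (179, 1),
   .inr (211, 1),
   .inr (787, 1),
   .inr (227, 1),
   .inr (803, 1),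
   .inr (451, 1),
   .inr (1603, 1),
   .inr (1411, 1),
   .inr (93, 2),
   .inr (1053, 1),
   .inr (157, 1),
   .inr (109, 1),
   .inr (173, 1),
   .inr (301, 1),
   .inr (589, 1),
   .inr (397, 1),
   .inr (309, 1),
   .inr (1077, 1),
   .inr (117, 1),
   .inr (213, 1),
   .inr (1301, 1),
   .inr (229, 1),
   .inr (1573, 1),
   .inr (1221, 1),
   .inr (837, 1),
   .inr (901, 1),
   .inr (121, 1),
   .inr (313, 1),
   .inr (569, 1),
   .inr (1113, 1),
   .inr (409, 1),
   .inr (361, 1),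
   .inr (1193, 1),
   .inr (457, 1),
   .inr (713, 1),
   .inr (1801, 1),
   .inr (625, 1),
   .inr (433, 1),
   .inr (465, 1),
   .inr (849, 1),
   .inr (1681, 1),
   .inr (737, 1),
   .inr (1377, 1),
   .inr (929, 1),
   .inr (94, 1),
   .inr (158, 1),
   .inr (286, 1),
   .inr (110, 1),
   .inr (174, 1),
   .inr (558, 1),
   .inr (590, 1),
   .inr (398, 1),
   .inr (118, 1),
   .inr (310, 1),
   .inr (566, 1),
   .inr (342, 1),
   .inr (1174, 1),
   .inr (1126, 1),
   .inr (422, 1),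
   .inr (454, 1),
   .inr (710, 1),
   .inr (1798, 1),
   .inr (122, 1),
   .inr (186, 1),
   .inr (314, 1),
   .inr (218, 1)]

def tree_12 : List (Sum ℕ (ℕ × ℕ)) :=
  [.inr (1562, 1),
   .inr (234, 1),
   .inr (1322, 1),
   .inr (1226, 1),
   .inr (842, 1),
   .inr (906, 1),
   .inr (626, 1),
   .inr (434, 1),
   .inr (722, 1),
   .inr (1362, 1),
   .inr (914, 1),
   .inr (482, 1),
   .inr (866, 1),
   .inr (1698, 1),
   .inr (124, 1),
   .inr (188, 1),
   .inr (1084, 1),
   .inr (220, 1),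
   .inr (796, 1),
   .inr (236, 1),
   .inr (812, 1),
   .inr (460, 1),
   .inr (1356, 1),
   .inr (1676, 1),
   .inr (372, 1),
   .inr (692, 1),
   .inr (468, 1),
   .inr (1620, 1),
   .inr (916, 1),
   .inr (740, 1),
   .inr (868, 1),
   .inr (1444, 1),
   .inr (376, 1),
   .inr (696, 1),
   .inr (728, 1),
   .inr (856, 1),
   .inr (1432, 1),
   .inr (488, 1),
   .inr (1640, 1),
   .inr (936, 1),
   .inr (496, 1),
   .inr (1264, 1),
   .inr (1840, 1),
   .inr (1984, 1),
   .inl 26,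
   .inr (157, 1),
   .inr (285, 1),
   .inr (173, 1),
   .inr (109, 1),
   .inr (557, 1),
   .inr (589, 1),
   .inr (397, 1),
   .inr (117, 1),
   .inr (1077, 1),
   .inr (309, 1),
   .inr (341, 1),
   .inr (1173, 1),
   .inr (1125, 1),
   .inr (421, 1),
   .inr (453, 1),
   .inr (709, 1),
   .inr (1797, 1),
   .inr (121, 1),
   .inr (185, 1),
   .inr (313, 1),
   .inr (217, 1),
   .inr (1561, 1),
   .inr (233, 1),
   .inr (1321, 1),
   .inr (1225, 1),
   .inr (841, 1),
   .inr (905, 1),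
   .inr (625, 1),
   .inr (433, 1),
   .inr (721, 1),
   .inr (1361, 1),
   .inr (913, 1),
   .inr (481, 1),
   .inr (865, 1),
   .inr (1697, 1),
   .inr (94, 1),
   .inr (158, 1),
   .inr (542, 1),
   .inr (110, 1),
   .inr (174, 1),
   .inr (302, 1),
   .inr (590, 1),
   .inr (398, 1),
   .inr (118, 1),
   .inr (182, 1),
   .inr (310, 1),
   .inr (214, 1),
   .inr (1302, 1),
   .inr (230, 1),
   .inr (1574, 1),
   .inr (1222, 1),
   .inr (838, 1),
   .inr (902, 1),
   .inr (122, 1),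
   .inr (314, 1),
   .inr (570, 1),
   .inr (1114, 1),
   .inr (410, 1),
   .inr (362, 1),
   .inr (1194, 1),
   .inr (458, 1),
   .inr (714, 1),
   .inr (1802, 1),
   .inr (626, 1),
   .inr (434, 1),
   .inr (466, 1),
   .inr (850, 1),
   .inr (1682, 1),
   .inr (738, 1),
   .inr (1378, 1),
   .inr (930, 1),
   .inr (124, 1),
   .inr (188, 1),
   .inr (1084, 1),
   .inr (220, 1),
   .inr (796, 1),
   .inr (236, 1),
   .inr (812, 1),
   .inr (460, 1),
   .inr (1356, 1),
   .inr (1676, 1),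
   .inr (372, 1),
   .inr (692, 1),
   .inr (468, 1),
   .inr (1620, 1),
   .inr (916, 1),
   .inr (740, 1),
   .inr (868, 1),
   .inr (1444, 1),
   .inr (376, 1),
   .inr (696, 1),
   .inr (728, 1),
   .inr (856, 1),
   .inr (1432, 1),
   .inr (488, 1),
   .inr (1640, 1),
   .inr (936, 1),
   .inr (496, 1),
   .inr (1264, 1),
   .inr (1840, 1),
   .inr (1984, 1),
   .inl 27,
   .inr (283, 1),
   .inr (155, 1),
   .inr (331, 1),
   .inr (171, 1),
   .inr (555, 1),
   .inr (587, 1),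
   .inr (395, 1),
   .inr (115, 1),
   .inr (339, 1),
   .inr (307, 1),
   .inr (563, 1),
   .inr (1171, 1),
   .inr (1123, 1),
   .inr (419, 1),
   .inr (451, 1),
   .inr (707, 1),
   .inr (1795, 1),
   .inr (93, 2),
   .inr (541, 1),
   .inr (157, 1),
   .inr (557, 1),
   .inr (301, 1),
   .inr (109, 1),
   .inr (589, 1),
   .inr (397, 1),
   .inr (117, 1),
   .inr (181, 1),
   .inr (309, 1),
   .inr (213, 1),
   .inr (1301, 1),
   .inr (229, 1),
   .inr (1573, 1),
   .inr (1221, 1),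
   .inr (837, 1),
   .inr (901, 1),
   .inr (121, 1),
   .inr (185, 1),
   .inr (1081, 1),
   .inr (217, 1),
   .inr (793, 1),
   .inr (233, 1),
   .inr (809, 1),
   .inr (457, 1),
   .inr (1353, 1),
   .inr (1673, 1),
   .inr (369, 1),
   .inr (689, 1),
   .inr (465, 1),
   .inr (1617, 1),
   .inr (913, 1),
   .inr (737, 1),
   .inr (865, 1),
   .inr (1441, 1),
   .inr (94, 1),
   .inr (158, 1),
   .inr (286, 1),
   .inr (110, 1),
   .inr (174, 1),
   .inr (558, 1),
   .inr (334, 1),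
   .inr (654, 1),
   .inr (118, 1),
   .inr (182, 1),
   .inr (1078, 1),
   .inr (214, 1),
   .inr (790, 1),
   .inr (230, 1),
   .inr (806, 1),
   .inr (454, 1),
   .inr (1606, 1),
   .inr (1414, 1),
   .inr (122, 1),
   .inr (186, 1),
   .inr (314, 1),
   .inr (218, 1),
   .inr (1562, 1),
   .inr (234, 1),
   .inr (1322, 1),
   .inr (1226, 1),
   .inr (842, 1),
   .inr (906, 1),
   .inr (626, 1),
   .inr (434, 1),
   .inr (722, 1),
   .inr (1362, 1),
   .inr (914, 1),
   .inr (482, 1),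
   .inr (866, 1),
   .inr (1698, 1),
   .inr (124, 1),
   .inr (316, 1),
   .inr (572, 1),
   .inr (1116, 1),
   .inr (412, 1),
   .inr (364, 1),
   .inr (1196, 1),
   .inr (460, 1),
   .inr (716, 1),
   .inr (1804, 1),
   .inr (628, 1),
   .inr (436, 1),
   .inr (468, 1),
   .inr (852, 1)]

def tree_13 : List (Sum ℕ (ℕ × ℕ)) :=
  [.inr (1684, 1),
   .inr (740, 1),
   .inr (1380, 1),
   .inr (932, 1),
   .inr (376, 1),
   .inr (696, 1),
   .inr (728, 1),
   .inr (856, 1),
   .inr (1432, 1),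
   .inr (488, 1),
   .inr (1640, 1),
   .inr (936, 1),
   .inr (496, 1),
   .inr (1264, 1),
   .inr (1840, 1),
   .inr (1984, 1),
   .inl 28,
   .inr (285, 1),
   .inr (157, 1),
   .inr (301, 1),
   .inr (557, 1),
   .inr (109, 1),
   .inr (333, 1),
   .inr (653, 1),
   .inr (117, 1),
   .inr (181, 1),
   .inr (1077, 1),
   .inr (213, 1),
   .inr (789, 1),
   .inr (229, 1),
   .inr (805, 1),
   .inr (453, 1),
   .inr (1605, 1),
   .inr (1413, 1),
   .inr (121, 1),
   .inr (185, 1),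
   .inr (313, 1),
   .inr (217, 1),
   .inr (1561, 1),
   .inr (233, 1),
   .inr (1321, 1),
   .inr (1225, 1),
   .inr (841, 1),
   .inr (905, 1),
   .inr (625, 1),
   .inr (433, 1),
   .inr (721, 1),
   .inr (1361, 1),
   .inr (913, 1),
   .inr (481, 1),
   .inr (865, 1),
   .inr (1697, 1),
   .inr (94, 1),
   .inr (158, 1),
   .inr (542, 1),
   .inr (110, 1),
   .inr (174, 1),
   .inr (302, 1),
   .inr (590, 1),
   .inr (398, 1),
   .inr (118, 1),
   .inr (182, 1),
   .inr (310, 1),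
   .inr (214, 1),
   .inr (1302, 1),
   .inr (230, 1),
   .inr (1574, 1),
   .inr (1222, 1),
   .inr (838, 1),
   .inr (902, 1),
   .inr (122, 1),
   .inr (186, 1),
   .inr (1082, 1),
   .inr (218, 1),
   .inr (794, 1),
   .inr (234, 1),
   .inr (810, 1),
   .inr (458, 1),
   .inr (1354, 1),
   .inr (1674, 1),
   .inr (370, 1),
   .inr (690, 1),
   .inr (466, 1),
   .inr (1618, 1),
   .inr (914, 1),
   .inr (738, 1),
   .inr (866, 1),
   .inr (1442, 1),
   .inr (124, 1),
   .inr (316, 1),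
   .inr (572, 1),
   .inr (1116, 1),
   .inr (412, 1),
   .inr (364, 1),
   .inr (1196, 1),
   .inr (460, 1),
   .inr (716, 1),
   .inr (1804, 1),
   .inr (628, 1),
   .inr (436, 1),
   .inr (468, 1),
   .inr (852, 1),
   .inr (1684, 1),
   .inr (740, 1),
   .inr (1380, 1),
   .inr (932, 1),
   .inr (376, 1),
   .inr (696, 1),
   .inr (728, 1),
   .inr (856, 1),
   .inr (1432, 1),
   .inr (488, 1),
   .inr (1640, 1),
   .inr (936, 1),
   .inr (496, 1),
   .inr (1264, 1),
   .inr (1840, 1),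
   .inr (1984, 1),
   .inl 29,
   .inr (151, 1),
   .inr (327, 1),
   .inr (583, 1),
   .inr (551, 1),
   .inr (167, 1),
   .inr (391, 1),
   .inr (91, 3),
   .inr (2123, 1),
   .inr (555, 1),
   .inr (299, 1),
   .inr (587, 1),
   .inr (539, 1),
   .inr (155, 1),
   .inr (395, 1),
   .inr (1075, 1),
   .inr (595, 1),
   .inr (179, 1),
   .inr (211, 1),
   .inr (787, 1),
   .inr (227, 1),
   .inr (803, 1),
   .inr (451, 1),
   .inr (1347, 1),
   .inr (1667, 1),
   .inr (93, 2),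
   .inr (1053, 1),
   .inr (157, 1),
   .inr (109, 1),
   .inr (173, 1),
   .inr (557, 1),
   .inr (333, 1),
   .inr (653, 1),
   .inr (309, 1),
   .inr (1077, 1),
   .inr (117, 1),
   .inr (213, 1),
   .inr (1557, 1),
   .inr (229, 1),
   .inr (1317, 1),
   .inr (1221, 1),
   .inr (837, 1),
   .inr (901, 1),
   .inr (121, 1),
   .inr (313, 1),
   .inr (569, 1),
   .inr (1113, 1),
   .inr (409, 1),
   .inr (361, 1),
   .inr (1193, 1),
   .inr (457, 1),
   .inr (713, 1),
   .inr (1801, 1),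
   .inr (369, 1),
   .inr (689, 1),
   .inr (721, 1),
   .inr (849, 1),
   .inr (1425, 1),
   .inr (481, 1),
   .inr (1633, 1),
   .inr (929, 1),
   .inr (94, 1),
   .inr (158, 1),
   .inr (542, 1),
   .inr (110, 1),
   .inr (174, 1),
   .inr (302, 1),
   .inr (334, 1),
   .inr (654, 1),
   .inr (118, 1),
   .inr (310, 1),
   .inr (566, 1),
   .inr (342, 1),
   .inr (1174, 1),
   .inr (1126, 1),
   .inr (422, 1),
   .inr (454, 1),
   .inr (710, 1),
   .inr (1798, 1),
   .inr (122, 1),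
   .inr (186, 1),
   .inr (314, 1),
   .inr (218, 1),
   .inr (1306, 1),
   .inr (234, 1),
   .inr (1578, 1),
   .inr (1226, 1),
   .inr (842, 1),
   .inr (906, 1),
   .inr (370, 1),
   .inr (690, 1),
   .inr (466, 1),
   .inr (1618, 1),
   .inr (914, 1),
   .inr (738, 1),
   .inr (866, 1),
   .inr (1442, 1),
   .inr (124, 1),
   .inr (188, 1),
   .inr (1084, 1),
   .inr (220, 1),
   .inr (796, 1),
   .inr (236, 1),
   .inr (812, 1),
   .inr (460, 1),
   .inr (1612, 1),
   .inr (1420, 1),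
   .inr (628, 1),
   .inr (436, 1),
   .inr (724, 1),
   .inr (1364, 1),
   .inr (916, 1),
   .inr (484, 1),
   .inr (868, 1),
   .inr (1700, 1),
   .inr (632, 1),
   .inr (440, 1),
   .inr (472, 1),
   .inr (856, 1),
   .inr (1688, 1),
   .inr (744, 1),
   .inr (1384, 1),
   .inr (936, 1),
   .inr (496, 1),
   .inr (1264, 1),
   .inr (1840, 1),
   .inr (1984, 1),
   .inl 30,
   .inr (157, 1),
   .inr (541, 1),
   .inr (173, 1),
   .inr (109, 1)]

def tree_14 : List (Sum ℕ (ℕ × ℕ)) :=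
  [.inr (301, 1),
   .inr (333, 1),
   .inr (653, 1),
   .inr (117, 1),
   .inr (1077, 1),
   .inr (565, 1),
   .inr (341, 1),
   .inr (1173, 1),
   .inr (1125, 1),
   .inr (421, 1),
   .inr (453, 1),
   .inr (709, 1),
   .inr (1797, 1),
   .inr (121, 1),
   .inr (185, 1),
   .inr (313, 1),
   .inr (217, 1),
   .inr (1305, 1),
   .inr (233, 1),
   .inr (1577, 1),
   .inr (1225, 1),
   .inr (841, 1),
   .inr (905, 1),
   .inr (369, 1),
   .inr (689, 1),
   .inr (465, 1),
   .inr (1617, 1),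
   .inr (913, 1),
   .inr (737, 1),
   .inr (865, 1),
   .inr (1441, 1),
   .inr (94, 1),
   .inr (158, 1),
   .inr (286, 1),
   .inr (110, 1),
   .inr (174, 1),
   .inr (558, 1),
   .inr (334, 1),
   .inr (654, 1),
   .inr (118, 1),
   .inr (182, 1),
   .inr (310, 1),
   .inr (214, 1),
   .inr (1558, 1),
   .inr (230, 1),
   .inr (1318, 1),
   .inr (1222, 1),
   .inr (838, 1),
   .inr (902, 1),
   .inr (122, 1),
   .inr (314, 1),
   .inr (570, 1),
   .inr (1114, 1),
   .inr (410, 1),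
   .inr (362, 1),
   .inr (1194, 1),
   .inr (458, 1),
   .inr (714, 1),
   .inr (1802, 1),
   .inr (370, 1),
   .inr (690, 1),
   .inr (722, 1),
   .inr (850, 1),
   .inr (1426, 1),
   .inr (482, 1),
   .inr (1634, 1),
   .inr (930, 1),
   .inr (124, 1),
   .inr (188, 1),
   .inr (1084, 1),
   .inr (220, 1),
   .inr (796, 1),
   .inr (236, 1),
   .inr (812, 1),
   .inr (460, 1),
   .inr (1612, 1),
   .inr (1420, 1),
   .inr (628, 1),
   .inr (436, 1),
   .inr (724, 1),
   .inr (1364, 1),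
   .inr (916, 1),
   .inr (484, 1),
   .inr (868, 1),
   .inr (1700, 1),
   .inr (632, 1),
   .inr (440, 1),
   .inr (472, 1),
   .inr (856, 1),
   .inr (1688, 1),
   .inr (744, 1),
   .inr (1384, 1),
   .inr (936, 1),
   .inr (496, 1),
   .inr (1264, 1),
   .inr (1840, 1),
   .inr (1984, 1),
   .inl 31,
   .inr (2075, 1),
   .inr (283, 1),
   .inr (331, 1),
   .inr (107, 1),
   .inr (299, 1),
   .inr (555, 1),
   .inr (651, 1),
   .inr (307, 1),
   .inr (339, 1),
   .inr (115, 1),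
   .inr (179, 1),
   .inr (1555, 1),
   .inr (227, 1),
   .inr (1315, 1),
   .inr (1219, 1),
   .inr (835, 1),
   .inr (899, 1),
   .inr (93, 2),
   .inr (157, 1),
   .inr (541, 1),
   .inr (173, 1),
   .inr (109, 1),
   .inr (301, 1),
   .inr (589, 1),
   .inr (397, 1),
   .inr (309, 1),
   .inr (117, 1),
   .inr (1077, 1),
   .inr (213, 1),
   .inr (789, 1),
   .inr (229, 1),
   .inr (805, 1),
   .inr (453, 1),
   .inr (1349, 1),
   .inr (1669, 1),
   .inr (121, 1),
   .inr (313, 1),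
   .inr (569, 1),
   .inr (1113, 1),
   .inr (409, 1),
   .inr (361, 1),
   .inr (1193, 1),
   .inr (457, 1),
   .inr (713, 1),
   .inr (1801, 1),
   .inr (369, 1),
   .inr (689, 1),
   .inr (721, 1),
   .inr (849, 1),
   .inr (1425, 1),
   .inr (481, 1),
   .inr (1633, 1),
   .inr (929, 1),
   .inr (94, 1),
   .inr (158, 1),
   .inr (542, 1),
   .inr (110, 1),
   .inr (174, 1),
   .inr (302, 1),
   .inr (334, 1),
   .inr (654, 1),
   .inr (118, 1),
   .inr (310, 1),
   .inr (566, 1),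
   .inr (342, 1),
   .inr (1174, 1),
   .inr (1126, 1),
   .inr (422, 1),
   .inr (454, 1),
   .inr (710, 1),
   .inr (1798, 1),
   .inr (122, 1),
   .inr (186, 1),
   .inr (1082, 1),
   .inr (218, 1),
   .inr (794, 1),
   .inr (234, 1),
   .inr (810, 1),
   .inr (458, 1),
   .inr (1610, 1),
   .inr (1418, 1),
   .inr (626, 1),
   .inr (434, 1),
   .inr (722, 1),
   .inr (1362, 1),
   .inr (914, 1),
   .inr (482, 1),
   .inr (866, 1),
   .inr (1698, 1),
   .inr (124, 1),
   .inr (188, 1),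
   .inr (316, 1),
   .inr (220, 1),
   .inr (1308, 1),
   .inr (236, 1),
   .inr (1580, 1),
   .inr (1228, 1),
   .inr (844, 1),
   .inr (908, 1),
   .inr (372, 1),
   .inr (692, 1),
   .inr (468, 1),
   .inr (1620, 1),
   .inr (916, 1),
   .inr (740, 1),
   .inr (868, 1),
   .inr (1444, 1),
   .inr (632, 1),
   .inr (440, 1),
   .inr (472, 1),
   .inr (856, 1),
   .inr (1688, 1),
   .inr (744, 1),
   .inr (1384, 1),
   .inr (936, 1),
   .inr (496, 1),
   .inr (1264, 1),
   .inr (1840, 1),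
   .inr (1984, 1),
   .inl 32,
   .inr (285, 1),
   .inr (541, 1),
   .inr (109, 1),
   .inr (173, 1),
   .inr (301, 1),
   .inr (333, 1),
   .inr (653, 1),
   .inr (117, 1),
   .inr (309, 1),
   .inr (565, 1),
   .inr (341, 1),
   .inr (1173, 1),
   .inr (1125, 1),
   .inr (421, 1),
   .inr (453, 1),
   .inr (709, 1),
   .inr (1797, 1),
   .inr (121, 1),
   .inr (185, 1),
   .inr (1081, 1),
   .inr (217, 1),
   .inr (793, 1),
   .inr (233, 1),
   .inr (809, 1),
   .inr (457, 1),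
   .inr (1609, 1),
   .inr (1417, 1),
   .inr (625, 1),
   .inr (433, 1),
   .inr (721, 1),
   .inr (1361, 1),
   .inr (913, 1)]

def tree_15 : List (Sum ℕ (ℕ × ℕ)) :=
  [.inr (481, 1),
   .inr (865, 1),
   .inr (1697, 1),
   .inr (94, 1),
   .inr (158, 1),
   .inr (542, 1),
   .inr (110, 1),
   .inr (174, 1),
   .inr (302, 1),
   .inr (590, 1),
   .inr (398, 1),
   .inr (118, 1),
   .inr (182, 1),
   .inr (1078, 1),
   .inr (214, 1),
   .inr (790, 1),
   .inr (230, 1),
   .inr (806, 1),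
   .inr (454, 1),
   .inr (1350, 1),
   .inr (1670, 1),
   .inr (122, 1),
   .inr (314, 1),
   .inr (570, 1),
   .inr (1114, 1),
   .inr (410, 1),
   .inr (362, 1),
   .inr (1194, 1),
   .inr (458, 1),
   .inr (714, 1),
   .inr (1802, 1),
   .inr (370, 1),
   .inr (690, 1),
   .inr (722, 1),
   .inr (850, 1),
   .inr (1426, 1),
   .inr (482, 1),
   .inr (1634, 1),
   .inr (930, 1),
   .inr (124, 1),
   .inr (188, 1),
   .inr (316, 1),
   .inr (220, 1),
   .inr (1308, 1),
   .inr (236, 1),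
   .inr (1580, 1),
   .inr (1228, 1),
   .inr (844, 1),
   .inr (908, 1),
   .inr (372, 1),
   .inr (692, 1),
   .inr (468, 1),
   .inr (1620, 1),
   .inr (916, 1),
   .inr (740, 1),
   .inr (868, 1),
   .inr (1444, 1),
   .inr (632, 1),
   .inr (440, 1),
   .inr (472, 1),
   .inr (856, 1),
   .inr (1688, 1),
   .inr (744, 1),
   .inr (1384, 1),
   .inr (936, 1),
   .inr (496, 1),
   .inr (1264, 1),
   .inr (1840, 1),
   .inr (1984, 1),
   .inl 33,
   .inr (539, 1),
   .inr (155, 1),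
   .inr (331, 1),
   .inr (107, 1),
   .inr (171, 1),
   .inr (299, 1),
   .inr (651, 1),
   .inr (115, 1),
   .inr (339, 1),
   .inr (307, 1),
   .inr (563, 1),
   .inr (1171, 1),
   .inr (1123, 1),
   .inr (419, 1),
   .inr (451, 1),
   .inr (707, 1),
   .inr (1795, 1),
   .inr (93, 2),
   .inr (541, 1),
   .inr (157, 1),
   .inr (557, 1),
   .inr (301, 1),
   .inr (109, 1),
   .inr (589, 1),
   .inr (397, 1),
   .inr (117, 1),
   .inr (181, 1),
   .inr (1077, 1),
   .inr (213, 1),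
   .inr (789, 1),
   .inr (229, 1),
   .inr (805, 1),
   .inr (453, 1),
   .inr (1349, 1),
   .inr (1669, 1),
   .inr (121, 1),
   .inr (185, 1),
   .inr (313, 1),
   .inr (217, 1),
   .inr (1305, 1),
   .inr (233, 1),
   .inr (1577, 1),
   .inr (1225, 1),
   .inr (841, 1),
   .inr (905, 1),
   .inr (369, 1),
   .inr (689, 1),
   .inr (465, 1),
   .inr (1617, 1),
   .inr (913, 1),
   .inr (737, 1),
   .inr (865, 1),
   .inr (1441, 1),
   .inr (94, 1),
   .inr (158, 1),
   .inr (286, 1),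
   .inr (110, 1),
   .inr (174, 1),
   .inr (558, 1),
   .inr (334, 1),
   .inr (654, 1),
   .inr (118, 1),
   .inr (182, 1),
   .inr (310, 1),
   .inr (214, 1),
   .inr (1558, 1),
   .inr (230, 1),
   .inr (1318, 1),
   .inr (1222, 1),
   .inr (838, 1),
   .inr (902, 1),
   .inr (122, 1),
   .inr (186, 1),
   .inr (1082, 1),
   .inr (218, 1),
   .inr (794, 1),
   .inr (234, 1),
   .inr (810, 1),
   .inr (458, 1),
   .inr (1610, 1),
   .inr (1418, 1),
   .inr (626, 1),
   .inr (434, 1),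
   .inr (722, 1),
   .inr (1362, 1),
   .inr (914, 1),
   .inr (482, 1),
   .inr (866, 1),
   .inr (1698, 1),
   .inr (124, 1),
   .inr (316, 1),
   .inr (572, 1),
   .inr (1116, 1),
   .inr (412, 1),
   .inr (364, 1),
   .inr (1196, 1),
   .inr (460, 1),
   .inr (716, 1),
   .inr (1804, 1),
   .inr (372, 1),
   .inr (692, 1),
   .inr (724, 1),
   .inr (852, 1),
   .inr (1428, 1),
   .inr (484, 1),
   .inr (1636, 1),
   .inr (932, 1),
   .inr (632, 1),
   .inr (440, 1),
   .inr (472, 1),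
   .inr (856, 1),
   .inr (1688, 1),
   .inr (744, 1),
   .inr (1384, 1),
   .inr (936, 1),
   .inr (496, 1),
   .inr (1264, 1),
   .inr (1840, 1),
   .inr (1984, 1),
   .inl 34,
   .inr (285, 1),
   .inr (157, 1),
   .inr (301, 1),
   .inr (557, 1),
   .inr (109, 1),
   .inr (333, 1),
   .inr (653, 1),
   .inr (117, 1),
   .inr (181, 1),
   .inr (309, 1),
   .inr (213, 1),
   .inr (1557, 1),
   .inr (229, 1),
   .inr (1317, 1),
   .inr (1221, 1),
   .inr (837, 1),
   .inr (901, 1),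
   .inr (121, 1),
   .inr (185, 1),
   .inr (1081, 1),
   .inr (217, 1),
   .inr (793, 1),
   .inr (233, 1),
   .inr (809, 1),
   .inr (457, 1),
   .inr (1609, 1),
   .inr (1417, 1),
   .inr (625, 1),
   .inr (433, 1),
   .inr (721, 1),
   .inr (1361, 1),
   .inr (913, 1),
   .inr (481, 1),
   .inr (865, 1),
   .inr (1697, 1),
   .inr (94, 1),
   .inr (158, 1),
   .inr (542, 1),
   .inr (110, 1),
   .inr (174, 1),
   .inr (302, 1),
   .inr (590, 1),
   .inr (398, 1),
   .inr (118, 1),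
   .inr (182, 1),
   .inr (1078, 1),
   .inr (214, 1),
   .inr (790, 1),
   .inr (230, 1),
   .inr (806, 1),
   .inr (454, 1),
   .inr (1350, 1),
   .inr (1670, 1),
   .inr (122, 1),
   .inr (186, 1),
   .inr (314, 1),
   .inr (218, 1),
   .inr (1306, 1),
   .inr (234, 1),
   .inr (1578, 1)]

def tree_16 : List (Sum ℕ (ℕ × ℕ)) :=
  [.inr (1226, 1),
   .inr (842, 1),
   .inr (906, 1),
   .inr (370, 1),
   .inr (690, 1),
   .inr (466, 1),
   .inr (1618, 1),
   .inr (914, 1),
   .inr (738, 1),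
   .inr (866, 1),
   .inr (1442, 1),
   .inr (124, 1),
   .inr (316, 1),
   .inr (572, 1),
   .inr (1116, 1),
   .inr (412, 1),
   .inr (364, 1),
   .inr (1196, 1),
   .inr (460, 1),
   .inr (716, 1),
   .inr (1804, 1),
   .inr (372, 1),
   .inr (692, 1),
   .inr (724, 1),
   .inr (852, 1),
   .inr (1428, 1),
   .inr (484, 1),
   .inr (1636, 1),
   .inr (932, 1),
   .inr (632, 1),
   .inr (440, 1),
   .inr (472, 1),
   .inr (856, 1),
   .inr (1688, 1),
   .inr (744, 1),
   .inr (1384, 1),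
   .inr (936, 1),
   .inr (496, 1),
   .inr (1264, 1),
   .inr (1840, 1),
   .inr (1984, 1),
   .inl 35,
   .inr (279, 2),
   .inr (535, 1),
   .inr (583, 1),
   .inr (327, 1),
   .inr (295, 1),
   .inr (167, 1),
   .inr (647, 1),
   .inr (91, 3),
   .inr (1051, 1),
   .inr (539, 1),
   .inr (587, 1),
   .inr (107, 1),
   .inr (555, 1),
   .inr (299, 1),
   .inr (395, 1),
   .inr (307, 1),
   .inr (595, 1),
   .inr (115, 1),
   .inr (179, 1),
   .inr (1299, 1),
   .inr (227, 1),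
   .inr (1571, 1),
   .inr (1219, 1),
   .inr (835, 1),
   .inr (899, 1),
   .inr (93, 2),
   .inr (157, 1),
   .inr (285, 1),
   .inr (173, 1),
   .inr (109, 1),
   .inr (557, 1),
   .inr (333, 1),
   .inr (653, 1),
   .inr (309, 1),
   .inr (181, 1),
   .inr (1077, 1),
   .inr (213, 1),
   .inr (789, 1),
   .inr (229, 1),
   .inr (805, 1),
   .inr (453, 1),
   .inr (1605, 1),
   .inr (1413, 1),
   .inr (121, 1),
   .inr (313, 1),
   .inr (569, 1),
   .inr (1113, 1),
   .inr (409, 1),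
   .inr (361, 1),
   .inr (1193, 1),
   .inr (457, 1),
   .inr (713, 1),
   .inr (1801, 1),
   .inr (625, 1),
   .inr (433, 1),
   .inr (465, 1),
   .inr (849, 1),
   .inr (1681, 1),
   .inr (737, 1),
   .inr (1377, 1),
   .inr (929, 1),
   .inr (94, 1),
   .inr (158, 1),
   .inr (286, 1),
   .inr (110, 1),
   .inr (174, 1),
   .inr (558, 1),
   .inr (590, 1),
   .inr (398, 1),
   .inr (118, 1),
   .inr (310, 1),
   .inr (566, 1),
   .inr (342, 1),
   .inr (1174, 1),
   .inr (1126, 1),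
   .inr (422, 1),
   .inr (454, 1),
   .inr (710, 1),
   .inr (1798, 1),
   .inr (122, 1),
   .inr (186, 1),
   .inr (1082, 1),
   .inr (218, 1),
   .inr (794, 1),
   .inr (234, 1),
   .inr (810, 1),
   .inr (458, 1),
   .inr (1354, 1),
   .inr (1674, 1),
   .inr (370, 1),
   .inr (690, 1),
   .inr (466, 1),
   .inr (1618, 1),
   .inr (914, 1),
   .inr (738, 1),
   .inr (866, 1),
   .inr (1442, 1),
   .inr (124, 1),
   .inr (188, 1),
   .inr (316, 1),
   .inr (220, 1),
   .inr (1564, 1),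
   .inr (236, 1),
   .inr (1324, 1),
   .inr (1228, 1),
   .inr (844, 1),
   .inr (908, 1),
   .inr (628, 1),
   .inr (436, 1),
   .inr (724, 1),
   .inr (1364, 1),
   .inr (916, 1),
   .inr (484, 1),
   .inr (868, 1),
   .inr (1700, 1),
   .inr (376, 1),
   .inr (696, 1),
   .inr (728, 1),
   .inr (856, 1),
   .inr (1432, 1),
   .inr (488, 1),
   .inr (1640, 1),
   .inr (936, 1),
   .inr (496, 1),
   .inr (1264, 1),
   .inr (1840, 1),
   .inr (1984, 1),
   .inl 36,
   .inr (285, 1),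
   .inr (157, 1),
   .inr (109, 1),
   .inr (173, 1),
   .inr (557, 1),
   .inr (589, 1),
   .inr (397, 1),
   .inr (117, 1),
   .inr (309, 1),
   .inr (565, 1),
   .inr (341, 1),
   .inr (1173, 1),
   .inr (1125, 1),
   .inr (421, 1),
   .inr (453, 1),
   .inr (709, 1),
   .inr (1797, 1),
   .inr (121, 1),
   .inr (185, 1),
   .inr (1081, 1),
   .inr (217, 1),
   .inr (793, 1),
   .inr (233, 1),
   .inr (809, 1),
   .inr (457, 1),
   .inr (1353, 1),
   .inr (1673, 1),
   .inr (369, 1),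
   .inr (689, 1),
   .inr (465, 1),
   .inr (1617, 1),
   .inr (913, 1),
   .inr (737, 1),
   .inr (865, 1),
   .inr (1441, 1),
   .inr (94, 1),
   .inr (158, 1),
   .inr (286, 1),
   .inr (110, 1),
   .inr (174, 1),
   .inr (558, 1),
   .inr (334, 1),
   .inr (654, 1),
   .inr (118, 1),
   .inr (182, 1),
   .inr (1078, 1),
   .inr (214, 1),
   .inr (790, 1),
   .inr (230, 1),
   .inr (806, 1),
   .inr (454, 1),
   .inr (1606, 1),
   .inr (1414, 1),
   .inr (122, 1),
   .inr (314, 1),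
   .inr (570, 1),
   .inr (1114, 1),
   .inr (410, 1),
   .inr (362, 1),
   .inr (1194, 1),
   .inr (458, 1),
   .inr (714, 1),
   .inr (1802, 1),
   .inr (626, 1),
   .inr (434, 1),
   .inr (466, 1),
   .inr (850, 1),
   .inr (1682, 1),
   .inr (738, 1),
   .inr (1378, 1),
   .inr (930, 1),
   .inr (124, 1),
   .inr (188, 1),
   .inr (316, 1),
   .inr (220, 1),
   .inr (1564, 1),
   .inr (236, 1),
   .inr (1324, 1),
   .inr (1228, 1),
   .inr (844, 1)]

def tree_17 : List (Sum ℕ (ℕ × ℕ)) :=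
  [.inr (908, 1),
   .inr (628, 1),
   .inr (436, 1),
   .inr (724, 1),
   .inr (1364, 1),
   .inr (916, 1),
   .inr (484, 1),
   .inr (868, 1),
   .inr (1700, 1),
   .inr (376, 1),
   .inr (696, 1),
   .inr (728, 1),
   .inr (856, 1),
   .inr (1432, 1),
   .inr (488, 1),
   .inr (1640, 1),
   .inr (936, 1),
   .inr (496, 1),
   .inr (1264, 1),
   .inr (1840, 1),
   .inr (1984, 1),
   .inl 37,
   .inr (1099, 1),
   .inr (299, 1),
   .inr (555, 1),
   .inr (331, 1),
   .inr (283, 1),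
   .inr (155, 1),
   .inr (651, 1),
   .inr (1075, 1),
   .inr (339, 1),
   .inr (179, 1),
   .inr (211, 1),
   .inr (787, 1),
   .inr (227, 1),
   .inr (803, 1),
   .inr (451, 1),
   .inr (1603, 1),
   .inr (1411, 1),
   .inr (93, 2),
   .inr (1053, 1),
   .inr (541, 1),
   .inr (109, 1),
   .inr (173, 1),
   .inr (301, 1),
   .inr (589, 1),
   .inr (397, 1),
   .inr (309, 1),
   .inr (1077, 1),
   .inr (181, 1),
   .inr (213, 1),
   .inr (1301, 1),
   .inr (229, 1),
   .inr (1573, 1),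
   .inr (1221, 1),
   .inr (837, 1),
   .inr (901, 1),
   .inr (121, 1),
   .inr (313, 1),
   .inr (569, 1),
   .inr (1113, 1),
   .inr (409, 1),
   .inr (361, 1),
   .inr (1193, 1),
   .inr (457, 1),
   .inr (713, 1),
   .inr (1801, 1),
   .inr (625, 1),
   .inr (433, 1),
   .inr (465, 1),
   .inr (849, 1),
   .inr (1681, 1),
   .inr (737, 1),
   .inr (1377, 1),
   .inr (929, 1),
   .inr (94, 1),
   .inr (158, 1),
   .inr (286, 1),
   .inr (110, 1),
   .inr (174, 1),
   .inr (558, 1),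
   .inr (590, 1),
   .inr (398, 1),
   .inr (118, 1),
   .inr (310, 1),
   .inr (566, 1),
   .inr (342, 1),
   .inr (1174, 1),
   .inr (1126, 1),
   .inr (422, 1),
   .inr (454, 1),
   .inr (710, 1),
   .inr (1798, 1),
   .inr (122, 1),
   .inr (186, 1),
   .inr (314, 1),
   .inr (218, 1),
   .inr (1562, 1),
   .inr (234, 1),
   .inr (1322, 1),
   .inr (1226, 1),
   .inr (842, 1),
   .inr (906, 1),
   .inr (626, 1),
   .inr (434, 1),
   .inr (722, 1),
   .inr (1362, 1),
   .inr (914, 1),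
   .inr (482, 1),
   .inr (866, 1),
   .inr (1698, 1),
   .inr (124, 1),
   .inr (188, 1),
   .inr (1084, 1),
   .inr (220, 1),
   .inr (796, 1),
   .inr (236, 1),
   .inr (812, 1),
   .inr (460, 1),
   .inr (1356, 1),
   .inr (1676, 1),
   .inr (372, 1),
   .inr (692, 1),
   .inr (468, 1),
   .inr (1620, 1),
   .inr (916, 1),
   .inr (740, 1),
   .inr (868, 1),
   .inr (1444, 1),
   .inr (376, 1),
   .inr (696, 1),
   .inr (728, 1),
   .inr (856, 1),
   .inr (1432, 1),
   .inr (488, 1),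
   .inr (1640, 1),
   .inr (936, 1),
   .inr (496, 1),
   .inr (1264, 1),
   .inr (1840, 1),
   .inr (1984, 1),
   .inl 38,
   .inr (157, 1),
   .inr (285, 1),
   .inr (173, 1),
   .inr (109, 1),
   .inr (557, 1),
   .inr (589, 1),
   .inr (397, 1),
   .inr (117, 1),
   .inr (1077, 1),
   .inr (565, 1),
   .inr (341, 1),
   .inr (1173, 1),
   .inr (1125, 1),
   .inr (421, 1),
   .inr (453, 1),
   .inr (709, 1),
   .inr (1797, 1),
   .inr (121, 1),
   .inr (185, 1),
   .inr (313, 1),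
   .inr (217, 1),
   .inr (1561, 1),
   .inr (233, 1),
   .inr (1321, 1),
   .inr (1225, 1),
   .inr (841, 1),
   .inr (905, 1),
   .inr (625, 1),
   .inr (433, 1),
   .inr (721, 1),
   .inr (1361, 1),
   .inr (913, 1),
   .inr (481, 1),
   .inr (865, 1),
   .inr (1697, 1),
   .inr (94, 1),
   .inr (158, 1),
   .inr (542, 1),
   .inr (110, 1),
   .inr (174, 1),
   .inr (302, 1),
   .inr (590, 1),
   .inr (398, 1),
   .inr (118, 1),
   .inr (182, 1),
   .inr (310, 1),
   .inr (214, 1),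
   .inr (1302, 1),
   .inr (230, 1),
   .inr (1574, 1),
   .inr (1222, 1),
   .inr (838, 1),
   .inr (902, 1),
   .inr (122, 1),
   .inr (314, 1),
   .inr (570, 1),
   .inr (1114, 1),
   .inr (410, 1),
   .inr (362, 1),
   .inr (1194, 1),
   .inr (458, 1),
   .inr (714, 1),
   .inr (1802, 1),
   .inr (626, 1),
   .inr (434, 1),
   .inr (466, 1),
   .inr (850, 1),
   .inr (1682, 1),
   .inr (738, 1),
   .inr (1378, 1),
   .inr (930, 1),
   .inr (124, 1),
   .inr (188, 1),
   .inr (1084, 1),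
   .inr (220, 1),
   .inr (796, 1),
   .inr (236, 1),
   .inr (812, 1),
   .inr (460, 1),
   .inr (1356, 1),
   .inr (1676, 1),
   .inr (372, 1),
   .inr (692, 1),
   .inr (468, 1),
   .inr (1620, 1),
   .inr (916, 1),
   .inr (740, 1),
   .inr (868, 1),
   .inr (1444, 1),
   .inr (376, 1),
   .inr (696, 1),
   .inr (728, 1),
   .inr (856, 1),
   .inr (1432, 1),
   .inr (488, 1),
   .inr (1640, 1),
   .inr (936, 1),
   .inr (496, 1),
   .inr (1264, 1),
   .inr (1840, 1),
   .inr (1984, 1),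
   .inl 39,
   .inr (283, 1),
   .inr (155, 1),
   .inr (331, 1),
   .inr (171, 1),
   .inr (555, 1),
   .inr (587, 1)]

def tree_18 : List (Sum ℕ (ℕ × ℕ)) :=
  [.inr (395, 1),
   .inr (115, 1),
   .inr (339, 1),
   .inr (307, 1),
   .inr (563, 1),
   .inr (1171, 1),
   .inr (1123, 1),
   .inr (419, 1),
   .inr (451, 1),
   .inr (707, 1),
   .inr (1795, 1),
   .inr (93, 2),
   .inr (541, 1),
   .inr (157, 1),
   .inr (557, 1),
   .inr (301, 1),
   .inr (109, 1),
   .inr (589, 1),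
   .inr (397, 1),
   .inr (117, 1),
   .inr (181, 1),
   .inr (309, 1),
   .inr (213, 1),
   .inr (1301, 1),
   .inr (229, 1),
   .inr (1573, 1),
   .inr (1221, 1),
   .inr (837, 1),
   .inr (901, 1),
   .inr (121, 1),
   .inr (185, 1),
   .inr (1081, 1),
   .inr (217, 1),
   .inr (793, 1),
   .inr (233, 1),
   .inr (809, 1),
   .inr (457, 1),
   .inr (1353, 1),
   .inr (1673, 1),
   .inr (369, 1),
   .inr (689, 1),
   .inr (465, 1),
   .inr (1617, 1),
   .inr (913, 1),
   .inr (737, 1),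
   .inr (865, 1),
   .inr (1441, 1),
   .inr (94, 1),
   .inr (158, 1),
   .inr (286, 1),
   .inr (110, 1),
   .inr (174, 1),
   .inr (558, 1),
   .inr (334, 1),
   .inr (654, 1),
   .inr (118, 1),
   .inr (182, 1),
   .inr (1078, 1),
   .inr (214, 1),
   .inr (790, 1),
   .inr (230, 1),
   .inr (806, 1),
   .inr (454, 1),
   .inr (1606, 1),
   .inr (1414, 1),
   .inr (122, 1),
   .inr (186, 1),
   .inr (314, 1),
   .inr (218, 1),
   .inr (1562, 1),
   .inr (234, 1),
   .inr (1322, 1),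
   .inr (1226, 1),
   .inr (842, 1),
   .inr (906, 1),
   .inr (626, 1),
   .inr (434, 1),
   .inr (722, 1),
   .inr (1362, 1),
   .inr (914, 1),
   .inr (482, 1),
   .inr (866, 1),
   .inr (1698, 1),
   .inr (124, 1),
   .inr (316, 1),
   .inr (572, 1),
   .inr (1116, 1),
   .inr (412, 1),
   .inr (364, 1),
   .inr (1196, 1),
   .inr (460, 1),
   .inr (716, 1),
   .inr (1804, 1),
   .inr (628, 1),
   .inr (436, 1),
   .inr (468, 1),
   .inr (852, 1),
   .inr (1684, 1),
   .inr (740, 1),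
   .inr (1380, 1),
   .inr (932, 1),
   .inr (376, 1),
   .inr (696, 1),
   .inr (728, 1),
   .inr (856, 1),
   .inr (1432, 1),
   .inr (488, 1),
   .inr (1640, 1),
   .inr (936, 1),
   .inr (496, 1),
   .inr (1264, 1),
   .inr (1840, 1),
   .inr (1984, 1),
   .inl 40,
   .inr (285, 1),
   .inr (157, 1),
   .inr (301, 1),
   .inr (557, 1),
   .inr (109, 1),
   .inr (333, 1),
   .inr (653, 1),
   .inr (117, 1),
   .inr (181, 1),
   .inr (1077, 1),
   .inr (213, 1),
   .inr (789, 1),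
   .inr (229, 1),
   .inr (805, 1),
   .inr (453, 1),
   .inr (1605, 1),
   .inr (1413, 1),
   .inr (121, 1),
   .inr (185, 1),
   .inr (313, 1),
   .inr (217, 1),
   .inr (1561, 1),
   .inr (233, 1),
   .inr (1321, 1),
   .inr (1225, 1),
   .inr (841, 1),
   .inr (905, 1),
   .inr (625, 1),
   .inr (433, 1),
   .inr (721, 1),
   .inr (1361, 1),
   .inr (913, 1),
   .inr (481, 1),
   .inr (865, 1),
   .inr (1697, 1),
   .inr (94, 1),
   .inr (158, 1),
   .inr (542, 1),
   .inr (110, 1),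
   .inr (174, 1),
   .inr (302, 1),
   .inr (590, 1),
   .inr (398, 1),
   .inr (118, 1),
   .inr (182, 1),
   .inr (310, 1),
   .inr (214, 1),
   .inr (1302, 1),
   .inr (230, 1),
   .inr (1574, 1),
   .inr (1222, 1),
   .inr (838, 1),
   .inr (902, 1),
   .inr (122, 1),
   .inr (186, 1),
   .inr (1082, 1),
   .inr (218, 1),
   .inr (794, 1),
   .inr (234, 1),
   .inr (810, 1),
   .inr (458, 1),
   .inr (1354, 1),
   .inr (1674, 1),
   .inr (370, 1),
   .inr (690, 1),
   .inr (466, 1),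
   .inr (1618, 1),
   .inr (914, 1),
   .inr (738, 1),
   .inr (866, 1),
   .inr (1442, 1),
   .inr (124, 1),
   .inr (316, 1),
   .inr (572, 1),
   .inr (1116, 1),
   .inr (412, 1),
   .inr (364, 1),
   .inr (1196, 1),
   .inr (460, 1),
   .inr (716, 1),
   .inr (1804, 1),
   .inr (628, 1),
   .inr (436, 1),
   .inr (468, 1),
   .inr (852, 1),
   .inr (1684, 1),
   .inr (740, 1),
   .inr (1380, 1),
   .inr (932, 1),
   .inr (376, 1),
   .inr (696, 1),
   .inr (728, 1),
   .inr (856, 1),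
   .inr (1432, 1),
   .inr (488, 1),
   .inr (1640, 1),
   .inr (936, 1),
   .inr (496, 1),
   .inr (1264, 1),
   .inr (1840, 1),
   .inr (1984, 1),
   .inl 41,
   .inr (151, 1),
   .inr (327, 1),
   .inr (583, 1),
   .inr (551, 1),
   .inr (167, 1),
   .inr (391, 1),
   .inr (91, 3),
   .inr (1099, 1),
   .inr (555, 1),
   .inr (299, 1),
   .inr (587, 1),
   .inr (539, 1),
   .inr (155, 1),
   .inr (395, 1),
   .inr (1075, 1),
   .inr (595, 1),
   .inr (179, 1),
   .inr (211, 1),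
   .inr (787, 1),
   .inr (227, 1),
   .inr (803, 1),
   .inr (451, 1),
   .inr (1347, 1),
   .inr (1667, 1),
   .inr (93, 2),
   .inr (1053, 1),
   .inr (285, 1),
   .inr (109, 1),
   .inr (173, 1),
   .inr (557, 1),
   .inr (333, 1),
   .inr (653, 1),
   .inr (309, 1),
   .inr (1077, 1)]

def tree_19 : List (Sum ℕ (ℕ × ℕ)) :=
  [.inr (181, 1),
   .inr (213, 1),
   .inr (1557, 1),
   .inr (229, 1),
   .inr (1317, 1),
   .inr (1221, 1),
   .inr (837, 1),
   .inr (901, 1),
   .inr (121, 1),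
   .inr (313, 1),
   .inr (569, 1),
   .inr (1113, 1),
   .inr (409, 1),
   .inr (361, 1),
   .inr (1193, 1),
   .inr (457, 1),
   .inr (713, 1),
   .inr (1801, 1),
   .inr (369, 1),
   .inr (689, 1),
   .inr (721, 1),
   .inr (849, 1),
   .inr (1425, 1),
   .inr (481, 1),
   .inr (1633, 1),
   .inr (929, 1),
   .inr (94, 1),
   .inr (158, 1),
   .inr (542, 1),
   .inr (110, 1),
   .inr (174, 1),
   .inr (302, 1),
   .inr (334, 1),
   .inr (654, 1),
   .inr (118, 1),
   .inr (310, 1),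
   .inr (566, 1),
   .inr (342, 1),
   .inr (1174, 1),
   .inr (1126, 1),
   .inr (422, 1),
   .inr (454, 1),
   .inr (710, 1),
   .inr (1798, 1),
   .inr (122, 1),
   .inr (186, 1),
   .inr (314, 1),
   .inr (218, 1),
   .inr (1306, 1),
   .inr (234, 1),
   .inr (1578, 1),
   .inr (1226, 1),
   .inr (842, 1),
   .inr (906, 1),
   .inr (370, 1),
   .inr (690, 1),
   .inr (466, 1),
   .inr (1618, 1),
   .inr (914, 1),
   .inr (738, 1),
   .inr (866, 1),
   .inr (1442, 1),
   .inr (124, 1),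
   .inr (188, 1),
   .inr (1084, 1),
   .inr (220, 1),
   .inr (796, 1),
   .inr (236, 1),
   .inr (812, 1),
   .inr (460, 1),
   .inr (1612, 1),
   .inr (1420, 1),
   .inr (628, 1),
   .inr (436, 1),
   .inr (724, 1),
   .inr (1364, 1),
   .inr (916, 1),
   .inr (484, 1),
   .inr (868, 1),
   .inr (1700, 1),
   .inr (632, 1),
   .inr (440, 1),
   .inr (472, 1),
   .inr (856, 1),
   .inr (1688, 1),
   .inr (744, 1),
   .inr (1384, 1),
   .inr (936, 1),
   .inr (496, 1),
   .inr (1264, 1),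
   .inr (1840, 1),
   .inr (1984, 1),
   .inl 42,
   .inr (157, 1),
   .inr (541, 1),
   .inr (173, 1),
   .inr (109, 1),
   .inr (301, 1),
   .inr (333, 1),
   .inr (653, 1),
   .inr (117, 1),
   .inr (1077, 1),
   .inr (309, 1),
   .inr (341, 1),
   .inr (1173, 1),
   .inr (1125, 1),
   .inr (421, 1),
   .inr (453, 1),
   .inr (709, 1),
   .inr (1797, 1),
   .inr (121, 1),
   .inr (185, 1),
   .inr (313, 1),
   .inr (217, 1),
   .inr (1305, 1),
   .inr (233, 1),
   .inr (1577, 1),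
   .inr (1225, 1),
   .inr (841, 1),
   .inr (905, 1),
   .inr (369, 1),
   .inr (689, 1),
   .inr (465, 1),
   .inr (1617, 1),
   .inr (913, 1),
   .inr (737, 1),
   .inr (865, 1),
   .inr (1441, 1),
   .inr (94, 1),
   .inr (158, 1),
   .inr (286, 1),
   .inr (110, 1),
   .inr (174, 1),
   .inr (558, 1),
   .inr (334, 1),
   .inr (654, 1),
   .inr (118, 1),
   .inr (182, 1),
   .inr (310, 1),
   .inr (214, 1),
   .inr (1558, 1),
   .inr (230, 1),
   .inr (1318, 1),
   .inr (1222, 1),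
   .inr (838, 1),
   .inr (902, 1),
   .inr (122, 1),
   .inr (314, 1),
   .inr (570, 1),
   .inr (1114, 1),
   .inr (410, 1),
   .inr (362, 1),
   .inr (1194, 1),
   .inr (458, 1),
   .inr (714, 1),
   .inr (1802, 1),
   .inr (370, 1),
   .inr (690, 1),
   .inr (722, 1),
   .inr (850, 1),
   .inr (1426, 1),
   .inr (482, 1),
   .inr (1634, 1),
   .inr (930, 1),
   .inr (124, 1),
   .inr (188, 1),
   .inr (1084, 1),
   .inr (220, 1),
   .inr (796, 1),
   .inr (236, 1),
   .inr (812, 1),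
   .inr (460, 1),
   .inr (1612, 1),
   .inr (1420, 1),
   .inr (628, 1),
   .inr (436, 1),
   .inr (724, 1),
   .inr (1364, 1),
   .inr (916, 1),
   .inr (484, 1),
   .inr (868, 1),
   .inr (1700, 1),
   .inr (632, 1),
   .inr (440, 1),
   .inr (472, 1),
   .inr (856, 1),
   .inr (1688, 1),
   .inr (744, 1),
   .inr (1384, 1),
   .inr (936, 1),
   .inr (496, 1),
   .inr (1264, 1),
   .inr (1840, 1),
   .inr (1984, 1),
   .inl 43,
   .inr (1051, 1),
   .inr (283, 1),
   .inr (331, 1),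
   .inr (107, 1),
   .inr (299, 1),
   .inr (555, 1),
   .inr (651, 1),
   .inr (307, 1),
   .inr (339, 1),
   .inr (115, 1),
   .inr (179, 1),
   .inr (1555, 1),
   .inr (227, 1),
   .inr (1315, 1),
   .inr (1219, 1),
   .inr (835, 1),
   .inr (899, 1),
   .inr (93, 2),
   .inr (157, 1),
   .inr (541, 1),
   .inr (173, 1),
   .inr (109, 1),
   .inr (301, 1),
   .inr (589, 1),
   .inr (397, 1),
   .inr (309, 1),
   .inr (117, 1),
   .inr (1077, 1),
   .inr (213, 1),
   .inr (789, 1),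
   .inr (229, 1),
   .inr (805, 1),
   .inr (453, 1),
   .inr (1349, 1),
   .inr (1669, 1),
   .inr (121, 1),
   .inr (313, 1),
   .inr (569, 1),
   .inr (1113, 1),
   .inr (409, 1),
   .inr (361, 1),
   .inr (1193, 1),
   .inr (457, 1),
   .inr (713, 1),
   .inr (1801, 1),
   .inr (369, 1),
   .inr (689, 1),
   .inr (721, 1),
   .inr (849, 1),
   .inr (1425, 1),
   .inr (481, 1),
   .inr (1633, 1),
   .inr (929, 1),
   .inr (94, 1),
   .inr (158, 1)]

def tree_20 : List (Sum ℕ (ℕ × ℕ)) :=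
  [.inr (542, 1),
   .inr (110, 1),
   .inr (174, 1),
   .inr (302, 1),
   .inr (334, 1),
   .inr (654, 1),
   .inr (118, 1),
   .inr (310, 1),
   .inr (566, 1),
   .inr (342, 1),
   .inr (1174, 1),
   .inr (1126, 1),
   .inr (422, 1),
   .inr (454, 1),
   .inr (710, 1),
   .inr (1798, 1),
   .inr (122, 1),
   .inr (186, 1),
   .inr (1082, 1),
   .inr (218, 1),
   .inr (794, 1),
   .inr (234, 1),
   .inr (810, 1),
   .inr (458, 1),
   .inr (1610, 1),
   .inr (1418, 1),
   .inr (626, 1),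
   .inr (434, 1),
   .inr (722, 1),
   .inr (1362, 1),
   .inr (914, 1),
   .inr (482, 1),
   .inr (866, 1),
   .inr (1698, 1),
   .inr (124, 1),
   .inr (188, 1),
   .inr (316, 1),
   .inr (220, 1),
   .inr (1308, 1),
   .inr (236, 1),
   .inr (1580, 1),
   .inr (1228, 1),
   .inr (844, 1),
   .inr (908, 1),
   .inr (372, 1),
   .inr (692, 1),
   .inr (468, 1),
   .inr (1620, 1),
   .inr (916, 1),
   .inr (740, 1),
   .inr (868, 1),
   .inr (1444, 1),
   .inr (632, 1),
   .inr (440, 1),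
   .inr (472, 1),
   .inr (856, 1),
   .inr (1688, 1),
   .inr (744, 1),
   .inr (1384, 1),
   .inr (936, 1),
   .inr (496, 1),
   .inr (1264, 1),
   .inr (1840, 1),
   .inr (1984, 1),
   .inl 44,
   .inr (285, 1),
   .inr (541, 1),
   .inr (109, 1),
   .inr (173, 1),
   .inr (301, 1),
   .inr (333, 1),
   .inr (653, 1),
   .inr (117, 1),
   .inr (309, 1),
   .inr (565, 1),
   .inr (341, 1),
   .inr (1173, 1),
   .inr (1125, 1),
   .inr (421, 1),
   .inr (453, 1),
   .inr (709, 1),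
   .inr (1797, 1),
   .inr (121, 1),
   .inr (185, 1),
   .inr (1081, 1),
   .inr (217, 1),
   .inr (793, 1),
   .inr (233, 1),
   .inr (809, 1),
   .inr (457, 1),
   .inr (1609, 1),
   .inr (1417, 1),
   .inr (625, 1),
   .inr (433, 1),
   .inr (721, 1),
   .inr (1361, 1),
   .inr (913, 1),
   .inr (481, 1),
   .inr (865, 1),
   .inr (1697, 1),
   .inr (94, 1),
   .inr (158, 1),
   .inr (542, 1),
   .inr (110, 1),
   .inr (174, 1),
   .inr (302, 1),
   .inr (590, 1),
   .inr (398, 1),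
   .inr (118, 1),
   .inr (182, 1),
   .inr (1078, 1),
   .inr (214, 1),
   .inr (790, 1),
   .inr (230, 1),
   .inr (806, 1),
   .inr (454, 1),
   .inr (1350, 1),
   .inr (1670, 1),
   .inr (122, 1),
   .inr (314, 1),
   .inr (570, 1),
   .inr (1114, 1),
   .inr (410, 1),
   .inr (362, 1),
   .inr (1194, 1),
   .inr (458, 1),
   .inr (714, 1),
   .inr (1802, 1),
   .inr (370, 1),
   .inr (690, 1),
   .inr (722, 1),
   .inr (850, 1),
   .inr (1426, 1),
   .inr (482, 1),
   .inr (1634, 1),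
   .inr (930, 1),
   .inr (124, 1),
   .inr (188, 1),
   .inr (316, 1),
   .inr (220, 1),
   .inr (1308, 1),
   .inr (236, 1),
   .inr (1580, 1),
   .inr (1228, 1),
   .inr (844, 1),
   .inr (908, 1),
   .inr (372, 1),
   .inr (692, 1),
   .inr (468, 1),
   .inr (1620, 1),
   .inr (916, 1),
   .inr (740, 1),
   .inr (868, 1),
   .inr (1444, 1),
   .inr (632, 1),
   .inr (440, 1),
   .inr (472, 1),
   .inr (856, 1),
   .inr (1688, 1),
   .inr (744, 1),
   .inr (1384, 1),
   .inr (936, 1),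
   .inr (496, 1),
   .inr (1264, 1),
   .inr (1840, 1),
   .inr (1984, 1),
   .inl 45,
   .inr (539, 1),
   .inr (155, 1),
   .inr (331, 1),
   .inr (107, 1),
   .inr (171, 1),
   .inr (299, 1),
   .inr (651, 1),
   .inr (115, 1),
   .inr (339, 1),
   .inr (307, 1),
   .inr (563, 1),
   .inr (1171, 1),
   .inr (1123, 1),
   .inr (419, 1),
   .inr (451, 1),
   .inr (707, 1),
   .inr (1795, 1),
   .inr (93, 2),
   .inr (541, 1),
   .inr (157, 1),
   .inr (557, 1),
   .inr (301, 1),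
   .inr (109, 1),
   .inr (589, 1),
   .inr (397, 1),
   .inr (117, 1),
   .inr (181, 1),
   .inr (1077, 1),
   .inr (213, 1),
   .inr (789, 1),
   .inr (229, 1),
   .inr (805, 1),
   .inr (453, 1),
   .inr (1349, 1),
   .inr (1669, 1),
   .inr (121, 1),
   .inr (185, 1),
   .inr (313, 1),
   .inr (217, 1),
   .inr (1305, 1),
   .inr (233, 1),
   .inr (1577, 1),
   .inr (1225, 1),
   .inr (841, 1),
   .inr (905, 1),
   .inr (369, 1),
   .inr (689, 1),
   .inr (465, 1),
   .inr (1617, 1),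
   .inr (913, 1),
   .inr (737, 1),
   .inr (865, 1),
   .inr (1441, 1),
   .inr (94, 1),
   .inr (158, 1),
   .inr (286, 1),
   .inr (110, 1),
   .inr (174, 1),
   .inr (558, 1),
   .inr (334, 1),
   .inr (654, 1),
   .inr (118, 1),
   .inr (182, 1),
   .inr (310, 1),
   .inr (214, 1),
   .inr (1558, 1),
   .inr (230, 1),
   .inr (1318, 1),
   .inr (1222, 1),
   .inr (838, 1),
   .inr (902, 1),
   .inr (122, 1),
   .inr (186, 1),
   .inr (1082, 1),
   .inr (218, 1),
   .inr (794, 1),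
   .inr (234, 1),
   .inr (810, 1),
   .inr (458, 1),
   .inr (1610, 1),
   .inr (1418, 1),
   .inr (626, 1),
   .inr (434, 1)]

def tree_21 : List (Sum ℕ (ℕ × ℕ)) :=
  [.inr (722, 1),
   .inr (1362, 1),
   .inr (914, 1),
   .inr (482, 1),
   .inr (866, 1),
   .inr (1698, 1),
   .inr (124, 1),
   .inr (316, 1),
   .inr (572, 1),
   .inr (1116, 1),
   .inr (412, 1),
   .inr (364, 1),
   .inr (1196, 1),
   .inr (460, 1),
   .inr (716, 1),
   .inr (1804, 1),
   .inr (372, 1),
   .inr (692, 1),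
   .inr (724, 1),
   .inr (852, 1),
   .inr (1428, 1),
   .inr (484, 1),
   .inr (1636, 1),
   .inr (932, 1),
   .inr (632, 1),
   .inr (440, 1),
   .inr (472, 1),
   .inr (856, 1),
   .inr (1688, 1),
   .inr (744, 1),
   .inr (1384, 1),
   .inr (936, 1),
   .inr (496, 1),
   .inr (1264, 1),
   .inr (1840, 1),
   .inr (1984, 1),
   .inl 46,
   .inr (285, 1),
   .inr (157, 1),
   .inr (301, 1),
   .inr (557, 1),
   .inr (109, 1),
   .inr (333, 1),
   .inr (653, 1),
   .inr (117, 1),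
   .inr (181, 1),
   .inr (309, 1),
   .inr (213, 1),
   .inr (1557, 1),
   .inr (229, 1),
   .inr (1317, 1),
   .inr (1221, 1),
   .inr (837, 1),
   .inr (901, 1),
   .inr (121, 1),
   .inr (185, 1),
   .inr (1081, 1),
   .inr (217, 1),
   .inr (793, 1),
   .inr (233, 1),
   .inr (809, 1),
   .inr (457, 1),
   .inr (1609, 1),
   .inr (1417, 1),
   .inr (625, 1),
   .inr (433, 1),
   .inr (721, 1),
   .inr (1361, 1),
   .inr (913, 1),
   .inr (481, 1),
   .inr (865, 1),
   .inr (1697, 1),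
   .inr (94, 1),
   .inr (158, 1),
   .inr (542, 1),
   .inr (110, 1),
   .inr (174, 1),
   .inr (302, 1),
   .inr (590, 1),
   .inr (398, 1),
   .inr (118, 1),
   .inr (182, 1),
   .inr (1078, 1),
   .inr (214, 1),
   .inr (790, 1),
   .inr (230, 1),
   .inr (806, 1),
   .inr (454, 1),
   .inr (1350, 1),
   .inr (1670, 1),
   .inr (122, 1),
   .inr (186, 1),
   .inr (314, 1),
   .inr (218, 1),
   .inr (1306, 1),
   .inr (234, 1),
   .inr (1578, 1),
   .inr (1226, 1),
   .inr (842, 1),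
   .inr (906, 1),
   .inr (370, 1),
   .inr (690, 1),
   .inr (466, 1),
   .inr (1618, 1),
   .inr (914, 1),
   .inr (738, 1),
   .inr (866, 1),
   .inr (1442, 1),
   .inr (124, 1),
   .inr (316, 1),
   .inr (572, 1),
   .inr (1116, 1),
   .inr (412, 1),
   .inr (364, 1),
   .inr (1196, 1),
   .inr (460, 1),
   .inr (716, 1),
   .inr (1804, 1),
   .inr (372, 1),
   .inr (692, 1),
   .inr (724, 1),
   .inr (852, 1),
   .inr (1428, 1),
   .inr (484, 1),
   .inr (1636, 1),
   .inr (932, 1),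
   .inr (632, 1),
   .inr (440, 1),
   .inr (472, 1),
   .inr (856, 1),
   .inr (1688, 1),
   .inr (744, 1),
   .inr (1384, 1),
   .inr (936, 1),
   .inr (496, 1),
   .inr (1264, 1),
   .inr (1840, 1),
   .inr (1984, 1),
   .inl 47]

/-- The search tree in preorder: a leaf names a relabelling, a node gives a set and the number of
ways to complete it. -/
def tree : List (Sum ℕ (ℕ × ℕ)) :=
  List.flatten [tree_0, tree_1, tree_2, tree_3, tree_4, tree_5, tree_6, tree_7, tree_8, tree_9, tree_10, tree_11, tree_12, tree_13, tree_14, tree_15, tree_16, tree_17, tree_18, tree_19, tree_20, tree_21]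

end Cfsg.Agent.Lib.Design.SmallWittData12
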