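/-
Uniqueness of the Steiner system S(5, 6, 12).
-/
import Cfsg.Agent.Lib.Design.SmallWitt.Search
import Cfsg.Agent.Lib.Design.SmallWitt.Data12

set_option autoImplicit false
set_option maxRecDepth 1000000

namespace Cfsg.Agent.Lib.Design.SmallWitt12

open Cfsg
open Cfsg.Agent.Lib.Design.SmallWitt
open Cfsg.Agent.Lib.Design.SmallWittData12

theorem pc_ok : ∀ m < 4096, m < 2 ^ (5 + 7) → (fs (5 + 7) m).card = pc m := by decide +kernel

theorem checks : perms.all (permOK (5 + 7)) = true ∧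
    std.all (fun b => decide (b < 2 ^ (5 + 7))) = true ∧
    (start 5).all (fun b => decide (b < 2 ^ (5 + 7))) = true ∧
    search (5 + 7) 5 std perms 200 (start 5) tree = some [] := by
  decide +kernel

theorem std_checks : std.all (fun b => pc b == 5 + 1) = true ∧
    ((List.range (2 ^ (5 + 7))).all fun q => pc q != 5 ||
      (std.filter fun b => q &&& b == q).length == 1) = true := by
  decide +kernel

theorem exists_mask (s : Finset (Fin (5 + 7))) : ∃ q < 2 ^ (5 + 7), fs (5 + 7) q = s := by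
  refine ⟨Nat.ofBits fun i => decide (i ∈ s), Nat.ofBits_lt_two_pow _, ?_⟩
  ext i
  rw [mem_fs, Nat.testBit_ofBits_lt _ _ i.isLt]
  simp

theorem std_system : IsSteinerSystem 5 (5 + 1) {s | ∃ b ∈ std, fs (5 + 7) b = s} := by
  have hlt : ∀ b ∈ std, b < 2 ^ (5 + 7) := fun b hb =>
    of_decide_eq_true (List.all_eq_true.1 checks.2.1 b hb)
  have hcard : ∀ m, m < 2 ^ (5 + 7) → (fs (5 + 7) m).card = pc m := fun m hm =>
    pc_ok m (lt_of_lt_of_le hm (by norm_num)) hm
  constructor
  · rintro _ ⟨b, hb, rfl⟩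
    rw [hcard b (hlt b hb)]
    exact beq_iff_eq.1 (List.all_eq_true.1 std_checks.1 b hb)
  · intro s hs
    obtain ⟨q, hq, rfl⟩ := exists_mask s
    rw [hcard q hq] at hs
    have := List.all_eq_true.1 std_checks.2 q (List.mem_range.2 hq)
    simp only [hs, bne_self_eq_false, Bool.false_or, beq_iff_eq, List.length_eq_one_iff] at this
    obtain ⟨b, hb⟩ := this
    have hsub : ∀ c ∈ std, (fs (5 + 7) q ⊆ fs (5 + 7) c ↔ c = b) := fun c hc => by
      have h1 : c ∈ [b] ↔ (q &&& c == q) = true := by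
        rw [← hb, List.mem_filter]; simp [hc]
      rw [List.mem_singleton, beq_iff_eq] at h1
      rw [h1, ← Finset.inter_eq_left, ← fs_land]
      exact ⟨fun h => fs_inj (lt_of_le_of_lt Nat.and_le_left hq) hq h, fun h => by rw [h]⟩
    have hbm : b ∈ std := (List.mem_filter.1 (hb ▸ List.mem_singleton_self b)).1
    refine ⟨fs (5 + 7) b, ⟨⟨b, hbm, rfl⟩, (hsub b hbm).2 rfl⟩, ?_⟩
    rintro _ ⟨⟨c, hc, rfl⟩, hqc⟩
    rw [(hsub c hc).1 hqc]

theorem unique {α β : Type*} [Fintype α] [DecidableEq α] [Fintype β] [DecidableEq β]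
    (hα : Fintype.card α = 5 + 7) (hβ : Fintype.card β = 5 + 7) {B : Set (Finset α)}
    {B' : Set (Finset β)} (hB : IsSteinerSystem 5 (5 + 1) B)
    (hB' : IsSteinerSystem 5 (5 + 1) B') : SetSystemIso B B' := by
  obtain ⟨h1, h2, h3, h4⟩ := checks
  have hblk : ∀ i : Fin (5 + 7), i.val < 5 + 1 ↔ (2 ^ (5 + 1) - 1).testBit i.val = true := by
    decide +kernel
  exact iso std std_system hB hB'
    (exists_model (by norm_num) (by norm_num) pc_ok h1 h2 h4 h3 hblk hB hα)
    (exists_model (by norm_num) (by norm_num) pc_ok h1 h2 h4 h3 hblk hB' hβ)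

end Cfsg.Agent.Lib.Design.SmallWitt12
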