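import Cfsg.Prelude.Def_Sporadic
import Cfsg.Agent.Lib.Design.SmallWitt.Unique11
import Cfsg.Agent.Lib.Design.SmallWitt.Unique12
import Cfsg.Agent.Lib.Golay.Dodecad
import Cfsg.Agent.Lib.Golay.DodecadPoints
import Cfsg.Agent.Lib.Design.WittAut

/-!
Automorphism groups of the small Witt systems: an automorphism fixing a block pointwise is trivial,
so the group is that of a dodecad (and a point of it) in the group of the code.
-/

set_option autoImplicit false

namespace Cfsg.Agent.Lib.Design.SmallWitt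

open Cfsg
open scoped Pointwise

/-! ### Only the identity fixes a block pointwise -/

/-- For `x ≠ z` outside the block `b` there are two blocks through `x` and the same further point
whose partners of `z` differ. -/
def freeChk (n t : ℕ) (std : List ℕ) : Bool :=
  std.all fun b => (List.range n).all fun x => (List.range n).all fun z =>
    b.testBit x || b.testBit z || x == z ||
      let C := std.filter fun m => m.testBit x && !m.testBit z && pc (m &&& b) == t - 1
      C.any fun m1 => C.any fun m2 => ((m1 ||| b) == (m2 ||| b)) &&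
        (std.filter fun M => ((m1 &&& b) &&& M) == (m1 &&& b) && M.testBit z).all fun M1 =>
          (std.filter fun M => ((m2 &&& b) &&& M) == (m2 &&& b) && M.testBit z).all fun M2 =>
            (M1 ||| b) != (M2 ||| b)

theorem freeChk_ok : freeChk (4 + 7) 4 SmallWittData11.std = true ∧
    freeChk (5 + 7) 5 SmallWittData12.std = true := by
  decide +kernel

theorem fs_lor {n : ℕ} (a b : ℕ) : fs n (a ||| b) = fs n a ∪ fs n b := by
  ext i; simp [mem_fs, Nat.testBit_lor]

theorem free_of_block {α : Type*} [Fintype α] [DecidableEq α] {t : ℕ} {std : List ℕ}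
    (hstd : IsSteinerSystem t (t + 1) {s | ∃ b ∈ std, fs (t + 7) b = s})
    (hlt : ∀ b ∈ std, b < 2 ^ (t + 7))
    (hpc : ∀ m, m < 2 ^ (t + 7) → (fs (t + 7) m).card = pc m) (ht : 1 ≤ t)
    (hchk : freeChk (t + 7) t std = true)
    {B : Set (Finset α)} (hB : IsSteinerSystem t (t + 1) B)
    (hmodel : ∃ e : α ≃ Fin (t + 7), ∀ b ∈ std, fs (t + 7) b ∈ (fun c => c.image e) '' B)
    {σ : Equiv.Perm α} (hσ : σ ∈ setSystemAut B) {b : Finset α} (hb : b ∈ B)
    (hfix : ∀ a ∈ b, σ a = a) : σ = 1 := by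
  obtain ⟨e, he⟩ := hmodel
  have hS : (fun c => c.image e) '' B = {s | ∃ b ∈ std, fs (t + 7) b = s} := by
    refine (Eq.symm ?_)
    simpa using eq_image (image_mem hB e) hstd (Equiv.refl _) fun s ⟨b, hb, hs⟩ => by
      subst hs; simpa using he b hb
  obtain ⟨bn, hbn, hbe⟩ : ∃ bn ∈ std, fs (t + 7) bn = b.image e := by
    have : b.image e ∈ (fun c => c.image e) '' B := ⟨b, hb, rfl⟩
    rw [hS] at this
    exact this
  set τ : Equiv.Perm (Fin (t + 7)) := e.permCongr σ with hτ
  have hτfix : ∀ i, bn.testBit i.val = true → τ i = i := by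
    intro i hi
    have : i ∈ b.image e := hbe ▸ mem_fs.2 hi
    obtain ⟨a, ha, rfl⟩ := Finset.mem_image.1 this
    simp [hτ, Equiv.permCongr_apply, hfix a ha]
  have hblock : ∀ m ∈ std, ∃ M ∈ std, fs (t + 7) M = (fs (t + 7) m).image τ := by
    intro m hm
    obtain ⟨c, hc, hce⟩ := he m hm
    have hmem : (c.image σ).image e ∈ (fun c => c.image e) '' B :=
      ⟨_, WittAut.mem_aut_iff.1 hσ c hc, rfl⟩
    rw [hS] at hmem
    obtain ⟨M, hM, hMe⟩ := hmem
    refine ⟨M, hM, hMe.trans ?_⟩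
    rw [← hce, Finset.image_image, Finset.image_image]
    exact Finset.image_congr fun x _ => by simp [hτ, Equiv.permCongr_apply]
  suffices hτ1 : ∀ i, τ i = i by
    refine Equiv.ext fun a => e.injective ?_
    simpa [hτ, Equiv.permCongr_apply] using hτ1 (e a)
  intro i
  by_contra hne
  set z := τ i with hz
  have hix : bn.testBit i.val = false := by
    by_contra h
    exact hne (hτfix i (by simpa using h))
  have hzx : bn.testBit z.val = false := by
    by_contra h
    exact hne (τ.injective (hτfix z (by simpa using h)))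
  have h1 := List.all_eq_true.1 (List.all_eq_true.1 (List.all_eq_true.1 hchk bn hbn) i.val
    (List.mem_range.2 i.isLt)) z.val (List.mem_range.2 z.isLt)
  rw [hix, hzx, show ((i.val == z.val) = false) from beq_false_of_ne fun h => hne (Fin.ext h).symm]
    at h1
  simp only [Bool.false_or, List.any_eq_true, Bool.and_eq_true, beq_iff_eq, List.all_eq_true,
    List.mem_filter, bne_iff_ne, Bool.not_eq_eq_eq_not, Bool.not_true] at h1
  obtain ⟨m1, ⟨hm1, ⟨hx1, hz1⟩, -⟩, m2, ⟨hm2, ⟨hx2, hz2⟩, -⟩, h12, hno⟩ := h1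
  have key : ∀ m ∈ std, m.testBit i.val = true → ∃ M ∈ std,
      ((m &&& bn) &&& M = m &&& bn) ∧ M.testBit z.val = true ∧
        fs (t + 7) (M ||| bn) = (fs (t + 7) (m ||| bn)).image τ := by
    intro m hm hmi
    obtain ⟨M, hM, hMe⟩ := hblock m hm
    refine ⟨M, hM, ?_, ?_, ?_⟩
    · have hlt' : m &&& bn < 2 ^ (t + 7) := lt_of_le_of_lt Nat.and_le_left (hlt m hm)
      refine fs_inj (lt_of_le_of_lt Nat.and_le_left hlt') hlt' ?_
      rw [fs_land, Finset.inter_eq_left, hMe]
      intro k hk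
      rw [fs_land, Finset.mem_inter] at hk
      exact Finset.mem_image.2 ⟨k, hk.1, hτfix k (mem_fs.1 hk.2)⟩
    · rw [← mem_fs, hMe]
      exact Finset.mem_image_of_mem _ (mem_fs.2 hmi)
    · rw [fs_lor, fs_lor, Finset.image_union, hMe]
      congr 1
      conv_lhs => rw [← Finset.image_id (s := fs (t + 7) bn)]
      exact Finset.image_congr fun k hk => (hτfix k (mem_fs.1 hk)).symm
  obtain ⟨M1, hM1, hs1, hzM1, he1⟩ := key m1 hm1 hx1
  obtain ⟨M2, hM2, hs2, hzM2, he2⟩ := key m2 hm2 hx2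
  refine hno M1 ⟨hM1, hs1, hzM1⟩ M2 ⟨hM2, hs2, hzM2⟩ ?_
  refine fs_inj (n := t + 7) (Nat.or_lt_two_pow (hlt M1 hM1) (hlt bn hbn))
    (Nat.or_lt_two_pow (hlt M2 hM2) (hlt bn hbn)) ?_
  rw [he1, he2, h12]

theorem fix_block {α : Type*} [Fintype α] [DecidableEq α] {t : ℕ} {B : Set (Finset α)}
    (hB : IsSteinerSystem t (t + 1) B) {σ : Equiv.Perm α} (hσ : σ ∈ setSystemAut B)
    {s : Finset α} (hs : s.card = t) (hfix : ∀ a ∈ s, σ a = a) :
    ∃ b ∈ B, ∀ a ∈ b, σ a = a := by
  obtain ⟨b, ⟨hb, hsb⟩, huniq⟩ := hB.2 s hs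
  have himg : b.image σ = b := huniq _ ⟨WittAut.mem_aut_iff.1 hσ b hb, fun a ha =>
    Finset.mem_image.2 ⟨a, hsb ha, hfix a ha⟩⟩
  refine ⟨b, hb, fun a ha => ?_⟩
  by_cases has : a ∈ s
  · exact hfix a has
  have hsa : σ a ∈ b := himg ▸ Finset.mem_image_of_mem σ ha
  have hsns : σ a ∉ s := fun h => has (by
    have := σ.injective (hfix _ h)
    rwa [← this])
  have hone : (b \ s).card = 1 := by rw [Finset.card_sdiff_of_subset hsb, hB.1 b hb, hs]; omega
  exact Finset.card_le_one.1 hone.le _ (Finset.mem_sdiff.2 ⟨hsa, hsns⟩) _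
    (Finset.mem_sdiff.2 ⟨ha, has⟩)

/-- Only the identity fixes four points of an S(4, 5, 11). -/
theorem free11 {α : Type*} [Fintype α] [DecidableEq α] (hα : Fintype.card α = 4 + 7)
    {B : Set (Finset α)} (hB : IsSteinerSystem 4 (4 + 1) B) (σ : Equiv.Perm α)
    (hσ : σ ∈ setSystemAut B) (x : Fin 4 ↪ α) (hx : ∀ i, σ (x i) = x i) : σ = 1 := by
  obtain ⟨b, hb, hfix⟩ := fix_block hB hσ (s := Finset.univ.map x) (by simp) (fun a ha => by
    obtain ⟨i, -, rfl⟩ := Finset.mem_map.1 ha; exact hx i)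
  obtain ⟨h1, h2, h3, h4⟩ := SmallWitt11.checks
  exact free_of_block SmallWitt11.std_system
    (fun b hb => of_decide_eq_true (List.all_eq_true.1 h2 b hb))
    (fun m hm => SmallWitt11.pc_ok m (lt_of_lt_of_le hm (by norm_num)) hm) (by norm_num)
    freeChk_ok.1 hB
    (exists_model (by norm_num) (by norm_num) SmallWitt11.pc_ok h1 h2 h4 h3 (by decide +kernel) hB hα)
    hσ hb hfix

/-- Only the identity fixes five points of an S(5, 6, 12). -/
theorem free12 {α : Type*} [Fintype α] [DecidableEq α] (hα : Fintype.card α = 5 + 7)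
    {B : Set (Finset α)} (hB : IsSteinerSystem 5 (5 + 1) B) (σ : Equiv.Perm α)
    (hσ : σ ∈ setSystemAut B) (x : Fin 5 ↪ α) (hx : ∀ i, σ (x i) = x i) : σ = 1 := by
  obtain ⟨b, hb, hfix⟩ := fix_block hB hσ (s := Finset.univ.map x) (by simp) (fun a ha => by
    obtain ⟨i, -, rfl⟩ := Finset.mem_map.1 ha; exact hx i)
  obtain ⟨h1, h2, h3, h4⟩ := SmallWitt12.checks
  exact free_of_block SmallWitt12.std_system
    (fun b hb => of_decide_eq_true (List.all_eq_true.1 h2 b hb))
    (fun m hm => SmallWitt12.pc_ok m (lt_of_lt_of_le hm (by norm_num)) hm) (by norm_num)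
    freeChk_ok.2 hB
    (exists_model (by norm_num) (by norm_num) SmallWitt12.pc_ok h1 h2 h4 h3 (by decide +kernel) hB hα)
    hσ hb hfix

/-- A group acting freely on `t`-tuples is at most as large as their number. -/
theorem card_aut_le {α : Type*} [Fintype α] [DecidableEq α] {t N : ℕ} {B : Set (Finset α)}
    (hfree : ∀ σ ∈ setSystemAut B, ∀ x : Fin t ↪ α, (∀ i, σ (x i) = x i) → σ = 1)
    (hN : (Fintype.card α).descFactorial t = N) (h : t ≤ Fintype.card α) :
    Nat.card (setSystemAut B) ≤ N := by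
  obtain ⟨x⟩ : Nonempty (Fin t ↪ α) :=
    Function.Embedding.nonempty_of_card_le (by simpa using h)
  refine le_of_le_of_eq (Nat.card_le_card_of_injective
    (fun σ : setSystemAut B => x.trans (σ : Equiv.Perm α).toEmbedding) fun σ ρ e => ?_)
    (by rw [Nat.card_eq_fintype_card, Fintype.card_embedding_eq, Fintype.card_fin, hN])
  have := hfree _ (mul_mem (inv_mem ρ.2) σ.2) x fun i => by
    have hi : (σ : Equiv.Perm α) (x i) = (ρ : Equiv.Perm α) (x i) := DFunLike.congr_fun e i
    rw [Equiv.Perm.mul_apply, hi, Equiv.Perm.coe_inv, Equiv.symm_apply_apply]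
  exact Subtype.ext (inv_mul_eq_one.1 this).symm

/-! ### The model on a dodecad -/

theorem exists_aut_equiv {α : Type*} [Fintype α] [DecidableEq α] (H : Subgroup M24)
    (P : GolayPt → Prop) [DecidablePred P] (Oct : Set (Finset GolayPt))
    (hP : ∀ g ∈ H, ∀ p, P ((g : Equiv.Perm GolayPt) p) ↔ P p)
    (hO : ∀ g ∈ H, ∀ o ∈ Oct, (g : Equiv.Perm GolayPt) • o ∈ Oct)
    (hfree : ∀ g ∈ H, (∀ p, P p → (g : Equiv.Perm GolayPt) p = p) → g = 1)
    {B : Set (Finset α)} (e : {p // P p} ≃ α)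
    (he : (fun b => b.image e) '' {h | ∃ o ∈ Oct, h = Finset.subtype P o} = B)
    (hle : Nat.card (setSystemAut B) ≤ Nat.card H) :
    ∃ φ : H ≃* setSystemAut B, ∀ (g : H) (p : {p // P p}),
      (φ g : Equiv.Perm α) (e p) = e ⟨(g.1 : Equiv.Perm GolayPt) p.1, (hP g.1 g.2 p.1).2 p.2⟩ := by
  let r : H →* Equiv.Perm {p // P p} :=
    { toFun := fun g => (g.1 : Equiv.Perm GolayPt).subtypePerm (hP g.1 g.2)
      map_one' := Equiv.ext fun p => rfl
      map_mul' := fun a b => Equiv.ext fun p => rfl }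
  have hmem : ∀ g : H, e.permCongr (r g) ∈ setSystemAut B := by
    intro g
    rw [WittAut.mem_aut_iff]
    rw [← he]
    rintro _ ⟨_, ⟨o, ho, rfl⟩, rfl⟩
    refine ⟨_, ⟨_, hO g.1 g.2 o ho, rfl⟩, ?_⟩
    show (Finset.subtype P ((g.1 : Equiv.Perm GolayPt) • o)).image e = _
    ext a
    obtain ⟨p, rfl⟩ := e.surjective a
    simp only [Finset.mem_image, EmbeddingLike.apply_eq_iff_eq, exists_eq_right,
      Equiv.permCongr_apply, Equiv.symm_apply_apply, exists_exists_and_eq_and, Finset.mem_subtype,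
      Golay.smul_finset_eq_image]
    constructor
    · rintro ⟨q, hq, hqp⟩
      have hPq : P q := (hP g.1 g.2 q).1 (by rw [hqp]; exact p.2)
      exact ⟨⟨q, hPq⟩, hq, congrArg e (Subtype.ext hqp) |> e.injective⟩
    · rintro ⟨q, hq, hqp⟩
      exact ⟨q.1, hq, congrArg Subtype.val hqp⟩
  let F : H →* setSystemAut B :=
    { toFun := fun g => ⟨e.permCongr (r g), hmem g⟩
      map_one' := Subtype.ext (Equiv.ext fun a => by simp [Equiv.permCongr_apply])
      map_mul' := fun a b => Subtype.ext (Equiv.ext fun x => by simp [Equiv.permCongr_apply]) }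
  have hF : Function.Injective F := by
    refine (injective_iff_map_eq_one F).2 fun g hg => Subtype.ext (hfree g.1 g.2 fun p hp => ?_)
    have := DFunLike.congr_fun (congrArg Subtype.val hg) (e ⟨p, hp⟩)
    simp only [F, MonoidHom.coe_mk, OneHom.coe_mk, Equiv.permCongr_apply, Equiv.symm_apply_apply,
      OneMemClass.coe_one, Equiv.Perm.one_apply, EmbeddingLike.apply_eq_iff_eq] at this
    exact congrArg Subtype.val this
  haveI : Finite (setSystemAut B) := inferInstance
  refine ⟨MulEquiv.ofBijective F ((Nat.bijective_iff_injective_and_card _).2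
    ⟨hF, le_antisymm (Nat.card_le_card_of_injective _ hF) hle⟩), fun g p => ?_⟩
  show e.permCongr (r g) (e p) = _
  simp only [Equiv.permCongr_apply, Equiv.symm_apply_apply]
  rfl

/-- The group of an S(5, 6, 12). -/
theorem result12 {α : Type*} [Fintype α] [DecidableEq α] (hα : Fintype.card α = 12)
    {B : Set (Finset α)} (hB : IsSteinerSystem 5 6 B) :
    IsM12 (setSystemAut B) ∧ MulAction.IsMultiplyPretransitive (setSystemAut B) α 5 ∧
      ∀ x : Fin 5 ↪ α, MulAction.stabilizer (setSystemAut B) x = ⊥ := by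
  classical
  set d := Golay.DodecadPoints.d₀ with hd
  have hdm : d ∈ dodecads := Golay.DodecadPoints.d₀_mem
  have hdc : d.card = 12 := (Golay.mem_dodecads_iff.1 hdm).2
  have hfree := free12 hα hB
  have hset : {h | ∃ o ∈ {o | o ∈ octads ∧ (o ∩ d).card = 6}, h = Finset.subtype (· ∈ d) o} =
      {h : Finset {p : GolayPt // p ∈ d} |
        ∃ o ∈ octads, (o ∩ d).card = 6 ∧ h = Finset.subtype (fun p => p ∈ d) o} := by
    ext h; simp [and_assoc]
  obtain ⟨e, he⟩ := SmallWitt12.unique (by simp [hdc]) hα (Golay.hexads_steiner hdm) hB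
  rw [← hset] at he
  set H := MulAction.stabilizer ↥M24 d with hH
  have hP : ∀ g ∈ H, ∀ p, (g : Equiv.Perm GolayPt) p ∈ d ↔ p ∈ d := fun g hg p => by
    have hg' : (g : Equiv.Perm GolayPt) • d = d := hg
    conv_lhs => rw [← hg']
    exact Finset.smul_mem_smul_finset_iff _
  have hHc : Nat.card H = 95040 := Golay.DodecadPoints.card_stab_dodecad hdm
  obtain ⟨φ, hφ⟩ := exists_aut_equiv H (· ∈ d) {o | o ∈ octads ∧ (o ∩ d).card = 6} hP
    (fun g hg o ho => ⟨Golay.M24_octad g.2 ho.1, by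
      have hg' : (g : Equiv.Perm GolayPt) • d = d := hg
      conv_lhs => rw [← hg', ← Golay.smul_inter_finset, Finset.card_smul_finset]
      exact ho.2⟩)
    (fun g hg hfix => by
      obtain ⟨x⟩ : Nonempty (Fin 5 ↪ {p // p ∈ d}) :=
        Function.Embedding.nonempty_of_card_le (by simp [hdc])
      exact Subtype.ext (Golay.stabDodecad_free hdm g.2 hg (fun i => (x i).1)
        (Subtype.val_injective.comp x.injective) (fun i => (x i).2) fun i => hfix _ (x i).2))
    e he (hHc ▸ card_aut_le hfree (by rw [hα]; rfl) (by omega))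
  refine ⟨⟨?_, ?_⟩, ⟨fun x y => ?_⟩, fun x => ?_⟩
  · haveI : IsSimpleGroup H := Golay.isSimpleGroup_stabDodecad hdm
    exact φ.symm.isSimpleGroup
  · rw [← Nat.card_congr φ.toEquiv, hHc]
  · obtain ⟨g, hg, hgd, hgx⟩ := Golay.stabDodecad_five hdm (fun i => (e.symm (x i)).1)
      (fun i => (e.symm (y i)).1) (Subtype.val_injective.comp (e.symm.injective.comp x.injective))
      (Subtype.val_injective.comp (e.symm.injective.comp y.injective))
      (fun i => (e.symm (x i)).2) (fun i => (e.symm (y i)).2)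
    refine ⟨φ ⟨⟨g, hg⟩, hgd⟩, Function.Embedding.ext fun i => ?_⟩
    show ((φ ⟨⟨g, hg⟩, hgd⟩ : setSystemAut B) : Equiv.Perm α) (x i) = y i
    have := hφ ⟨⟨g, hg⟩, hgd⟩ (e.symm (x i))
    rw [e.apply_symm_apply] at this
    rw [this, ← e.eq_symm_apply]
    exact Subtype.ext (hgx i)
  · rw [eq_bot_iff]
    intro g hg
    refine Subgroup.mem_bot.2 (Subtype.ext (hfree g.1 g.2 x fun i => ?_))
    exact DFunLike.congr_fun (show g • x = x from hg) i

/-- The group of an S(4, 5, 11). -/
theorem result11 {α : Type*} [Fintype α] [DecidableEq α] (hα : Fintype.card α = 11)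
    {B : Set (Finset α)} (hB : IsSteinerSystem 4 5 B) :
    IsM11 (setSystemAut B) ∧ MulAction.IsMultiplyPretransitive (setSystemAut B) α 4 ∧
      ∀ x : Fin 4 ↪ α, MulAction.stabilizer (setSystemAut B) x = ⊥ := by
  classical
  set d := Golay.DodecadPoints.d₀ with hd
  have hdm : d ∈ dodecads := Golay.DodecadPoints.d₀_mem
  have hdc : d.card = 12 := (Golay.mem_dodecads_iff.1 hdm).2
  obtain ⟨p0, hp0⟩ := Finset.card_pos.1 (by omega : 0 < d.card)
  let P : GolayPt → Prop := fun p => p ∈ d ∧ p ≠ p0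
  let Oct : Set (Finset GolayPt) := {o | o ∈ octads ∧ (o ∩ d).card = 6 ∧ p0 ∈ o}
  have hPc : Fintype.card {p // P p} = 4 + 7 := by
    rw [Fintype.card_subtype, show (Finset.univ.filter P) = d.erase p0 by ext; simp [P, and_comm],
      Finset.card_erase_of_mem hp0, hdc]
  have hmap : ∀ o : Finset GolayPt,
      (Finset.subtype P o).map (Function.Embedding.subtype _) = (o ∩ d).erase p0 := fun o => by
    rw [Finset.subtype_map]
    ext a; simp [P]; tauto
  have hM : IsSteinerSystem 4 (4 + 1) {h | ∃ o ∈ Oct, h = Finset.subtype P o} := by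
    constructor
    · rintro _ ⟨o, ⟨-, h6, hpo⟩, rfl⟩
      rw [← Finset.card_map (Function.Embedding.subtype _), hmap,
        Finset.card_erase_of_mem (Finset.mem_inter.2 ⟨hpo, hp0⟩), h6]
    · intro s hs
      set s' := insert p0 (s.map (Function.Embedding.subtype _)) with hs'
      have hns : p0 ∉ s.map (Function.Embedding.subtype _) := fun h => by
        obtain ⟨q, -, hq⟩ := Finset.mem_map.1 h
        exact q.2.2 hq
      have hsd : s' ⊆ d := Finset.insert_subset hp0 fun a ha => by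
        obtain ⟨q, -, rfl⟩ := Finset.mem_map.1 ha
        exact q.2.1
      have hs5 : s'.card = 5 := by rw [hs', Finset.card_insert_of_notMem hns, Finset.card_map, hs]
      obtain ⟨o, ⟨ho, hso⟩, huniq⟩ := Golay.octads_steiner.2 s' hs5
      have h6 : (o ∩ d).card = 6 := by
        obtain ⟨hle, hev⟩ := Golay.octad_dodecad_le ho hdm
        have h5 : 5 ≤ (o ∩ d).card := hs5 ▸ Finset.card_le_card (Finset.subset_inter hso hsd)
        rw [Nat.even_iff] at hev
        omega
      refine ⟨Finset.subtype P o, ⟨⟨o, ⟨ho, h6, hso (Finset.mem_insert_self _ _)⟩, rfl⟩, ?_⟩, ?_⟩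
      · intro a ha
        exact Finset.mem_subtype.2 (hso (Finset.mem_insert_of_mem (Finset.mem_map_of_mem _ ha)))
      · rintro _ ⟨⟨o', ⟨ho', -, hpo⟩, rfl⟩, hs''⟩
        rw [huniq o' ⟨ho', Finset.insert_subset hpo fun a ha => ?_⟩]
        obtain ⟨q, hq, rfl⟩ := Finset.mem_map.1 ha
        exact Finset.mem_subtype.1 (hs'' hq)
  have hfree := free11 hα hB
  obtain ⟨e, he⟩ := SmallWitt11.unique hPc hα hM hB
  set H := MulAction.stabilizer ↥M24 d ⊓ MulAction.stabilizer ↥M24 p0 with hH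
  have hP : ∀ g ∈ H, ∀ p, P ((g : Equiv.Perm GolayPt) p) ↔ P p := fun g hg p => by
    have hg' : (g : Equiv.Perm GolayPt) • d = d := hg.1
    have hg0 : (g : Equiv.Perm GolayPt) p0 = p0 := hg.2
    refine and_congr ?_ (not_congr ?_)
    · conv_lhs => rw [← hg']
      exact Finset.smul_mem_smul_finset_iff _
    · conv_lhs => rw [← hg0]
      exact EmbeddingLike.apply_eq_iff_eq _
  have hHc : Nat.card H = 7920 := Golay.card_stabDodecadPt hdm hp0
  obtain ⟨φ, hφ⟩ := exists_aut_equiv H P Oct hP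
    (fun g hg o ho => ⟨Golay.M24_octad g.2 ho.1, by
      have hg' : (g : Equiv.Perm GolayPt) • d = d := hg.1
      conv_lhs => rw [← hg', ← Golay.smul_inter_finset, Finset.card_smul_finset]
      exact ho.2.1, by
      have hg0 : (g : Equiv.Perm GolayPt) p0 = p0 := hg.2
      rw [← hg0]
      exact Finset.smul_mem_smul_finset ho.2.2⟩)
    (fun g hg hfix => by
      obtain ⟨x⟩ : Nonempty (Fin 5 ↪ {p // p ∈ d}) :=
        Function.Embedding.nonempty_of_card_le (by simp [hdc])
      refine Subtype.ext (Golay.stabDodecad_free hdm g.2 hg.1 (fun i => (x i).1)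
        (Subtype.val_injective.comp x.injective) (fun i => (x i).2) fun i => ?_)
      by_cases h : (x i).1 = p0
      · rw [h]; exact hg.2
      · exact hfix _ ⟨(x i).2, h⟩)
    e he (hHc ▸ card_aut_le hfree (by rw [hα]; rfl) (by omega))
  refine ⟨⟨?_, ?_⟩, ⟨fun x y => ?_⟩, fun x => ?_⟩
  · haveI : IsSimpleGroup H := Golay.isSimpleGroup_stabDodecadPt hdm hp0
    exact φ.symm.isSimpleGroup
  · rw [← Nat.card_congr φ.toEquiv, hHc]
  · have hinj : ∀ z : Fin 4 ↪ α, Function.Injective
        (Fin.cons p0 fun i => (e.symm (z i)).1 : Fin 5 → GolayPt) := fun z =>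
      Fin.cons_injective_iff.2 ⟨fun ⟨i, hi⟩ => (e.symm (z i)).2.2 hi,
        Subtype.val_injective.comp (e.symm.injective.comp z.injective)⟩
    have hin : ∀ (z : Fin 4 ↪ α) (i : Fin 5),
        (Fin.cons p0 fun i => (e.symm (z i)).1 : Fin 5 → GolayPt) i ∈ d := fun z i =>
      Fin.cases hp0 (fun j => (e.symm (z j)).2.1) i
    obtain ⟨g, hg, hgd, hgx⟩ := Golay.stabDodecad_five hdm _ _ (hinj x) (hinj y) (hin x) (hin y)
    have hg0 : g p0 = p0 := by simpa using hgx 0
    refine ⟨φ ⟨⟨g, hg⟩, hgd, hg0⟩, Function.Embedding.ext fun i => ?_⟩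
    show ((φ ⟨⟨g, hg⟩, hgd, hg0⟩ : setSystemAut B) : Equiv.Perm α) (x i) = y i
    have := hφ ⟨⟨g, hg⟩, hgd, hg0⟩ (e.symm (x i))
    rw [e.apply_symm_apply] at this
    rw [this, ← e.eq_symm_apply]
    exact Subtype.ext (by simpa using hgx i.succ)
  · rw [eq_bot_iff]
    intro g hg
    refine Subgroup.mem_bot.2 (Subtype.ext (hfree g.1 g.2 x fun i => ?_))
    exact DFunLike.congr_fun (show g • x = x from hg) i

end Cfsg.Agent.Lib.Design.SmallWitt
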